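import Groth.Agent.SiteBase.Basic
import Groth.Prelude.Def_CohCx
import Mathlib.CategoryTheory.Sites.EpiMono

/-!
# Free abelian sheaves on sheaves of sets
-/

universe u

open CategoryTheory CategoryTheory.Limits Opposite

namespace Groth.Agent.SiteBase

variable {C : Type u} [SmallCategory C] {J : GrothendieckTopology C}

variable (J) in
/-- The free abelian sheaf functor. -/
noncomputable abbrev freeShFun : Sheaf J (Type u) ⥤ Sheaf J AddCommGrpCat.{u} :=
  sheafToPresheaf J (Type u) ⋙ (Functor.whiskeringRight _ _ _).obj AddCommGrpCat.free.{u} ⋙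
    presheafToSheaf J AddCommGrpCat.{u}

variable (J) in
/-- The sheaf of sets of an object. -/
noncomputable abbrev shYoneda (U : C) : Sheaf J (Type u) :=
  (presheafToSheaf J (Type u)).obj (yoneda.obj U)

/-- `Hom(Z[K], F) ≃ Hom(K, F)`. -/
noncomputable def freeShEquiv (K : Sheaf J (Type u)) (F : Sheaf J AddCommGrpCat.{u}) :
    ((freeShFun J).obj K ⟶ F) ≃ (K.obj ⟶ F.obj ⋙ forget AddCommGrpCat.{u}) :=
  ((sheafificationAdjunction J AddCommGrpCat.{u}).homEquiv _ F).trans
    ((AddCommGrpCat.adj.whiskerRight Cᵒᵖ).homEquiv K.obj F.obj)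

theorem freeShEquiv_comp (K : Sheaf J (Type u)) {F G : Sheaf J AddCommGrpCat.{u}}
    (φ : (freeShFun J).obj K ⟶ F) (f : F ⟶ G) :
    freeShEquiv K G (φ ≫ f) =
      freeShEquiv K F φ ≫ Functor.whiskerRight f.hom (forget AddCommGrpCat.{u}) := by
  simp only [freeShEquiv, Equiv.trans_apply]
  erw [Adjunction.homEquiv_naturality_right, Adjunction.homEquiv_naturality_right]
  rfl

theorem freeShEquiv_naturality {K L : Sheaf J (Type u)} (a : K ⟶ L) (F : Sheaf J AddCommGrpCat.{u})
    (φ : (freeShFun J).obj L ⟶ F) :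
    freeShEquiv K F ((freeShFun J).map a ≫ φ) = a.hom ≫ freeShEquiv L F φ := by
  simp only [freeShEquiv, Equiv.trans_apply]
  erw [Adjunction.homEquiv_naturality_left, Adjunction.homEquiv_naturality_left]
  rfl

/-- Sections of a sheaf of sets at an object, as morphisms from the sheaf of the object. -/
noncomputable def shYonedaEquiv (U : C) (F : Sheaf J (Type u)) :
    (shYoneda J U ⟶ F) ≃ F.obj.obj (op U) :=
  ((sheafificationAdjunction J (Type u)).homEquiv _ F).trans yonedaEquiv

theorem shYonedaEquiv_comp (U : C) {F G : Sheaf J (Type u)} (φ : shYoneda J U ⟶ F) (f : F ⟶ G) :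
    shYonedaEquiv U G (φ ≫ f) = f.hom.app (op U) (shYonedaEquiv U F φ) := by
  simp only [shYonedaEquiv, Equiv.trans_apply]
  erw [Adjunction.homEquiv_naturality_right, yonedaEquiv_comp]

/-- `Hom(Z[h_U], F) ≃ F(U)`. -/
noncomputable def freeShYonedaEquiv (U : C) (F : Sheaf J AddCommGrpCat.{u}) :
    ((freeShFun J).obj (shYoneda J U) ⟶ F) ≃ F.obj.obj (op U) :=
  (freeShEquiv (shYoneda J U) F).trans
    ((ObjectProperty.fullyFaithfulι _).homEquiv.symm.trans
      (shYonedaEquiv U ((sheafCompose J (forget AddCommGrpCat.{u})).obj F)))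

theorem freeShYonedaEquiv_comp (U : C) {F G : Sheaf J AddCommGrpCat.{u}}
    (φ : (freeShFun J).obj (shYoneda J U) ⟶ F) (f : F ⟶ G) :
    freeShYonedaEquiv U G (φ ≫ f) = f.hom.app (op U) (freeShYonedaEquiv U F φ) := by
  simp only [freeShYonedaEquiv, Equiv.trans_apply]
  rw [freeShEquiv_comp]
  exact shYonedaEquiv_comp U (G := (sheafCompose J (forget AddCommGrpCat.{u})).obj G)
    (ObjectProperty.homMk (Y := (sheafCompose J (forget AddCommGrpCat.{u})).obj F)
      (freeShEquiv (shYoneda J U) F φ))
    ((sheafCompose J (forget AddCommGrpCat.{u})).map f)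

/-- The free abelian sheaf on the sheaf of an object is the free abelian sheaf on the object. -/
noncomputable def freeShYonedaIso (U : C) : (freeShFun J).obj (shYoneda J U) ≅ freeAb J U :=
  Coyoneda.fullyFaithful.preimageIso (X := op ((freeShFun J).obj (shYoneda J U))) (Y := op (freeAb J U))
    (NatIso.ofComponents (fun F => ((freeShYonedaEquiv U F).trans (secEquiv U F).symm).toIso)
      (fun {F G} f => by
        ext φ
        show (secEquiv U G).symm (freeShYonedaEquiv U G (φ ≫ f)) =
          (secEquiv U F).symm (freeShYonedaEquiv U F φ) ≫ f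
        rw [freeShYonedaEquiv_comp, secEquiv_symm_comp])) |>.unop.symm

/-- `H^n(U, F)` is cohomology with respect to the sheaf of `U`. -/
noncomputable def HKYonedaEquiv (F : Sheaf J AddCommGrpCat.{u}) (n : ℕ) (U : C) :
    CohSite.HU F n U ≃+ CohCx.HK (shYoneda J U) F n where
  toFun x := (Abelian.Ext.mk₀ (freeShYonedaIso U).hom).comp x (zero_add n)
  invFun x := (Abelian.Ext.mk₀ (freeShYonedaIso U).inv).comp x (zero_add n)
  left_inv x := by simp
  right_inv x := by simp
  map_add' x y := Abelian.Ext.comp_add _ x y _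

end Groth.Agent.SiteBase
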