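import Groth.Prelude.Def_CohCx
import Groth.Agent.SiteBase.Free

/-!
# Presheaf cohomology with respect to covering sieves
-/

universe u

open CategoryTheory Limits Opposite Abelian

noncomputable section

namespace Groth.Agent.SiteBase

variable {C : Type u} [SmallCategory C] (J : GrothendieckTopology C)

/-- A sheaf seen as a sheaf for the trivial topology. -/
def toBot : Sheaf J AddCommGrpCat.{u} ⥤ Sheaf (⊥ : GrothendieckTopology C) AddCommGrpCat.{u} :=
  ObjectProperty.lift _ (sheafToPresheaf J AddCommGrpCat.{u}) fun _ => Presheaf.isSheaf_bot _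

/-- Sheafification, from sheaves for the trivial topology. -/
abbrev fromBot : Sheaf (⊥ : GrothendieckTopology C) AddCommGrpCat.{u} ⥤ Sheaf J AddCommGrpCat.{u} :=
  sheafToPresheaf _ _ ⋙ presheafToSheaf J AddCommGrpCat.{u}

/-- `fromBot` is left adjoint to `toBot`. -/
def fromBotAdj : fromBot J ⊣ toBot J :=
  Adjunction.mkOfHomEquiv
    { homEquiv := fun P G => ((sheafificationAdjunction J AddCommGrpCat.{u}).homEquiv P.obj G).trans
        (Functor.FullyFaithful.homEquiv (fullyFaithfulSheafToPresheaf
          (⊥ : GrothendieckTopology C) AddCommGrpCat.{u}) (X := P) (Y := (toBot J).obj G)).symm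
      homEquiv_naturality_left_symm := by
        intro X' X Y f g
        exact (sheafificationAdjunction J AddCommGrpCat.{u}).homEquiv_naturality_left_symm f.hom g.hom
      homEquiv_naturality_right := by
        intro X Y Y' f g
        ext1
        exact (sheafificationAdjunction J AddCommGrpCat.{u}).homEquiv_naturality_right f g }

theorem injective_toBot (I : Sheaf J AddCommGrpCat.{u}) [Injective I] :
    Injective ((toBot J).obj I) := by
  haveI : (fromBot J).PreservesMonomorphisms := inferInstance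
  exact Injective.injective_of_adjoint (fromBotAdj J) I

instance : (toBot J).Additive where
  map_add := rfl

instance : (toBot J).PreservesZeroMorphisms := inferInstance

variable {J}

theorem toBot_exact_mono {S : ShortComplex (Sheaf J AddCommGrpCat.{u})} (hS : S.ShortExact) :
    (S.map (toBot J)).Exact ∧ Mono (S.map (toBot J)).f := by
  haveI := hS.mono_f
  haveI : PreservesLimitsOfSize.{0, 0} (toBot J) := (fromBotAdj J).rightAdjoint_preservesLimits
  exact ⟨ShortComplex.exact_of_f_is_kernel _ (KernelFork.mapIsLimit _ hS.fIsKernel (toBot J)),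
    inferInstanceAs (Mono ((toBot J).map S.f))⟩

theorem toBot_shortExact {S : ShortComplex (Sheaf J AddCommGrpCat.{u})} (hS : S.ShortExact)
    (h : ∀ U : C, Subsingleton (CohSite.HU S.X₁ 1 U)) : (S.map (toBot J)).ShortExact := by
  obtain ⟨h1, h2⟩ := toBot_exact_mono hS
  haveI : Sheaf.IsLocallySurjective ((toBot J).map S.g) := by
    refine ⟨fun {U} s => ?_⟩
    obtain ⟨t, ht⟩ := sections_surjective hS U (h U) s
    refine GrothendieckTopology.superset_covering _ (fun V i _ => ?_) (GrothendieckTopology.top_mem _ U)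
    exact ⟨S.X₂.obj.map i.op t, (NatTrans.naturality_apply S.g.hom i.op t).trans
      (congrArg (S.X₃.obj.map i.op) ht)⟩
  exact { exact := h1, mono_f := h2, epi_g := Sheaf.epi_of_isLocallySurjective ((toBot J).map S.g) }

/-- A covering sieve, as a sheaf of sets for the trivial topology. -/
abbrev sieveSh {X : C} (R : Sieve X) : Sheaf (⊥ : GrothendieckTopology C) (Type u) :=
  ⟨R.functor, Presheaf.isSheaf_bot _⟩

/-- Compatible families on a covering sieve in a sheaf extend. -/
theorem sieve_extend {X : C} {R : Sieve X} (hR : R ∈ J X) (F : Sheaf J AddCommGrpCat.{u})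
    (φ : (freeShFun ⊥).obj (sieveSh R) ⟶ (toBot J).obj F) :
    ∃! x : F.obj.obj (op X), ∀ (V : C) (i : V ⟶ X) (hi : R i),
      (freeShEquiv (sieveSh R) _ φ).app (op V) ⟨i, hi⟩ = F.obj.map i.op x := by
  have hsh : Presieve.IsSheaf J (F.obj ⋙ forget AddCommGrpCat.{u}) :=
    (isSheaf_iff_isSheaf_of_type _ _).1 ((sheafCompose J (forget AddCommGrpCat.{u})).obj F).property
  obtain ⟨g, hg, huniq⟩ := Presieve.isSheafFor_iff_yonedaSheafCondition.1 (hsh R hR)
    (freeShEquiv (sieveSh R) _ φ)
  refine ⟨yonedaEquiv g, fun V i hi => ?_, fun y hy => ?_⟩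
  · refine (ConcreteCategory.congr_hom (congr_app hg (op V)) ⟨i, hi⟩).symm.trans ?_
    change g.app (op V) i = F.obj.map i.op (g.app (op X) (𝟙 X))
    have h := (NatTrans.naturality_apply g i.op (𝟙 X))
    refine Eq.trans (congrArg (g.app (op V)) ?_) h
    exact (Category.comp_id i).symm
  · have hy' : R.functorInclusion ≫ yonedaEquiv.symm y = freeShEquiv (sieveSh R) _ φ := by
      ext V z
      exact (hy V.unop z.1 z.2).symm
    exact ((yonedaEquiv (F := F.obj ⋙ forget AddCommGrpCat.{u})).apply_symm_apply y).symm.trans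
      (congrArg yonedaEquiv (huniq _ hy'))

/-- Naturality for sieves. -/
theorem freeShEquiv_sieve_comp {X : C} (R : Sieve X)
    {A B : Sheaf (⊥ : GrothendieckTopology C) AddCommGrpCat.{u}}
    (φ : (freeShFun ⊥).obj (sieveSh R) ⟶ A) (g : A ⟶ B) (V : C) (z : R.functor.obj (op V)) :
    (freeShEquiv (sieveSh R) B (φ ≫ g)).app (op V) z =
      g.hom.app (op V) ((freeShEquiv (sieveSh R) A φ).app (op V) z) :=
  ConcreteCategory.congr_hom (congr_app (freeShEquiv_comp (sieveSh R) φ g) (op V)) z

/-- `C`-acyclic sheaves have no cohomology on covering sieves. -/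
theorem subsingleton_sieve (F : Sheaf J AddCommGrpCat.{u})
    (hF : ∀ (X : C) (q : ℕ), Subsingleton (CohSite.HU F (q + 1) X)) {X : C} {R : Sieve X}
    (hR : R ∈ J X) (q : ℕ) :
    Subsingleton (CohCx.HK (sieveSh R) ((toBot J).obj F) (q + 1)) := by
  induction q generalizing F with
  | zero =>
    obtain ⟨S, hS, rfl, hI⟩ := exists_injective_presentation F
    haveI := hI
    haveI : Injective (S.map (toBot J)).X₂ := injective_toBot J S.X₂
    have hSb := toBot_shortExact hS (fun U => hF U 0)
    refine subsingleton_of_forall_eq 0 fun x => ?_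
    obtain ⟨x₃, rfl⟩ := Ext.covariant_sequence_exact₁ _ hSb x
      (Ext.eq_zero_of_injective _) (zero_add 1)
    obtain ⟨s, rfl⟩ := (Ext.mk₀_bijective _ _).2 x₃
    obtain ⟨x, hx, -⟩ := sieve_extend hR S.X₃ s
    obtain ⟨y, hy⟩ := sections_surjective hS X (hF X 0) x
    let yb : R.functor ⟶ S.X₂.obj ⋙ forget AddCommGrpCat.{u} :=
      R.functorInclusion ≫ (yonedaEquiv (F := S.X₂.obj ⋙ forget AddCommGrpCat.{u})).symm y
    let t : (freeShFun ⊥).obj (sieveSh R) ⟶ (S.map (toBot J)).X₂ :=
      (freeShEquiv (sieveSh R) ((toBot J).obj S.X₂)).symm yb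
    have ht : t ≫ (S.map (toBot J)).g = s := by
      apply (freeShEquiv (sieveSh R) ((toBot J).obj S.X₃)).injective
      ext ⟨V⟩ ⟨i, hi⟩
      refine (freeShEquiv_sieve_comp R t ((toBot J).map S.g) V ⟨i, hi⟩).trans ?_
      rw [show freeShEquiv (sieveSh R) _ t = yb from Equiv.apply_symm_apply _ _]
      exact (NatTrans.naturality_apply S.g.hom i.op y).trans
        ((congrArg (S.X₃.obj.map i.op) hy).trans (hx V i hi).symm)
    rw [← ht, ← Ext.mk₀_comp_mk₀, Ext.comp_assoc_of_second_deg_zero,
      ShortComplex.ShortExact.comp_extClass, Ext.comp_zero]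
    exact rfl
  | succ q ih =>
    obtain ⟨S, hS, rfl, hI⟩ := exists_injective_presentation F
    haveI := hI
    haveI : Injective (S.map (toBot J)).X₂ := injective_toBot J S.X₂
    have hSb := toBot_shortExact hS (fun U => hF U 0)
    haveI := ih S.X₃ (fun U p => subsingleton_quot hS U (p + 1) (subsingleton_of_injective U _ p)
      (hF U (p + 1)))
    refine subsingleton_of_forall_eq 0 fun x => ?_
    obtain ⟨x₃, rfl⟩ := Ext.covariant_sequence_exact₁ _ hSb x
      (Ext.eq_zero_of_injective _) rfl
    rw [show x₃ = 0 from Subsingleton.elim (α := CohCx.HK (sieveSh R) ((toBot J).obj S.X₃) (q + 1))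
      _ _, Ext.zero_comp]
    exact rfl

/-- The sieve condition gives vanishing of first cohomology. -/
theorem subsingleton_HU_one_of_sieve (F : Sheaf J AddCommGrpCat.{u})
    (hF : ∀ (X : C) (R : Sieve X), R ∈ J X →
      Subsingleton (CohCx.HK (sieveSh R) ((toBot J).obj F) 1))
    (X : C) : Subsingleton (CohSite.HU F 1 X) := by
  obtain ⟨S, hS, rfl, hI⟩ := exists_injective_presentation F
  haveI := hI
  refine subsingleton_one hS X (subsingleton_of_injective X _ 0) fun s => ?_
  obtain ⟨hbe, hbm⟩ := toBot_exact_mono hS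
  haveI := hbm
  haveI := hS.epi_g
  haveI : Presheaf.IsLocallySurjective J S.g.hom :=
    (Sheaf.isLocallySurjective_iff_epi' AddCommGrpCat.{u} S.g).2 inferInstance
  let R := Presheaf.imageSieve S.g.hom s
  have hR : R ∈ J X := Presheaf.imageSieve_mem J S.g.hom (U := op X) s
  let f := (S.map (toBot J)).f
  let Q := cokernel f
  let c : Q ⟶ (toBot J).obj S.X₃ := cokernel.desc f ((toBot J).map S.g) (S.map (toBot J)).zero
  have hπc : cokernel.π f ≫ c = (toBot J).map S.g := cokernel.π_desc _ _ _
  haveI : Mono c := hbe.mono_cokernelDesc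
  have hinj : ∀ U : Cᵒᵖ, Function.Injective (c.hom.app U) := fun U => by
    haveI : Mono c.hom := inferInstanceAs (Mono ((sheafToPresheaf _ _).map c))
    exact (AddCommGrpCat.mono_iff_injective _).1 (NatTrans.mono_iff_mono_app c.hom |>.1 inferInstance U)
  let qQ : R.functor ⟶ Q.obj ⋙ forget AddCommGrpCat.{u} :=
    { app := fun V => TypeCat.ofHom fun z => (cokernel.π f).hom.app V z.2.choose
      naturality := fun V W i => by
        ext z
        apply hinj W
        have e : ∀ (V : Cᵒᵖ) (z : R.functor.obj V),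
            c.hom.app V ((cokernel.π f).hom.app V z.2.choose) = S.X₃.obj.map z.1.op s := fun V z =>
          (ConcreteCategory.congr_hom (congr_app (congrArg (·.hom) hπc) V) _).trans z.2.choose_spec
        refine (e W _).trans ?_
        refine Eq.trans ?_ (NatTrans.naturality_apply c.hom i _).symm
        refine Eq.trans ?_ (congrArg (S.X₃.obj.map i) (e V z)).symm
        exact ConcreteCategory.congr_hom (S.X₃.obj.map_comp z.1.op i) s }
  let sQ := (freeShEquiv (sieveSh R) Q).symm qQ
  have hSQ : (ShortComplex.mk f (cokernel.π f) (cokernel.condition f)).ShortExact :=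
    { exact := ShortComplex.exact_cokernel f }
  haveI := hF X R hR
  obtain ⟨x₂, hx₂⟩ := Ext.covariant_sequence_exact₃ ((freeShFun ⊥).obj (sieveSh R)) hSQ
    (Ext.mk₀ sQ) (zero_add 1)
    (Subsingleton.elim (α := CohCx.HK (sieveSh R) ((toBot J).obj S.X₁) 1) _ _)
  obtain ⟨t, rfl⟩ := (Ext.mk₀_bijective _ _).2 x₂
  rw [Ext.mk₀_comp_mk₀] at hx₂
  have ht : t ≫ cokernel.π f = sQ := (Ext.mk₀_bijective _ _).1 hx₂
  obtain ⟨T, hT, -⟩ := sieve_extend hR S.X₂ t
  refine ⟨T, ?_⟩
  have hsep := (((isSheaf_iff_isSheaf_of_type _ _).1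
    ((sheafCompose J (forget AddCommGrpCat.{u})).obj S.X₃).property) R hR).isSeparatedFor
  refine hsep.ext fun V i hi => ?_
  change S.X₃.obj.map i.op (S.g.hom.app (op X) T) = S.X₃.obj.map i.op s
  rw [← NatTrans.naturality_apply S.g.hom i.op T, ← hT V i hi]
  refine (ConcreteCategory.congr_hom (congr_app (congrArg (·.hom) hπc) (op V)) _).symm.trans ?_
  change c.hom.app (op V) ((cokernel.π f).hom.app (op V) _) = _
  refine (congrArg (fun w => c.hom.app (op V) w)
    ((freeShEquiv_sieve_comp R t (cokernel.π f) V ⟨i, hi⟩).symm.trans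
      (ConcreteCategory.congr_hom (congr_app ((congrArg (freeShEquiv (sieveSh R) Q) ht).trans
        (Equiv.apply_symm_apply _ qQ)) (op V)) ⟨i, hi⟩))).trans ?_
  have hz : ∀ z : R.functor.obj (op V), S.g.hom.app (op V) z.2.choose = S.X₃.obj.map z.1.op s :=
    fun z => z.2.choose_spec
  exact (ConcreteCategory.congr_hom (congr_app (congrArg (·.hom) hπc) (op V)) _).trans
    (hz ⟨i, hi⟩)

/-- No cohomology on covering sieves implies `C`-acyclicity. -/
theorem subsingleton_HU_of_sieve (F : Sheaf J AddCommGrpCat.{u})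
    (hF : ∀ (X : C) (R : Sieve X), R ∈ J X → ∀ q : ℕ,
      Subsingleton (CohCx.HK (sieveSh R) ((toBot J).obj F) (q + 1)))
    (X : C) (p : ℕ) : Subsingleton (CohSite.HU F (p + 1) X) := by
  induction p generalizing F X with
  | zero => exact subsingleton_HU_one_of_sieve F (fun X R hR => hF X R hR 0) X
  | succ p ih =>
    have h1 := fun X => subsingleton_HU_one_of_sieve F (fun X R hR => hF X R hR 0) X
    obtain ⟨S, hS, rfl, hI⟩ := exists_injective_presentation F
    haveI := hI
    haveI : Injective (S.map (toBot J)).X₂ := injective_toBot J S.X₂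
    have hSb := toBot_shortExact hS h1
    refine subsingleton_shift hS X (p + 1) (subsingleton_of_injective X _ (p + 1))
      (ih S.X₃ (fun Y R hR q => ?_) X)
    haveI := hF Y R hR (q + 1)
    refine subsingleton_of_forall_eq 0 fun x => ?_
    obtain ⟨x₂, rfl⟩ := Ext.covariant_sequence_exact₃ _ hSb x rfl
      (Subsingleton.elim (α := CohCx.HK (sieveSh R) ((toBot J).obj S.X₁) (q + 1 + 1)) _ _)
    rw [Ext.eq_zero_of_injective x₂, Ext.zero_comp]
    exact rfl

end Groth.Agent.SiteBase
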