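import Mathlib


/-!
# Ext groups and adjunctions

For `L ⊣ G` between abelian categories with `G` exact and sending injective objects to objects
without higher Ext out of the objects considered, `Ext(L X, F) ≃ Ext(X, G F)`.
-/

set_option linter.style.haveILetI false

universe w w' v v' u u'

open CategoryTheory Limits Abelian

noncomputable section

namespace Groth.Agent.SiteBase

variable {A : Type u} [Category.{v} A] [Abelian A] [HasExt.{w} A]
  {B : Type u'} [Category.{v'} B] [Abelian B] [HasExt.{w'} B]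
  {G : A ⥤ B} [G.Additive] [PreservesFiniteLimits G] [PreservesFiniteColimits G]

section unit

variable {X : B} {Y : A} (η : X ⟶ G.obj Y)

/-- The map `Ext(Y, F) → Ext(X, G F)` given by a map `X ⟶ G Y`. -/
def extUnitHom (F : A) (n : ℕ) : Ext.{w} Y F n →+ Ext.{w'} X (G.obj F) n where
  toFun x := (Ext.mk₀ η).comp (x.mapExactFunctor G) (zero_add n)
  map_zero' := by
    rw [Ext.mapExactFunctor_zero.{w, w'} G]
    exact Ext.comp_zero (Ext.mk₀ η) _ _ _ _
  map_add' x y := by
    rw [Ext.mapExactFunctor_add]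
    exact Ext.comp_add _ _ _ _

theorem extUnitHom_apply (F : A) (n : ℕ) (x : Ext.{w} Y F n) :
    extUnitHom η F n x = (Ext.mk₀ η).comp (x.mapExactFunctor G) (zero_add n) :=
  rfl

theorem extUnitHom_comp {F F' : A} {n m k : ℕ} (x : Ext.{w} Y F n)
    (y : Ext.{w} F F' m) (h : n + m = k) :
    extUnitHom η F' k (x.comp y h) = (extUnitHom η F n x).comp (y.mapExactFunctor G) h := by
  rw [extUnitHom_apply, extUnitHom_apply, Ext.mapExactFunctor_comp]
  exact (Ext.comp_assoc _ _ _ (zero_add n) h (by lia)).symm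

theorem extUnitHom_mk₀ {F : A} (φ : Y ⟶ F) :
    extUnitHom η F 0 (Ext.mk₀ φ) = Ext.mk₀ (η ≫ G.map φ) := by
  rw [extUnitHom_apply, Ext.mapExactFunctor_mk₀, Ext.mk₀_comp_mk₀]

variable (hη : ∀ F : A, Function.Bijective fun φ : Y ⟶ F => η ≫ G.map φ)

include hη in
theorem extUnitHom_zero_bijective (F : A) : Function.Bijective (extUnitHom η F 0) := by
  constructor
  · intro x y h
    obtain ⟨a, rfl⟩ := (Ext.mk₀_bijective _ _).2 x
    obtain ⟨b, rfl⟩ := (Ext.mk₀_bijective _ _).2 y
    rw [extUnitHom_mk₀, extUnitHom_mk₀] at h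
    exact congrArg Ext.mk₀ ((hη F).1 ((Ext.mk₀_bijective _ _).1 h))
  · intro y
    obtain ⟨b, rfl⟩ := (Ext.mk₀_bijective _ _).2 y
    obtain ⟨a, ha⟩ := (hη F).2 b
    exact ⟨Ext.mk₀ a, (extUnitHom_mk₀ η a).trans (congrArg Ext.mk₀ ha)⟩

variable [EnoughInjectives A]
  (hX : ∀ (I : A) [Injective I] (n : ℕ), Subsingleton (Ext.{w'} X (G.obj I) (n + 1)))

include hη hX in
theorem extUnitHom_bijective (n : ℕ) (F : A) : Function.Bijective (extUnitHom η F n) := by
  induction n generalizing F with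
  | zero => exact extUnitHom_zero_bijective η hη F
  | succ n ih =>
    let S := ShortComplex.mk (Injective.ι F) (cokernel.π (Injective.ι F)) (cokernel.condition _)
    have hS : S.ShortExact :=
      { exact := ShortComplex.exact_of_g_is_cokernel _ (cokernelIsCokernel (Injective.ι F)) }
    haveI : Subsingleton (Ext.{w'} X (S.map G).X₂ (n + 1)) := hX (Injective.under F) n
    haveI : Injective S.X₂ := inferInstanceAs (Injective (Injective.under F))
    haveI : Subsingleton (Ext.{w} Y S.X₂ (n + 1)) :=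
      Ext.subsingleton_of_injective Y S.X₂ n
    refine ⟨(injective_iff_map_eq_zero _).2 fun x hx => ?_, fun y => ?_⟩
    · obtain ⟨q, rfl⟩ := Ext.covariant_sequence_exact₁ Y hS x (Subsingleton.elim _ _) rfl
      rw [extUnitHom_comp, Ext.mapExactFunctor_extClass] at hx
      obtain ⟨i', hi'⟩ := Ext.covariant_sequence_exact₃ X (hS.map_of_exact G)
        (extUnitHom η S.X₃ n q) rfl hx
      obtain ⟨i, rfl⟩ := (ih S.X₂).2 i'
      have e : extUnitHom η S.X₃ n (i.comp (Ext.mk₀ S.g) (add_zero n)) =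
          extUnitHom η S.X₃ n q := by
        rw [extUnitHom_comp, Ext.mapExactFunctor_mk₀]
        exact hi'
      rw [← (ih S.X₃).1 e, Ext.comp_assoc_of_second_deg_zero, ShortComplex.ShortExact.comp_extClass,
        Ext.comp_zero]
    · obtain ⟨q', rfl⟩ := Ext.covariant_sequence_exact₁ X (hS.map_of_exact G) y
        (Subsingleton.elim _ _) rfl
      obtain ⟨q, rfl⟩ := (ih S.X₃).2 q'
      exact ⟨q.comp hS.extClass rfl, by rw [extUnitHom_comp, Ext.mapExactFunctor_extClass]; rfl⟩

/-- `Ext(Y, F) ≃ Ext(X, G F)` for a universal map `X ⟶ G Y`. -/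
def extUnitEquiv (F : A) (n : ℕ) : Ext.{w} Y F n ≃+ Ext.{w'} X (G.obj F) n :=
  AddEquiv.ofBijective (extUnitHom η F n) (extUnitHom_bijective η hη hX n F)

end unit

variable {L : B ⥤ A} (adj : L ⊣ G) [EnoughInjectives A] (X : B)
  (hX : ∀ (I : A) [Injective I] (n : ℕ), Subsingleton (Ext.{w'} X (G.obj I) (n + 1)))

/-- `Ext(L X, F) ≃ Ext(X, G F)`. -/
def extAdjEquiv (F : A) (n : ℕ) : Ext.{w} (L.obj X) F n ≃+ Ext.{w'} X (G.obj F) n :=
  extUnitEquiv (G := G) (X := X) (Y := L.obj X) (adj.unit.app X) (fun F => by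
    have e : (fun φ : L.obj X ⟶ F => adj.unit.app X ≫ G.map φ) = adj.homEquiv X F :=
      funext fun φ => (adj.homEquiv_unit X F φ).symm
    rw [e]
    exact (adj.homEquiv X F).bijective) hX F n

end Groth.Agent.SiteBase
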