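import Groth.Prelude.Def_CohSite
import Mathlib.Algebra.Category.Grp.LeftExactFunctor
import Mathlib.Algebra.Category.Grp.Limits
import Mathlib.CategoryTheory.Sites.Pullback
import Mathlib.CategoryTheory.Sites.Limits
import Mathlib.CategoryTheory.Limits.Preserves.FunctorCategory
import Mathlib.CategoryTheory.Preadditive.AdditiveFunctor
import Mathlib.CategoryTheory.Preadditive.Injective.Preserves

/-!
# Inverse image of abelian sheaves along a morphism of topoi

If the inverse image of sheaves of sets along a continuous functor is left exact, so is the inverse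
image of abelian sheaves, and it commutes with forgetting the group structure.
-/

universe v u

open CategoryTheory Limits Opposite

namespace Groth.Agent.SiteBase

section natural

variable {E : Type*} [Category E] [Preadditive E] [HasBinaryBiproducts E]
  (F G : E ⥤ AddCommGrpCat.{u}) [F.Additive] [G.Additive]

/-- Natural maps between additive functors to abelian groups are additive. -/
theorem map_add_of_natural (τ : ∀ X, F.obj X → G.obj X)
    (hτ : ∀ {X Y : E} (f : X ⟶ Y) (a : F.obj X), τ Y (F.map f a) = G.map f (τ X a))
    (X : E) (a b : F.obj X) : τ X (a + b) = τ X a + τ X b := by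
  let c : F.obj (X ⊞ X) := F.map biprod.inl a + F.map biprod.inr b
  have h₁ : F.map biprod.fst c = a := by
    simp [c, ← ConcreteCategory.comp_apply, ← F.map_comp]
  have h₂ : F.map biprod.snd c = b := by
    simp [c, ← ConcreteCategory.comp_apply, ← F.map_comp]
  have h : F.map (biprod.fst + biprod.snd) c = a + b := by
    rw [F.map_add]
    show F.map biprod.fst c + F.map biprod.snd c = a + b
    rw [h₁, h₂]
  rw [← h, hτ, G.map_add]
  show G.map biprod.fst (τ _ c) + G.map biprod.snd (τ _ c) = _
  rw [← hτ, ← hτ, h₁, h₂]

end natural

variable {C D : Type u} [SmallCategory C] [SmallCategory D] (J : GrothendieckTopology C)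
  (K : GrothendieckTopology D) (u : D ⥤ C) [u.IsContinuous K J]

local instance : HasFiniteBiproducts (Sheaf J AddCommGrpCat.{u}) := Abelian.hasFiniteBiproducts

/-- The sheaf of sets underlying an abelian sheaf. -/
noncomputable abbrev forgetS : Sheaf J AddCommGrpCat.{u} ⥤ Sheaf J (Type u) :=
  sheafCompose J (forget AddCommGrpCat.{u})

instance preservesFiniteLimits_forgetS : PreservesFiniteLimits (forgetS J) where
  preservesFiniteLimits I _ _ := by
    haveI : PreservesLimitsOfShape I (forgetS J ⋙ sheafToPresheaf J (Type u)) :=
      inferInstanceAs (PreservesLimitsOfShape I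
        (sheafToPresheaf J AddCommGrpCat.{u} ⋙ (Functor.whiskeringRight _ _ _).obj (forget _)))
    exact preservesLimitsOfShape_of_reflects_of_preserves (forgetS J) (sheafToPresheaf J (Type u))

/-- Sections of a sheaf of sets at an object. -/
noncomputable abbrev evS (U : Cᵒᵖ) : Sheaf J (Type u) ⥤ Type u :=
  sheafToPresheaf J (Type u) ⋙ (evaluation Cᵒᵖ (Type u)).obj U

/-- Sections of an abelian sheaf at an object. -/
noncomputable abbrev evA (U : Cᵒᵖ) : Sheaf J AddCommGrpCat.{u} ⥤ AddCommGrpCat.{u} :=
  sheafToPresheaf J AddCommGrpCat.{u} ⋙ (evaluation Cᵒᵖ AddCommGrpCat.{u}).obj U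

omit [u.IsContinuous K J] in
/-- Equal maps of sheaves of sets agree on sections. -/
theorem app_congr {X Y : Sheaf J (Type u)} {φ ψ : X ⟶ Y} (h : φ = ψ) (U : Cᵒᵖ) (a : X.obj.obj U) :
    φ.hom.app U a = ψ.hom.app U a := by rw [h]

variable [PreservesFiniteLimits (u.sheafPullback (Type u) K J)]

/-- The inverse image of the underlying sheaf of sets, evaluated at an object. -/
noncomputable def pullSecFun : Cᵒᵖ ⥤ (Sheaf K AddCommGrpCat.{u} ⥤ₗ Type u) where
  obj U := LeftExactFunctor.of (forgetS K ⋙ u.sheafPullback (Type u) K J ⋙ evS J U)
  map {U V} f := InducedCategory.homMk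
    { app := fun G => ((u.sheafPullback (Type u) K J).obj ((forgetS K).obj G)).obj.map f
      naturality := fun G H g =>
        (((u.sheafPullback (Type u) K J).map ((forgetS K).map g)).hom.naturality f).symm }
  map_id U := by
    apply InducedCategory.hom_ext
    ext G : 2
    exact ((u.sheafPullback (Type u) K J).obj ((forgetS K).obj G)).obj.map_id U
  map_comp f g := by
    apply InducedCategory.hom_ext
    ext G : 2
    exact ((u.sheafPullback (Type u) K J).obj ((forgetS K).obj G)).obj.map_comp f g

/-- The inverse image as presheaves of abelian groups. -/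
noncomputable def pullAbPre : Sheaf K AddCommGrpCat.{u} ⥤ Cᵒᵖ ⥤ AddCommGrpCat.{u} :=
  (pullSecFun J K u ⋙ AddCommGrpCat.leftExactFunctorForgetEquivalence.inverse ⋙
    LeftExactFunctor.forget _ _).flip

/-- The inverse image of abelian sheaves, built from the inverse image of sheaves of sets. -/
noncomputable def pullAb : Sheaf K AddCommGrpCat.{u} ⥤ Sheaf J AddCommGrpCat.{u} :=
  ObjectProperty.lift _ (pullAbPre J K u) fun G => by
    rw [Presheaf.isSheaf_iff_isSheaf_forget J _ (forget AddCommGrpCat.{u})]
    exact ((u.sheafPullback (Type u) K J).obj ((forgetS K).obj G)).property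

/-- The inverse image of abelian sheaves commutes with forgetting the group structure. -/
theorem pullAb_comp_forgetS :
    pullAb J K u ⋙ forgetS J = forgetS K ⋙ u.sheafPullback (Type u) K J := rfl

instance preservesFiniteLimits_pullAb_ev (U : Cᵒᵖ) :
    PreservesFiniteLimits (pullAb J K u ⋙ evA J U) :=
  (AddCommGrpCat.leftExactFunctorForgetEquivalence.inverse.obj ((pullSecFun J K u).obj U)).property

instance additive_pullAb_ev (U : Cᵒᵖ) : (pullAb J K u ⋙ evA J U).Additive :=
  Functor.additive_of_preserves_binary_products _

instance preservesFiniteLimits_pullAb : PreservesFiniteLimits (pullAb J K u) where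
  preservesFiniteLimits I _ _ := by
    haveI : PreservesLimitsOfShape I (pullAb J K u ⋙ sheafToPresheaf J AddCommGrpCat.{u}) :=
      preservesLimitsOfShape_of_evaluation _ _ fun U =>
        inferInstanceAs (PreservesLimitsOfShape I (pullAb J K u ⋙ evA J U))
    exact preservesLimitsOfShape_of_reflects_of_preserves (pullAb J K u)
      (sheafToPresheaf J AddCommGrpCat.{u})

omit [u.IsContinuous K J] in
theorem evA_additive (U : Cᵒᵖ) : (evA J U).Additive := { }

/-- Underlying function of the unit. -/
noncomputable def unitFun (V : Dᵒᵖ) (G : Sheaf K AddCommGrpCat.{u}) :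
    G.obj.obj V → ((pullAb J K u).obj G).obj.obj (u.op.obj V) := fun a =>
  ((u.sheafAdjunctionContinuous (Type u) K J).unit.app ((forgetS K).obj G)).hom.app V a

theorem unitFun_add (V : Dᵒᵖ) (G : Sheaf K AddCommGrpCat.{u}) (a b : G.obj.obj V) :
    unitFun J K u V G (a + b) = unitFun J K u V G a + unitFun J K u V G b := by
  haveI := evA_additive (C := D) K V
  haveI := additive_pullAb_ev J K u (u.op.obj V)
  exact map_add_of_natural (evA K V) (pullAb J K u ⋙ evA J (u.op.obj V))
    (fun G => unitFun J K u V G)
    (fun {X Y} f a => app_congr _ ((u.sheafAdjunctionContinuous (Type u) K J).unit.naturality ((forgetS K).map f)) V a)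
    G a b

/-- Underlying function of the counit. -/
noncomputable def counitFun (U : Cᵒᵖ) (H : Sheaf J AddCommGrpCat.{u}) :
    ((pullAb J K u).obj ((CohSite.push J K u).obj H)).obj.obj U → H.obj.obj U := fun a =>
  ((u.sheafAdjunctionContinuous (Type u) K J).counit.app ((forgetS J).obj H)).hom.app U a

theorem counitFun_add (U : Cᵒᵖ) (H : Sheaf J AddCommGrpCat.{u})
    (a b : ((pullAb J K u).obj ((CohSite.push J K u).obj H)).obj.obj U) :
    counitFun J K u U H (a + b) = counitFun J K u U H a + counitFun J K u U H b := by
  haveI := evA_additive J U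
  haveI := additive_pullAb_ev J K u U
  haveI : ((CohSite.push J K u) ⋙ pullAb J K u ⋙ evA J U).Additive := inferInstance
  exact map_add_of_natural ((CohSite.push J K u) ⋙ pullAb J K u ⋙ evA J U) (evA J U)
    (fun H => counitFun J K u U H)
    (fun {X Y} f a => app_congr _ ((u.sheafAdjunctionContinuous (Type u) K J).counit.naturality ((forgetS J).map f)) U a)
    H a b

/-- The unit. -/
noncomputable def pullAbUnit : 𝟭 (Sheaf K AddCommGrpCat.{u}) ⟶ pullAb J K u ⋙ CohSite.push J K u where
  app G := ObjectProperty.homMk
    { app := fun V => AddCommGrpCat.ofHom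
        (AddMonoidHom.mk' (unitFun J K u V G) (unitFun_add J K u V G))
      naturality := fun V W f => by
        ext a
        exact ConcreteCategory.congr_hom
          (((u.sheafAdjunctionContinuous (Type u) K J).unit.app ((forgetS K).obj G)).hom.naturality f) a }
  naturality G H g := by
    ext V a
    exact app_congr _ ((u.sheafAdjunctionContinuous (Type u) K J).unit.naturality ((forgetS K).map g)) V a

/-- The counit. -/
noncomputable def pullAbCounit : CohSite.push J K u ⋙ pullAb J K u ⟶ 𝟭 (Sheaf J AddCommGrpCat.{u}) where
  app H := ObjectProperty.homMk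
    { app := fun U => AddCommGrpCat.ofHom
        (AddMonoidHom.mk' (counitFun J K u U H) (counitFun_add J K u U H))
      naturality := fun V W f => by
        ext a
        exact ConcreteCategory.congr_hom
          (((u.sheafAdjunctionContinuous (Type u) K J).counit.app ((forgetS J).obj H)).hom.naturality f) a }
  naturality G H g := by
    ext V a
    exact app_congr _ ((u.sheafAdjunctionContinuous (Type u) K J).counit.naturality ((forgetS J).map g)) V a

/-- `pullAb ⊣ push`. -/
noncomputable def pullAbAdj : pullAb J K u ⊣ CohSite.push J K u :=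
  Adjunction.mkOfUnitCounit
    { unit := pullAbUnit J K u
      counit := pullAbCounit J K u
      left_triangle := by
        ext G U a
        exact app_congr _ ((u.sheafAdjunctionContinuous (Type u) K J).left_triangle_components ((forgetS K).obj G)) U a
      right_triangle := by
        ext H V a
        exact app_congr _ ((u.sheafAdjunctionContinuous (Type u) K J).right_triangle_components ((forgetS J).obj H)) V a }

include J in
/-- Direct images of injective abelian sheaves are injective. -/
theorem injective_push (I : Sheaf J AddCommGrpCat.{u}) [Injective I] :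
    Injective ((CohSite.push J K u).obj I) := by
  haveI : (pullAb J K u).PreservesMonomorphisms := preservesMonomorphisms_of_preservesLimitsOfShape _
  exact Injective.injective_of_adjoint (pullAbAdj J K u) I

end Groth.Agent.SiteBase
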