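import Groth.Agent.SiteBase.CechCriterion
import Groth.Agent.SiteBase.ExtAdjoint
import Groth.Agent.SiteBase.PullbackAb
import Groth.Agent.KInj.Restrict
import Mathlib.CategoryTheory.Sites.SheafCohomology.Basic
import Mathlib.CategoryTheory.Sites.CoverLifting

/-!
# Direct images of totally acyclic sheaves and restriction to localized sites
-/

set_option linter.style.haveILetI false

universe u

open CategoryTheory Limits Opposite Simplicial AlgebraicTopology Abelian

noncomputable section

namespace Groth.Agent.SiteBase

section free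

variable {C D : Type u} [SmallCategory C] [SmallCategory D] {J : GrothendieckTopology C}
  {K : GrothendieckTopology D} {u : D ⥤ C} [u.IsContinuous K J]
  {L : Sheaf K AddCommGrpCat.{u} ⥤ Sheaf J AddCommGrpCat.{u}} (adj : L ⊣ CohSite.push J K u)

/-- Maps from a free abelian sheaf are maps of sheaves of sets. -/
def freeShEquivS {E : Type u} [SmallCategory E] {T : GrothendieckTopology E} (P : Sheaf T (Type u))
    (H : Sheaf T AddCommGrpCat.{u}) :
    ((freeShFun T).obj P ⟶ H) ≃ (P ⟶ (sheafCompose T (forget AddCommGrpCat.{u})).obj H) :=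
  { toFun := fun φ => ObjectProperty.homMk (freeShEquiv P H φ)
    invFun := fun a => (freeShEquiv P H).symm a.hom
    left_inv := fun φ => (freeShEquiv P H).symm_apply_apply φ
    right_inv := fun a => ObjectProperty.hom_ext _ ((freeShEquiv P H).apply_symm_apply a.hom) }

theorem freeShEquivS_comp {E : Type u} [SmallCategory E] {T : GrothendieckTopology E}
    (P : Sheaf T (Type u)) {H H' : Sheaf T AddCommGrpCat.{u}} (φ : (freeShFun T).obj P ⟶ H)
    (f : H ⟶ H') :
    freeShEquivS P H' (φ ≫ f) =
      freeShEquivS P H φ ≫ (sheafCompose T (forget AddCommGrpCat.{u})).map f :=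
  ObjectProperty.hom_ext _ (freeShEquiv_comp P φ f)

/-- Underlying sheaves of sets of direct images. -/
def pushSetsEquiv (P : Sheaf K (Type u)) (H : Sheaf J AddCommGrpCat.{u}) :
    (P ⟶ (sheafCompose K (forget AddCommGrpCat.{u})).obj ((CohSite.push J K u).obj H)) ≃
      ((u.sheafPullback (Type u) K J).obj P ⟶ (sheafCompose J (forget AddCommGrpCat.{u})).obj H) :=
  ((u.sheafAdjunctionContinuous (Type u) K J).homEquiv P
    ((sheafCompose J (forget AddCommGrpCat.{u})).obj H)).symm

theorem pushSetsEquiv_comp (P : Sheaf K (Type u)) {H H' : Sheaf J AddCommGrpCat.{u}}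
    (a : P ⟶ (sheafCompose K (forget AddCommGrpCat.{u})).obj ((CohSite.push J K u).obj H))
    (f : H ⟶ H') :
    pushSetsEquiv P H' (a ≫ (sheafCompose K (forget AddCommGrpCat.{u})).map
        ((CohSite.push J K u).map f)) =
      pushSetsEquiv P H a ≫ (sheafCompose J (forget AddCommGrpCat.{u})).map f :=
  (u.sheafAdjunctionContinuous (Type u) K J).homEquiv_naturality_right_symm a
    ((sheafCompose J (forget AddCommGrpCat.{u})).map f)

/-- Maps from the inverse image of a free abelian sheaf. -/
def pullFreeEquiv (P : Sheaf K (Type u)) (H : Sheaf J AddCommGrpCat.{u}) :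
    (L.obj ((freeShFun K).obj P) ⟶ H) ≃
      ((freeShFun J).obj ((u.sheafPullback (Type u) K J).obj P) ⟶ H) :=
  ((adj.homEquiv _ H).trans (freeShEquivS P ((CohSite.push J K u).obj H))).trans
    ((pushSetsEquiv P H).trans (freeShEquivS ((u.sheafPullback (Type u) K J).obj P) H).symm)

theorem pullFreeEquiv_comp (P : Sheaf K (Type u)) {H H' : Sheaf J AddCommGrpCat.{u}}
    (φ : L.obj ((freeShFun K).obj P) ⟶ H) (f : H ⟶ H') :
    pullFreeEquiv adj P H' (φ ≫ f) = pullFreeEquiv adj P H φ ≫ f := by
  apply (freeShEquivS ((u.sheafPullback (Type u) K J).obj P) H').injective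
  rw [freeShEquivS_comp]
  simp only [pullFreeEquiv, Equiv.trans_apply, Equiv.apply_symm_apply]
  rw [adj.homEquiv_naturality_right, freeShEquivS_comp]
  exact pushSetsEquiv_comp P _ f

/-- The inverse image of a free abelian sheaf is free. -/
def pullFreeIso (P : Sheaf K (Type u)) :
    L.obj ((freeShFun K).obj P) ≅ (freeShFun J).obj ((u.sheafPullback (Type u) K J).obj P) :=
  Coyoneda.fullyFaithful.preimageIso (X := op ((freeShFun J).obj ((u.sheafPullback (Type u) K J).obj P)))
    (Y := op (L.obj ((freeShFun K).obj P)))
    (NatIso.ofComponents (fun H => (pullFreeEquiv adj P H).symm.toIso) (fun {H H'} f => by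
      ext φ
      show (pullFreeEquiv adj P H').symm (φ ≫ f) = (pullFreeEquiv adj P H).symm φ ≫ f
      apply (pullFreeEquiv adj P H').injective
      rw [pullFreeEquiv_comp, Equiv.apply_symm_apply, Equiv.apply_symm_apply])) |>.unop

variable {F : Sheaf J AddCommGrpCat.{u}}

include adj in
theorem subsingleton_ext_pullFree (hF : CohCx.IsTotallyAcyclic F) (P : Sheaf K (Type u)) (q : ℕ) :
    Subsingleton (Ext.{u} (L.obj ((freeShFun K).obj P)) F (q + 1)) := by
  haveI : Subsingleton (Ext.{u} ((freeShFun J).obj ((u.sheafPullback (Type u) K J).obj P)) F (q + 1)) :=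
    hF _ q
  refine Function.Injective.subsingleton
    (f := fun x => (Ext.mk₀ (pullFreeIso adj P).inv).comp x (zero_add (q + 1))) fun x y h => ?_
  simpa using congrArg (fun z => (Ext.mk₀ (pullFreeIso adj P).hom).comp z (zero_add (q + 1))) h

include adj in
/-- Along an exact inverse image, direct images of totally acyclic sheaves have acyclic Čech
complexes. -/
theorem cechExact_push [PreservesFiniteLimits L] (hF : CohCx.IsTotallyAcyclic F) :
    CechExact ((CohSite.push J K u).obj F) := by
  intro P' P f hf n φ hφ
  haveI : L.Additive := adj.left_adjoint_additive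
  haveI := adj.leftAdjoint_preservesColimits
  haveI : PreservesFiniteColimits L := inferInstance
  haveI : QuasiIso (cechShπ f) := quasiIso_cechFree K f
  let π' : (L.mapHomologicalComplex (ComplexShape.down ℕ)).obj (cechSh f) ⟶
      (ChainComplex.single₀ _).obj (L.obj (cechShAug f).right) :=
    (L.mapHomologicalComplex _).map (cechShπ f) ≫
      (HomologicalComplex.singleMapHomologicalComplex L (ComplexShape.down ℕ) 0).hom.app
        (cechShAug f).right
  haveI : QuasiIso π' := inferInstanceAs (QuasiIso ((L.mapHomologicalComplex _).map (cechShπ f) ≫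
    (HomologicalComplex.singleMapHomologicalComplex L (ComplexShape.down ℕ) 0).hom.app
      (cechShAug f).right))
  have h0 : L.map ((cechSh f).d (n + 2) (n + 1)) ≫ (adj.homEquiv _ F).symm φ = 0 := by
    rw [← adj.homEquiv_naturality_left_symm, hφ, adj.homEquiv_counit, L.map_zero, zero_comp]
  obtain ⟨ψ, hψ⟩ := hom_resolution_exact π'
    (fun m q => subsingleton_ext_pullFree adj hF ((Arrow.mk f).cechNerve.obj (op ⦋m⦌)) q)
    (fun q => subsingleton_ext_pullFree adj hF P q) n ((adj.homEquiv _ F).symm φ) h0
  refine ⟨adj.homEquiv _ F ψ, ?_⟩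
  rw [← adj.homEquiv_naturality_left]
  exact (congrArg (adj.homEquiv _ F) hψ).trans (Equiv.apply_symm_apply _ φ)

include adj in
/-- Along an exact inverse image, direct images of totally acyclic sheaves are totally acyclic. -/
theorem isTotallyAcyclic_push_of_exact [PreservesFiniteLimits L] (hF : CohCx.IsTotallyAcyclic F) :
    CohCx.IsTotallyAcyclic ((CohSite.push J K u).obj F) :=
  isTotallyAcyclic_of_cechExact (cechExact_push adj hF)

/-- Along a left exact functor of sites with finite limits, direct images of totally acyclic sheaves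
are totally acyclic. -/
theorem isTotallyAcyclic_push [HasFiniteLimits D] [PreservesFiniteLimits u]
    (hF : CohCx.IsTotallyAcyclic F) : CohCx.IsTotallyAcyclic ((CohSite.push J K u).obj F) := by
  haveI : RepresentablyFlat u := flat_of_preservesFiniteLimits u
  haveI : PreservesFiniteLimits (u.sheafPullback (Type u) K J) :=
    Functor.sheafPullbackConstruction.preservesFiniteLimits u (Type u) K J
  exact isTotallyAcyclic_push_of_exact (pullAbAdj J K u) hF

end free

section localized

variable {C : Type u} [SmallCategory C] (J : GrothendieckTopology C) (X : C)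

/-- Restriction to the objects over `X`. -/
abbrev restr : Sheaf J AddCommGrpCat.{u} ⥤ Sheaf (J.over X) AddCommGrpCat.{u} :=
  CohSite.push J (J.over X) (Over.forget X)

/-- Extension by zero from the objects over `X`. -/
abbrev extZero : Sheaf (J.over X) AddCommGrpCat.{u} ⥤ Sheaf J AddCommGrpCat.{u} :=
  Functor.sheafPullbackConstruction.sheafPullback (Over.forget X) AddCommGrpCat.{u} (J.over X) J

/-- Extension by zero is left adjoint to restriction. -/
def extZeroAdj : extZero J X ⊣ restr J X :=
  Functor.sheafPullbackConstruction.sheafAdjunctionContinuous (Over.forget X) AddCommGrpCat.{u}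
    (J.over X) J

theorem hasComponentTerminals_forget : KInj.HasComponentTerminals (Over.forget X).op := by
  intro V
  refine ⟨V.unop ⟶ X, fun g => CostructuredArrow.mk (Y := Opposite.op (Over.mk g)) (𝟙 V), fun x => ?_⟩
  let f : V.unop ⟶ x.left.unop.left := x.hom.unop
  let k : Over.mk (f ≫ x.left.unop.hom) ⟶ x.left.unop := Over.homMk f
  refine ⟨⟨f ≫ x.left.unop.hom, CostructuredArrow.homMk k.op ?_⟩, trivial, ?_⟩
  · simp [k, f]
  · rintro ⟨g, h⟩ -
    have h1 : x.hom = h.left.unop.left.op := by
      simpa using (CostructuredArrow.w h).symm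
    have h2 : g = f ≫ x.left.unop.hom := by
      have := Over.w h.left.unop
      simp only [f, h1]
      exact this.symm
    subst h2
    refine Sigma.ext rfl (heq_of_eq ?_)
    apply CostructuredArrow.hom_ext
    apply Quiver.Hom.unop_inj
    apply Over.OverMorphism.ext
    simp [k, f, h1]

instance preservesMonomorphisms_extZero : (extZero J X).PreservesMonomorphisms := by
  haveI := KInj.preservesMonomorphisms_lan (A := AddCommGrpCat.{u}) (Over.forget X).op
    (hasComponentTerminals_forget X)
  exact ⟨fun f _ => inferInstanceAs (Mono ((presheafToSheaf J _).map ((Over.forget X).op.lan.map f.hom)))⟩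

instance preservesFiniteLimits_extZero : PreservesFiniteLimits (extZero J X) := by
  haveI : (extZero J X).Additive := (extZeroAdj J X).left_adjoint_additive
  exact KInj.preservesFiniteLimits_of_preservesMonomorphisms (extZeroAdj J X)

instance preservesFiniteLimits_restr : PreservesFiniteLimits (restr J X) := by
  haveI := (extZeroAdj J X).rightAdjoint_preservesLimits
  infer_instance

instance preservesFiniteColimits_restr : PreservesFiniteColimits (restr J X) := by
  haveI := ((Over.forget X).sheafAdjunctionCocontinuous AddCommGrpCat.{u}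
    (J.over X) J).leftAdjoint_preservesColimits
  infer_instance

instance injective_restr (I : Sheaf J AddCommGrpCat.{u}) [Injective I] : Injective ((restr J X).obj I) :=
  Injective.injective_of_adjoint (extZeroAdj J X) I

/-- Ext groups of a restriction are Ext groups out of the extension by zero. -/
def extRestrEquiv (G : Sheaf (J.over X) AddCommGrpCat.{u}) (F : Sheaf J AddCommGrpCat.{u}) (n : ℕ) :
    Ext.{u} ((extZero J X).obj G) F n ≃+ Ext.{u} G ((restr J X).obj F) n :=
  extAdjEquiv (extZeroAdj J X) G
    (fun I _ m => Ext.subsingleton_of_injective G ((restr J X).obj I) m) F n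

theorem isTotallyAcyclic_restr {F : Sheaf J AddCommGrpCat.{u}} (hF : CohCx.IsTotallyAcyclic F) :
    CohCx.IsTotallyAcyclic ((restr J X).obj F) := by
  intro P p
  haveI := subsingleton_ext_pullFree (extZeroAdj J X) hF P p
  exact (extRestrEquiv J X ((freeShFun (J.over X)).obj P) F (p + 1)).symm.injective.subsingleton

/-- The constant sheaf `ℤ` of the localized site. -/
abbrev overConst : Sheaf (J.over X) AddCommGrpCat.{u} :=
  (constantSheaf (J.over X) AddCommGrpCat.{u}).obj (AddCommGrpCat.of (ULift ℤ))

/-- Maps from the extension by zero of `ℤ` are sections at `X`. -/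
def extZeroConstEquiv (H : Sheaf J AddCommGrpCat.{u}) :
    ((extZero J X).obj (overConst J X) ⟶ H) ≃ H.obj.obj (op X) :=
  ((extZeroAdj J X).homEquiv (overConst J X) H).trans
    (((constantSheafAdj (J.over X) AddCommGrpCat.{u}
        (Over.mkIdTerminal (X := X))).homEquiv _ ((restr J X).obj H)).trans
      (AddCommGrpCat.uliftZMultiplesAddEquiv _).toEquiv)

theorem extZeroConstEquiv_comp {H H' : Sheaf J AddCommGrpCat.{u}}
    (φ : (extZero J X).obj (overConst J X) ⟶ H) (f : H ⟶ H') :
    extZeroConstEquiv J X H' (φ ≫ f) = f.hom.app (op X) (extZeroConstEquiv J X H φ) := by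
  simp only [extZeroConstEquiv, Equiv.trans_apply]
  rw [(extZeroAdj J X).homEquiv_naturality_right, Adjunction.homEquiv_naturality_right]
  rfl

/-- The extension by zero of `ℤ` is the free sheaf on `X`. -/
def extZeroConstIso : (extZero J X).obj (overConst J X) ≅ freeAb J X :=
  Coyoneda.fullyFaithful.preimageIso (X := op (freeAb J X)) (Y := op ((extZero J X).obj (overConst J X)))
    (NatIso.ofComponents (fun H => ((secEquiv X H).trans (extZeroConstEquiv J X H).symm).toIso)
      (fun {H H'} f => by
        ext φ
        show (extZeroConstEquiv J X H').symm (secEquiv X H' (φ ≫ f)) =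
          (extZeroConstEquiv J X H).symm (secEquiv X H φ) ≫ f
        apply (extZeroConstEquiv J X H').injective
        rw [extZeroConstEquiv_comp, Equiv.apply_symm_apply, Equiv.apply_symm_apply, secEquiv_comp])) |>.unop

/-- Cohomology at `X` is the cohomology of the restriction. -/
theorem nonempty_HU_over (F : Sheaf J AddCommGrpCat.{u}) (n : ℕ) :
    Nonempty (CohSite.HU F n X ≃+ Sheaf.H.{u} (F.over X) n) := by
  let e : Ext.{u} (freeAb J X) F n ≃+ Ext.{u} ((extZero J X).obj (overConst J X)) F n :=
    { toFun := fun x => (Ext.mk₀ (extZeroConstIso J X).hom).comp x (zero_add n)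
      invFun := fun x => (Ext.mk₀ (extZeroConstIso J X).inv).comp x (zero_add n)
      left_inv := fun x => by simp
      right_inv := fun x => by simp
      map_add' := fun x y => Ext.comp_add _ x y _ }
  exact ⟨e.trans (extRestrEquiv J X (overConst J X) F n)⟩

end localized

end Groth.Agent.SiteBase
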