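import Groth.Agent.SiteBase.CechCriterion
import Mathlib.Algebra.Category.ModuleCat.Presheaf.Free
import Mathlib.Algebra.Category.ModuleCat.Presheaf.Sheafification
import Mathlib.Algebra.Category.ModuleCat.Sheaf.Colimits
import Mathlib.Algebra.Category.ModuleCat.Sheaf.Abelian

/-!
# Free sheaves of modules on sheaves of sets, and injective sheaves of modules

The free `O`-module complex of the Čech nerve of an epimorphism of sheaves of sets is exact, so
injective sheaves of modules are totally acyclic.
-/

set_option linter.style.haveILetI false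

universe u

open CategoryTheory Limits Opposite Simplicial AlgebraicTopology Abelian

noncomputable section

namespace Groth.Agent.SiteBase

variable {C : Type u} [SmallCategory C] {J : GrothendieckTopology C} (R : Sheaf J RingCat.{u})

instance preservesColimitsOfShape_toSheaf (T : Type u) [SmallCategory T] :
    PreservesColimitsOfShape T (SheafOfModules.toSheaf.{u} R) where
  preservesColimit {F} := by
    let G := PresheafOfModules.sheafification.{u} (𝟙 R.obj)
    haveI : PreservesColimitsOfShape T G :=
      (PresheafOfModules.sheafificationAdjunction (𝟙 R.obj)).leftAdjoint_preservesColimits.1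
    haveI : PreservesColimitsOfShape T (G ⋙ SheafOfModules.toSheaf R) :=
      inferInstanceAs (PreservesColimitsOfShape T
        (PresheafOfModules.toPresheaf R.obj ⋙ presheafToSheaf J AddCommGrpCat.{u}))
    let e : (F ⋙ SheafOfModules.forget R) ⋙ G ≅ F :=
      Functor.isoWhiskerLeft F
        (asIso (PresheafOfModules.sheafificationAdjunction (𝟙 R.obj)).counit)
    let c := colimit.cocone (F ⋙ SheafOfModules.forget R)
    haveI : PreservesColimit ((F ⋙ SheafOfModules.forget R) ⋙ G) (SheafOfModules.toSheaf.{u} R) :=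
      preservesColimit_of_preserves_colimit_cocone
        (isColimitOfPreserves G (colimit.isColimit (F ⋙ SheafOfModules.forget R)))
        (isColimitOfPreserves (G ⋙ SheafOfModules.toSheaf R)
          (colimit.isColimit (F ⋙ SheafOfModules.forget R)))
    exact preservesColimit_of_iso_diagram _ e

instance preservesColimitsOfSize_toSheaf :
    PreservesColimitsOfSize.{u, u} (SheafOfModules.toSheaf.{u} R) where

instance preservesFiniteColimits_toSheaf : PreservesFiniteColimits (SheafOfModules.toSheaf.{u} R) :=
  PreservesColimitsOfSize.preservesFiniteColimits _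

/-- The free presheaf of modules on a presheaf of sets, as a presheaf of abelian groups. -/
abbrev freeModPre : (Cᵒᵖ ⥤ Type u) ⥤ Cᵒᵖ ⥤ AddCommGrpCat.{u} :=
  PresheafOfModules.free R.obj ⋙ PresheafOfModules.toPresheaf R.obj

/-- The free sheaf of modules on a sheaf of sets. -/
abbrev freeMod : Sheaf J (Type u) ⥤ SheafOfModules.{u} R :=
  sheafToPresheaf J (Type u) ⋙ PresheafOfModules.free R.obj ⋙
    PresheafOfModules.sheafification (𝟙 R.obj)

theorem isLocallySurjective_freeModPre {P Q : Cᵒᵖ ⥤ Type u} (g : P ⟶ Q)
    [Presheaf.IsLocallySurjective J g] :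
    Presheaf.IsLocallySurjective J ((freeModPre R).map g) := by
  constructor
  intro U s
  change Q.obj (op U) →₀ R.obj.obj (op U) at s
  induction s using Finsupp.induction_linear with
  | zero =>
    exact J.superset_covering (fun V i _ => ⟨0, (map_zero _).trans (map_zero _).symm⟩) (J.top_mem U)
  | single x r =>
    refine J.superset_covering ?_ (Presheaf.imageSieve_mem J g (U := op U) x)
    rintro V i ⟨t, ht⟩
    refine ⟨Finsupp.single t ((R.obj.map i.op) r), ?_⟩
    change Finsupp.mapDomain (g.app (op V)) (Finsupp.single t _) = _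
    rw [Finsupp.mapDomain_single, ht]
    have e : (Finsupp.single x r : Q.obj (op U) →₀ R.obj.obj (op U)) =
        r • ModuleCat.freeMk (R := R.obj.obj (op U)) x := by
      rw [ModuleCat.freeMk]
      exact (Finsupp.smul_single_one x r).symm
    refine Eq.trans ?_ (congrArg (fun z => ((freeModPre R).obj Q).map i.op z) e).symm
    change _ = (PresheafOfModules.freeObj (R := R.obj) Q).map i.op (r • ModuleCat.freeMk x)
    erw [PresheafOfModules.map_smul, ModuleCat.freeDesc_apply]
    exact (Finsupp.smul_single_one _ _).symm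
  | add x y hx hy =>
    refine J.superset_covering ?_ (J.intersection_covering hx hy)
    rintro V i ⟨⟨t, ht⟩, t', ht'⟩
    exact ⟨t + t', (map_add _ t t').trans
      ((congrArg₂ (· + ·) ht ht').trans (map_add _ _ _).symm)⟩

/-- The free module functor over a ring, to abelian groups. -/
abbrev freeOver (U : Cᵒᵖ) : Type u ⥤ AddCommGrpCat.{u} :=
  ModuleCat.free (R.obj.obj U) ⋙ forget₂ (ModuleCat.{u} (R.obj.obj U)) AddCommGrpCat.{u}

theorem mono_freeOver_map (U : Cᵒᵖ) {X Y : Type u} (g : X ⟶ Y) [Mono g] :
    Mono ((freeOver R U).map g) := by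
  rw [AddCommGrpCat.mono_iff_injective]
  exact Finsupp.mapDomain_injective ((mono_iff_injective g).1 inferInstance)

variable {R}
variable {K' K : Sheaf J (Type u)} (f : K' ⟶ K)

variable (R) in
/-- The presheaf level free module Čech complex. -/
abbrev cechModPre : SimplicialObject.Augmented (Cᵒᵖ ⥤ AddCommGrpCat.{u}) :=
  ((SimplicialObject.Augmented.whiskering _ _).obj (sheafToPresheaf J (Type u) ⋙ freeModPre R)).obj
      (Arrow.mk f).augmentedCechNerve

theorem mono_homologyMap_epsilon_evalMod (U : Cᵒᵖ) (n : ℕ) :
    Mono (HomologicalComplex.homologyMap (AlternatingFaceMapComplex.ε.app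
      (((SimplicialObject.Augmented.whiskering _ _).obj (evU U)).obj (cechModPre R f))) n) := by
  let F : Sheaf J (Type u) ⥤ Type u := sheafToPresheaf J (Type u) ⋙ (evaluation _ _).obj U
  let g : K'.obj.obj U ⟶ K.obj.obj U := f.hom.app U
  obtain ⟨T, p, m, hm, hpm, hp⟩ : ∃ (T : Type u) (p : F.obj K' ⟶ T) (m : T ⟶ F.obj K)
      (_ : Mono m), p ≫ m = F.map f ∧ Function.Surjective p := by
    refine ⟨Set.range g, TypeCat.ofHom (Set.rangeFactorization g), TypeCat.ofHom Subtype.val,
      (mono_iff_injective _).2 Subtype.val_injective, ?_, Set.rangeFactorization_surjective⟩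
    ext x
    rfl
  let S : SplitEpi p := ⟨TypeCat.ofHom (Function.surjInv hp), by
    ext x
    exact Function.surjInv_eq hp x⟩
  let Φ := ((SimplicialObject.Augmented.whiskering _ _).obj (freeOver R U)).map
    (nerveHom (F := F) (f := Arrow.mk f) p m hpm)
  haveI : IsIso Φ.left := by
    haveI := isIso_nerveHom_left (F := F) (f := Arrow.mk f) p m hpm
    exact (inferInstance : IsIso (((SimplicialObject.whiskering _ _).obj
      (freeOver R U)).map (nerveHom (F := F) (f := Arrow.mk f) p m hpm).left))
  haveI : Mono Φ.right := mono_freeOver_map R U m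
  exact mono_homologyMap_epsilon Φ
    ((Arrow.AugmentedCechNerve.extraDegeneracy (Arrow.mk p) S).map (freeOver R U)) n

theorem isLocallySurjective_cechModPre_hom [Epi f] :
    Presheaf.IsLocallySurjective J ((cechModPre R f).hom.app (op ⦋0⦌)) := by
  haveI : Presheaf.IsLocallySurjective J f.hom := (Sheaf.isLocallySurjective_iff_epi f).2 ‹_›
  let l : K' ⟶ widePullback.{0} K (fun _ : Fin (0 + 1) => K') (fun _ => f) :=
    WidePullback.lift f (fun _ => 𝟙 K') (fun _ => Category.id_comp f)
  let F : Sheaf J (Type u) ⥤ Cᵒᵖ ⥤ AddCommGrpCat.{u} := sheafToPresheaf J (Type u) ⋙ freeModPre R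
  have h3 := isLocallySurjective_freeModPre R f.hom
  refine lsFac J (F.map l) (F.map f) ?_ h3
  change F.map l ≫ (F.map (WidePullback.base _) ≫ 𝟙 _) = F.map f
  erw [Category.comp_id, ← F.map_comp, WidePullback.lift_base]

variable (R) in
/-- The free module Čech complex. -/
abbrev cechMod : ChainComplex (SheafOfModules.{u} R) ℕ :=
  AlternatingFaceMapComplex.obj ((Arrow.mk f).cechNerve ⋙ freeMod R)

variable (R) in
/-- The underlying abelian sheaves of the free module Čech complex. -/
abbrev cechModAb : ChainComplex (Sheaf J AddCommGrpCat.{u}) ℕ :=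
  AlternatingFaceMapComplex.obj ((Arrow.mk f).cechNerve ⋙ freeMod R ⋙ SheafOfModules.toSheaf R)

theorem map_cechMod_d (i : ℕ) :
    (SheafOfModules.toSheaf R).map ((cechMod R f).d (i + 1) i) = (cechModAb R f).d (i + 1) i := by
  rw [AlternatingFaceMapComplex.obj_d_eq, AlternatingFaceMapComplex.obj_d_eq, Functor.map_sum]
  refine Finset.sum_congr rfl fun k _ => ?_
  rw [Functor.map_zsmul]
  rfl

theorem cechModAb_exact [Epi f] (n : ℕ) :
    (ShortComplex.mk _ _ ((cechModAb R f).d_comp_d (n + 2) (n + 1) n)).Exact := by
  haveI := quasiIso_sheafify_epsilon J (cechModPre R f) (fun U n => mono_homologyMap_epsilon_evalMod f U n)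
    (isLocallySurjective_cechModPre_hom f)
  exact resolution_exact_succ (AlternatingFaceMapComplex.ε.app
    (((SimplicialObject.Augmented.whiskering _ _).obj (presheafToSheaf J AddCommGrpCat.{u})).obj
      (cechModPre R f))) n

theorem cechMod_exact [Epi f] (n : ℕ) :
    (ShortComplex.mk _ _ ((cechMod R f).d_comp_d (n + 2) (n + 1) n)).Exact := by
  rw [← ShortComplex.exact_map_iff_of_faithful _ (SheafOfModules.toSheaf R)]
  refine ShortComplex.exact_of_iso ?_ (cechModAb_exact (R := R) f n)
  refine ShortComplex.isoMk (Iso.refl _) (Iso.refl _) (Iso.refl _) ?_ ?_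
  · exact (Category.id_comp _).trans ((map_cechMod_d f (n + 1)).trans (Category.comp_id _).symm)
  · exact (Category.id_comp _).trans ((map_cechMod_d f n).trans (Category.comp_id _).symm)

variable (R) in
/-- The unit of the free module functor. -/
def freeModUnit (K : Sheaf J (Type u)) :
    K.obj ⟶ ((SheafOfModules.toSheaf R).obj ((freeMod R).obj K)).obj ⋙ forget AddCommGrpCat.{u} :=
  ((PresheafOfModules.freeAdjunction R.obj).comp
    (PresheafOfModules.sheafificationAdjunction (𝟙 R.obj))).unit.app K.obj

variable (R) in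
/-- The map from the free abelian sheaf to the free sheaf of modules. -/
def toFreeMod (K : Sheaf J (Type u)) :
    (freeShFun J).obj K ⟶ (SheafOfModules.toSheaf R).obj ((freeMod R).obj K) :=
  (freeShEquiv K _).symm (freeModUnit R K)

theorem toFreeMod_naturality {K L : Sheaf J (Type u)} (a : K ⟶ L) :
    (freeShFun J).map a ≫ toFreeMod R L =
      toFreeMod R K ≫ (SheafOfModules.toSheaf R).map ((freeMod R).map a) := by
  apply (freeShEquiv K _).injective
  rw [freeShEquiv_naturality, freeShEquiv_comp, toFreeMod, toFreeMod, Equiv.apply_symm_apply,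
    Equiv.apply_symm_apply]
  exact ((PresheafOfModules.freeAdjunction R.obj).comp
    (PresheafOfModules.sheafificationAdjunction (𝟙 R.obj))).unit.naturality a.hom

/-- `Hom_O(O[K], M) → Hom(Z[K], M)` is bijective. -/
theorem toFreeMod_bijective (K : Sheaf J (Type u)) (M : SheafOfModules.{u} R) :
    Function.Bijective (fun φ : (freeMod R).obj K ⟶ M =>
      toFreeMod R K ≫ (SheafOfModules.toSheaf R).map φ) := by
  let adj := (PresheafOfModules.freeAdjunction R.obj).comp
    (PresheafOfModules.sheafificationAdjunction (𝟙 R.obj))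
  have h : ∀ φ : (freeMod R).obj K ⟶ M,
      freeShEquiv K _ (toFreeMod R K ≫ (SheafOfModules.toSheaf R).map φ) =
        adj.homEquiv K.obj M φ := by
    intro φ
    rw [freeShEquiv_comp, toFreeMod, Equiv.apply_symm_apply, adj.homEquiv_unit]
    rfl
  constructor
  · intro φ ψ e
    exact (adj.homEquiv K.obj M).injective ((h φ).symm.trans ((congrArg (freeShEquiv K _) e).trans (h ψ)))
  · intro x
    refine ⟨(adj.homEquiv K.obj M).symm (freeShEquiv K _ x), (freeShEquiv K _).injective ?_⟩
    exact (h _).trans (Equiv.apply_symm_apply _ _)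

variable (R) in
/-- The map of Čech complexes. -/
def cechToMod : cechSh f ⟶ cechModAb R f :=
  (alternatingFaceMapComplex _).map
    ({ app := fun n => toFreeMod R ((Arrow.mk f).cechNerve.obj n)
       naturality := fun _ _ g => toFreeMod_naturality ((Arrow.mk f).cechNerve.map g) } :
      (cechShAug f).left ⟶ (Arrow.mk f).cechNerve ⋙ freeMod R ⋙ SheafOfModules.toSheaf R)

theorem cechToMod_f (n : ℕ) :
    (cechToMod R f).f n = toFreeMod R ((Arrow.mk f).cechNerve.obj (op ⦋n⦌)) :=
  rfl

theorem cechToMod_d (n : ℕ) (M : SheafOfModules.{u} R) (φ : (cechMod R f).X n ⟶ M) :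
    (cechSh f).d (n + 1) n ≫ toFreeMod R _ ≫ (SheafOfModules.toSheaf R).map φ =
      toFreeMod R _ ≫ (SheafOfModules.toSheaf R).map ((cechMod R f).d (n + 1) n ≫ φ) := by
  rw [Functor.map_comp, map_cechMod_d]
  exact (Category.assoc _ _ _).symm.trans
    ((congrArg (· ≫ (SheafOfModules.toSheaf R).map φ)
      ((cechToMod R f).comm (n + 1) n).symm).trans (Category.assoc _ _ _))

theorem cechExact_injective (I : SheafOfModules.{u} R) [Injective I] :
    CechExact ((SheafOfModules.toSheaf R).obj I) := by
  intro K' K f hf n φ hφ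
  obtain ⟨φ', hφ'⟩ := (toFreeMod_bijective ((Arrow.mk f).cechNerve.obj (op ⦋n + 1⦌)) I).2 φ
  subst hφ'
  have h0 : (cechMod R f).d (n + 2) (n + 1) ≫ φ' = 0 := by
    apply (toFreeMod_bijective ((Arrow.mk f).cechNerve.obj (op ⦋n + 2⦌)) I).1
    exact ((cechToMod_d f (n + 1) I φ').symm.trans hφ).trans
      ((congrArg (toFreeMod R _ ≫ ·) (Functor.map_zero (SheafOfModules.toSheaf R) _ _)).trans
        comp_zero).symm
  let ψ : (cechMod R f).X n ⟶ I := (cechMod_exact (R := R) f n).descToInjective φ' h0
  refine ⟨toFreeMod R _ ≫ (SheafOfModules.toSheaf R).map ψ, (cechToMod_d f n I ψ).trans ?_⟩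
  exact congrArg (fun z => toFreeMod R _ ≫ (SheafOfModules.toSheaf R).map z)
    ((cechMod_exact (R := R) f n).comp_descToInjective φ' h0)

/-- Injective sheaves of modules are totally acyclic. -/
theorem isTotallyAcyclic_toSheaf_injective (I : SheafOfModules.{u} R) [Injective I] :
    CohCx.IsTotallyAcyclic ((SheafOfModules.toSheaf R).obj I) :=
  isTotallyAcyclic_of_cechExact (cechExact_injective I)

end Groth.Agent.SiteBase
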