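import Mathlib

/-!
# Čech nerves, extra degeneracies and the augmentation of the alternating face map complex
-/

universe v v' u u'

open CategoryTheory Limits Simplicial Opposite AlgebraicTopology

noncomputable section

namespace Groth.Agent.SiteBase

section nerve

variable {D : Type u} [Category.{v} D] {E : Type u'} [Category.{v'} E]
  [HasWidePullbacks.{0} D] [HasWidePullbacks.{0} E]
  (F : D ⥤ E) [∀ n : ℕ, PreservesLimitsOfShape (WidePullbackShape.{0} (Fin (n + 1))) F]
  (f : Arrow D) {R : E} (p : F.obj f.left ⟶ R) (m : R ⟶ F.obj f.right) [Mono m]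
  (hpm : p ≫ m = F.map f.hom)

/-- The cone over the image by `F` of the wide cospan of `f`, with point a wide pullback of `p`. -/
def nerveCone (n : ℕ) :
    Cone (WidePullbackShape.wideCospan f.right (fun _ : Fin (n + 1) => f.left)
      (fun _ => f.hom) ⋙ F) where
  pt := widePullback R (fun _ : Fin (n + 1) => F.obj f.left) fun _ => p
  π :=
    { app := fun j => match j with
        | none => WidePullback.base _ ≫ m
        | some i => WidePullback.π _ i
      naturality := by
        rintro j k (_ | i)
        · change 𝟙 _ ≫ _ = _ ≫ F.map (𝟙 _)
          simp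
        · change 𝟙 _ ≫ WidePullback.base (fun _ : Fin (n + 1) => p) ≫ m =
            WidePullback.π (fun _ : Fin (n + 1) => p) i ≫ F.map f.hom
          rw [← hpm, WidePullback.π_arrow_assoc, Category.id_comp] }

variable {F f}

theorem F_widePullback_hom_ext {W : E} {n : ℕ}
    {a b : W ⟶ F.obj (widePullback f.right (fun _ : Fin (n + 1) => f.left) fun _ => f.hom)}
    (h : ∀ i, a ≫ F.map (WidePullback.π _ i) = b ≫ F.map (WidePullback.π _ i))
    (h₀ : a ≫ F.map (WidePullback.base _) = b ≫ F.map (WidePullback.base _)) : a = b := by
  refine (isLimitOfPreserves F (limit.isLimit _)).hom_ext fun j => ?_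
  cases j with
  | none => exact h₀
  | some i => exact h i

/-- Comparison of the Čech nerve of `p` with the image by `F` of that of `f`. -/
def nerveComp (n : ℕ) :
    (widePullback R (fun _ : Fin (n + 1) => F.obj f.left) fun _ => p) ⟶
      F.obj (widePullback f.right (fun _ : Fin (n + 1) => f.left) fun _ => f.hom) :=
  (isLimitOfPreserves F (limit.isLimit _)).lift (nerveCone F f p m hpm n)

theorem nerveComp_π (n : ℕ) (i : Fin (n + 1)) :
    nerveComp p m hpm n ≫ F.map (WidePullback.π _ i) = WidePullback.π _ i :=
  (isLimitOfPreserves F (limit.isLimit _)).fac (nerveCone F f p m hpm n) (some i)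

theorem nerveComp_base (n : ℕ) :
    nerveComp p m hpm n ≫ F.map (WidePullback.base _) = WidePullback.base _ ≫ m :=
  (isLimitOfPreserves F (limit.isLimit _)).fac (nerveCone F f p m hpm n) none

include hpm in
theorem π_comp_eq (n : ℕ) (i j : Fin (n + 1)) :
    F.map (WidePullback.π (fun _ : Fin (n + 1) => f.hom) i) ≫ p =
      F.map (WidePullback.π (fun _ : Fin (n + 1) => f.hom) j) ≫ p := by
  rw [← cancel_mono m]
  simp only [Category.assoc, hpm, ← F.map_comp, WidePullback.π_arrow]

theorem isIso_nerveComp (n : ℕ) : IsIso (nerveComp p m hpm n) := by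
  refine ⟨WidePullback.lift (F.map (WidePullback.π _ 0) ≫ p)
      (fun i => F.map (WidePullback.π _ i)) (fun i => π_comp_eq p m hpm n i 0), ?_, ?_⟩
  · apply WidePullback.hom_ext
    · intro i
      rw [Category.assoc, WidePullback.lift_π, nerveComp_π, Category.id_comp]
    · rw [Category.assoc, WidePullback.lift_base, ← Category.assoc, nerveComp_π,
        WidePullback.π_arrow, Category.id_comp]
  · refine F_widePullback_hom_ext (fun i => ?_) ?_
    · rw [Category.assoc, nerveComp_π, WidePullback.lift_π, Category.id_comp]
    · rw [Category.assoc, nerveComp_base, WidePullback.lift_base_assoc, Category.assoc, hpm,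
        Category.id_comp, ← F.map_comp, WidePullback.π_arrow]

/-- Comparison of augmented Čech nerves. -/
def nerveHom :
    (Arrow.mk p).augmentedCechNerve ⟶
      ((SimplicialObject.Augmented.whiskering D E).obj F).obj f.augmentedCechNerve where
  left :=
    { app := fun n => nerveComp p m hpm n.unop.len
      naturality := by
        intro a b g
        refine F_widePullback_hom_ext (fun i => ?_) ?_
        · change (WidePullback.lift (WidePullback.base _)
              (fun i => WidePullback.π (fun _ => p) (g.unop.toOrderHom i)) _ ≫ _) ≫ _ =
            (nerveComp p m hpm a.unop.len ≫ F.map (WidePullback.lift (WidePullback.base _)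
              (fun i => WidePullback.π (fun _ => f.hom) (g.unop.toOrderHom i)) _)) ≫ _
          rw [Category.assoc, Category.assoc, nerveComp_π, ← F.map_comp]
          erw [WidePullback.lift_π, WidePullback.lift_π]
          exact (nerveComp_π p m hpm _ _).symm
        · change (WidePullback.lift (WidePullback.base _)
              (fun i => WidePullback.π (fun _ => p) (g.unop.toOrderHom i)) _ ≫ _) ≫ _ =
            (nerveComp p m hpm a.unop.len ≫ F.map (WidePullback.lift (WidePullback.base _)
              (fun i => WidePullback.π (fun _ => f.hom) (g.unop.toOrderHom i)) _)) ≫ _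
          rw [Category.assoc, Category.assoc, nerveComp_base, ← F.map_comp]
          erw [WidePullback.lift_base_assoc, WidePullback.lift_base]
          exact (nerveComp_base p m hpm _).symm }
  right := m
  w := by
    ext n
    change nerveComp p m hpm _ ≫ (F.map (WidePullback.base _) ≫ 𝟙 _) = WidePullback.base _ ≫ m
    rw [Category.comp_id]
    exact nerveComp_base p m hpm _

theorem isIso_nerveHom_left : IsIso (nerveHom p m hpm).left := by
  haveI : ∀ n, IsIso ((nerveHom p m hpm).left.app n) := fun n => isIso_nerveComp p m hpm _
  exact NatIso.isIso_of_isIso_app _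

end nerve

section epsilon

variable {A : Type u} [Category.{v} A] [Abelian A]

theorem mono_homologyMap_single {X Y : A} (g : X ⟶ Y) [Mono g] (n : ℕ) :
    Mono (HomologicalComplex.homologyMap ((ChainComplex.single₀ A).map g) n) := by
  by_cases hn : n = 0
  · subst hn
    rw [← MorphismProperty.monomorphisms.iff]
    refine (MorphismProperty.monomorphisms A).arrow_mk_iso_iff
      (Arrow.isoMk ((HomologicalComplex.homologyFunctorSingleIso A (ComplexShape.down ℕ) 0).app X)
        ((HomologicalComplex.homologyFunctorSingleIso A (ComplexShape.down ℕ) 0).app Y)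
        ((HomologicalComplex.homologyFunctorSingleIso A (ComplexShape.down ℕ) 0).hom.naturality
          g).symm) |>.2 ?_
    simpa
  · have h : IsZero (((ChainComplex.single₀ A).obj X).homology n) := by
      have := HomologicalComplex.exactAt_single_obj (ComplexShape.down ℕ) 0 X n hn
      exact this.isZero_homology
    exact ⟨fun a b _ => h.eq_of_tgt a b⟩

theorem mono_homologyMap_epsilon {X Y : SimplicialObject.Augmented A} (Φ : Y ⟶ X) [IsIso Φ.left]
    [Mono Φ.right] (ed : SimplicialObject.Augmented.ExtraDegeneracy Y) (n : ℕ) :
    Mono (HomologicalComplex.homologyMap (AlternatingFaceMapComplex.ε.app X) n) := by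
  have hnat := congrArg (fun t => HomologicalComplex.homologyMap t n)
    (AlternatingFaceMapComplex.ε.naturality Φ)
  dsimp at hnat
  rw [HomologicalComplex.homologyMap_comp, HomologicalComplex.homologyMap_comp] at hnat
  haveI : IsIso ((alternatingFaceMapComplex A).map Φ.left) := inferInstance
  haveI hE : QuasiIso (AlternatingFaceMapComplex.ε.app Y) :=
    (inferInstance : QuasiIso ed.homotopyEquiv.hom)
  haveI : IsIso (HomologicalComplex.homologyMap (AlternatingFaceMapComplex.ε.app Y) n) :=
    inferInstanceAs (IsIso (HomologicalComplex.homologyMap _ n))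
  haveI := mono_homologyMap_single (A := A) Φ.right n
  set a := HomologicalComplex.homologyMap ((alternatingFaceMapComplex A).map
    (SimplicialObject.Augmented.drop.map Φ)) n with ha
  haveI : IsIso a := by
    haveI : IsIso ((alternatingFaceMapComplex A).map (SimplicialObject.Augmented.drop.map Φ)) :=
      inferInstanceAs (IsIso ((alternatingFaceMapComplex A).map Φ.left))
    exact Functor.map_isIso (HomologicalComplex.homologyFunctor A _ n) _
  rw [← IsIso.eq_inv_comp] at hnat
  rw [hnat]
  infer_instance

end epsilon

theorem mono_free_map {X Y : Type u} (g : X ⟶ Y) [Mono g] :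
    Mono (AddCommGrpCat.free.map g) := by
  have hg : Function.Injective g := (mono_iff_injective g).1 inferInstance
  rw [AddCommGrpCat.mono_iff_injective]
  rcases isEmpty_or_nonempty X with h | h
  · haveI : Subsingleton (FreeAbelianGroup X) := by
      refine ⟨fun a b => ?_⟩
      have : ∀ c : FreeAbelianGroup X, c = 0 := fun c =>
        FreeAbelianGroup.induction_on c rfl (fun x => isEmptyElim x) (fun x => isEmptyElim x)
          (fun x y hx hy => by rw [hx, hy, add_zero])
      rw [this a, this b]
    exact fun a b _ => @Subsingleton.elim (FreeAbelianGroup X) _ a b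
  · intro a b hab
    have hl : ∀ c, FreeAbelianGroup.map (Function.invFun g) (FreeAbelianGroup.map g c) = c := by
      intro c
      rw [← FreeAbelianGroup.map_comp_apply]
      rw [show Function.invFun g ∘ g = id from funext (Function.leftInverse_invFun hg)]
      exact FreeAbelianGroup.map_id_apply c
    rw [← hl a, ← hl b]
    exact congrArg (FreeAbelianGroup.map (Function.invFun g)) hab

end Groth.Agent.SiteBase
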