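import Groth.Agent.SiteBase.Free
import Groth.Agent.SiteBase.CechNerve

/-!
# Restriction of sections of totally acyclic sheaves along monomorphisms
-/

universe u

open CategoryTheory Limits Opposite Abelian

noncomputable section

namespace Groth.Agent.SiteBase

variable {C : Type u} [SmallCategory C] {J : GrothendieckTopology C}

/-- Morphisms of sheaves of sets into the underlying sheaf of an abelian sheaf, on free sheaves. -/
def shHomEquiv (K : Sheaf J (Type u)) (F : Sheaf J AddCommGrpCat.{u}) :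
    (K ⟶ (sheafCompose J (forget AddCommGrpCat.{u})).obj F) ≃ ((freeShFun J).obj K ⟶ F) :=
  ((ObjectProperty.fullyFaithfulι _).homEquiv).trans (freeShEquiv K F).symm

theorem shHomEquiv_naturality {K L : Sheaf J (Type u)} (a : K ⟶ L) (F : Sheaf J AddCommGrpCat.{u})
    (φ : L ⟶ (sheafCompose J (forget AddCommGrpCat.{u})).obj F) :
    shHomEquiv K F (a ≫ φ) = (freeShFun J).map a ≫ shHomEquiv L F φ := by
  apply (freeShEquiv K F).injective
  rw [freeShEquiv_naturality]
  simp only [shHomEquiv, Equiv.trans_apply]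
  refine (Equiv.apply_symm_apply (freeShEquiv K F) _).trans ?_
  refine Eq.trans ?_ (congrArg (a.hom ≫ ·) (Equiv.apply_symm_apply (freeShEquiv L F) _).symm)
  rfl

theorem ext_mk₀_lift {S : ShortComplex (Sheaf J AddCommGrpCat.{u})} (hS : S.ShortExact)
    (K : Sheaf J (Type u)) (hK : Subsingleton (CohCx.HK K S.X₁ 1))
    (s : (freeShFun J).obj K ⟶ S.X₃) : ∃ t : (freeShFun J).obj K ⟶ S.X₂, t ≫ S.g = s := by
  obtain ⟨x₂, hx⟩ := Ext.covariant_sequence_exact₃ _ hS (Ext.mk₀ s) (zero_add 1)
    (Subsingleton.elim (α := CohCx.HK K S.X₁ 1) _ _)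
  obtain ⟨t, rfl⟩ := (Ext.mk₀_bijective _ _).2 x₂
  rw [Ext.mk₀_comp_mk₀] at hx
  exact ⟨t, (Ext.mk₀_bijective _ _).1 hx⟩

theorem restrict_surjective (F : Sheaf J AddCommGrpCat.{u}) (hF : CohCx.IsTotallyAcyclic F)
    {Y X : Sheaf J (Type u)} (ι : Y ⟶ X) [Mono ι] (s : (freeShFun J).obj Y ⟶ F) :
    ∃ t : (freeShFun J).obj X ⟶ F, (freeShFun J).map ι ≫ t = s := by
  obtain ⟨S, hS, rfl, hI⟩ := exists_injective_presentation F
  haveI := hI
  haveI := hS.mono_f
  haveI : Mono ((freeShFun J).map ι) := by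
    haveI : Mono ((sheafToPresheaf J (Type u)).map ι) := inferInstance
    haveI : ∀ U, Mono (((sheafToPresheaf J (Type u)).map ι).app U) :=
      (NatTrans.mono_iff_mono_app _).1 inferInstance
    haveI : Mono (Functor.whiskerRight ((sheafToPresheaf J (Type u)).map ι)
        AddCommGrpCat.free.{u}) := by
      rw [NatTrans.mono_iff_mono_app]
      intro U
      haveI := this U
      exact mono_free_map (((sheafToPresheaf J (Type u)).map ι).app U)
    exact (inferInstance : Mono ((presheafToSheaf J AddCommGrpCat.{u}).map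
      (Functor.whiskerRight ((sheafToPresheaf J (Type u)).map ι) AddCommGrpCat.free.{u})))
  let T := Injective.factorThru (s ≫ S.f) ((freeShFun J).map ι)
  have hT : (freeShFun J).map ι ≫ T = s ≫ S.f := Injective.comp_factorThru _ _
  let a := (shHomEquiv X S.X₃).symm (T ≫ S.g)
  let b := (shHomEquiv X S.X₃).symm 0
  have hab : ι ≫ a = ι ≫ b := by
    apply (shHomEquiv Y S.X₃).injective
    rw [shHomEquiv_naturality, shHomEquiv_naturality, Equiv.apply_symm_apply,
      Equiv.apply_symm_apply, ← Category.assoc, hT, Category.assoc, S.zero, comp_zero, comp_zero]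
  let g := pushout.desc a b hab
  obtain ⟨z, hz⟩ := ext_mk₀_lift hS (pushout ι ι) (hF _ 0) (shHomEquiv _ _ g)
  let x := (freeShFun J).map (pushout.inl ι ι) ≫ z - (freeShFun J).map (pushout.inr ι ι) ≫ z
  have hx₁ : (freeShFun J).map ι ≫ x = 0 := by
    rw [Preadditive.comp_sub, ← Category.assoc, ← Category.assoc, ← Functor.map_comp,
      ← Functor.map_comp, pushout.condition, sub_self]
  have hx₂ : x ≫ S.g = T ≫ S.g := by
    rw [Preadditive.sub_comp, Category.assoc, Category.assoc, hz, ← shHomEquiv_naturality,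
      ← shHomEquiv_naturality, pushout.inl_desc, pushout.inr_desc, Equiv.apply_symm_apply,
      Equiv.apply_symm_apply, sub_zero]
  have h0 : (T - x) ≫ S.g = 0 := by rw [Preadditive.sub_comp, hx₂, sub_self]
  refine ⟨hS.exact.lift _ h0, ?_⟩
  rw [← cancel_mono S.f, Category.assoc, hS.exact.lift_f, Preadditive.comp_sub, hx₁, sub_zero, hT]

end Groth.Agent.SiteBase
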