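import Groth.Agent.SiteBase.FreeMod
import Groth.Agent.SiteBase.ExtAdjoint
import Groth.Agent.SiteBase.Flasque
import Groth.Agent.S0485
import Mathlib.CategoryTheory.Sites.SheafCohomology.Basic

/-!
# Cohomology of sheaves of modules computed with injective sheaves of modules
-/

set_option linter.style.haveILetI false

universe u

open CategoryTheory Limits Opposite Abelian

noncomputable section

namespace Groth.Agent.SiteBase

variable {C : Type u} [SmallCategory C] {J : GrothendieckTopology C}

variable (J) in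
/-- The terminal sheaf of sets. -/
abbrev ptSh : Sheaf J (Type u) :=
  ⟨(Functor.const Cᵒᵖ).obj PUnit.{u + 1}, (isSheaf_iff_isSheaf_of_type J _).2
    fun _ S _ x _ => ⟨PUnit.unit, fun _ _ _ => rfl, fun _ _ => rfl⟩⟩

/-- The free abelian group on a point. -/
def freePUnitIso : AddCommGrpCat.free.{u}.obj PUnit.{u + 1} ≅ AddCommGrpCat.of (ULift.{u} ℤ) :=
  AddEquiv.toAddCommGrpIso (Y := AddCommGrpCat.of (ULift.{u} ℤ))
    ((FreeAbelianGroup.uniqueEquiv PUnit.{u + 1}).trans AddEquiv.ulift.symm :
      FreeAbelianGroup PUnit.{u + 1} ≃+ ULift.{u} ℤ)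

variable (J) in
/-- The constant sheaf `ℤ`. -/
abbrev constZ : Sheaf J AddCommGrpCat.{u} :=
  (constantSheaf J AddCommGrpCat.{u}).obj (AddCommGrpCat.of (ULift.{u} ℤ))

variable (J) in
/-- The free sheaf on the terminal sheaf of sets is constant. -/
def freePtIso : (freeShFun J).obj (ptSh J) ≅ constZ J :=
  (presheafToSheaf J AddCommGrpCat.{u}).mapIso
    (NatIso.ofComponents (fun _ => freePUnitIso) (fun {_ _} _ => by
      show AddCommGrpCat.free.map (𝟙 PUnit.{u + 1}) ≫ _ = _ ≫ 𝟙 _
      rw [CategoryTheory.Functor.map_id, Category.id_comp, Category.comp_id]))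

theorem subsingleton_H_of_isTotallyAcyclic {F : Sheaf J AddCommGrpCat.{u}}
    (hF : CohCx.IsTotallyAcyclic F) (n : ℕ) : Subsingleton (Ext.{u} (constZ J) F (n + 1)) := by
  haveI : Subsingleton (Ext.{u} ((freeShFun J).obj (ptSh J)) F (n + 1)) := hF (ptSh J) n
  refine Function.Injective.subsingleton
    (f := fun x => (Ext.mk₀ (freePtIso J).hom).comp x (zero_add (n + 1))) fun x y h => ?_
  simpa using congrArg (fun z => (Ext.mk₀ (freePtIso J).inv).comp z (zero_add (n + 1))) h

variable (R : Sheaf J RingCat.{u})

/-- The element `1`, as a map of presheaves from `ℤ`. -/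
def unitPre : (Functor.const Cᵒᵖ).obj (AddCommGrpCat.of (ULift.{u} ℤ)) ⟶
    ((SheafOfModules.toSheaf R).obj (SheafOfModules.unit R)).obj where
  app U := AddCommGrpCat.ofHom
    { toFun := fun z => (z.down • (1 : R.obj.obj U) : R.obj.obj U)
      map_zero' := zero_smul ℤ _
      map_add' := fun a b => add_smul a.down b.down _ }
  naturality U V i := by
    ext z
    show (z.down • (1 : R.obj.obj V) : R.obj.obj V) = (R.obj.map i) (z.down • (1 : R.obj.obj U))
    rw [map_zsmul, map_one]

/-- The map from the constant sheaf `ℤ` to the structure sheaf. -/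
def unitSh : constZ J ⟶ (SheafOfModules.toSheaf R).obj (SheafOfModules.unit R) :=
  ((sheafificationAdjunction J AddCommGrpCat.{u}).homEquiv _ _).symm (unitPre R)

theorem unitSh_comp_app (M : SheafOfModules.{u} R) (φ : SheafOfModules.unit R ⟶ M) (U : Cᵒᵖ)
    (z : ULift.{u} ℤ) :
    ((sheafificationAdjunction J AddCommGrpCat.{u}).homEquiv _ _
      (unitSh R ≫ (SheafOfModules.toSheaf R).map φ)).app U z = z.down • (M.unitHomEquiv φ).val U := by
  rw [Adjunction.homEquiv_naturality_right, unitSh, Equiv.apply_symm_apply]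
  exact map_zsmul (φ.val.app U).hom.toAddMonoidHom z.down (1 : R.obj.obj U)

/-- `Hom_O(O, M) → Hom(ℤ, M)` is bijective. -/
theorem unitSh_bijective (M : SheafOfModules.{u} R) :
    Function.Bijective (fun φ : SheafOfModules.unit R ⟶ M =>
      unitSh R ≫ (SheafOfModules.toSheaf R).map φ) := by
  constructor
  · intro φ ψ e
    refine M.unitHomEquiv.injective (Subtype.ext (funext fun U => ?_))
    have h := congrArg (fun x => ((sheafificationAdjunction J AddCommGrpCat.{u}).homEquiv _ _ x).app U
      (ULift.up (1 : ℤ))) e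
    exact (one_zsmul _).symm.trans ((unitSh_comp_app R M φ U _).symm.trans
      (h.trans ((unitSh_comp_app R M ψ U _).trans (one_zsmul _))))
  · intro x
    let y := (sheafificationAdjunction J AddCommGrpCat.{u}).homEquiv _ _ x
    let s : M.sections := ⟨fun U => y.app U (ULift.up (1 : ℤ)), fun {U V} i =>
      (ConcreteCategory.congr_hom (y.naturality i) (ULift.up (1 : ℤ))).symm⟩
    refine ⟨M.unitHomEquiv.symm s,
      ((sheafificationAdjunction J AddCommGrpCat.{u}).homEquiv _ _).injective ?_⟩
    ext U z
    refine (unitSh_comp_app R M _ U z).trans ?_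
    rw [Equiv.apply_symm_apply]
    refine ((map_zsmul (y.app U).hom z.down (ULift.up (1 : ℤ))).symm).trans (congrArg (y.app U).hom ?_)
    exact ULift.ext _ _ (by simp)

instance enoughInjectives_sheafOfModules : EnoughInjectives (SheafOfModules.{u} R) :=
  Groth.Agent.S0485.result J R

variable [HasExt.{u} (SheafOfModules.{u} R)]

/-- Ext groups out of the structure sheaf are cohomology groups. -/
theorem nonempty_ext_unit_H (M : SheafOfModules.{u} R) (n : ℕ) :
    Nonempty (Ext.{u} (SheafOfModules.unit R) M n ≃+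
      Sheaf.H.{u} ((SheafOfModules.toSheaf R).obj M) n) :=
  ⟨extUnitEquiv (G := SheafOfModules.toSheaf R) (unitSh R) (unitSh_bijective R)
    (fun I _ m => subsingleton_H_of_isTotallyAcyclic (isTotallyAcyclic_toSheaf_injective I) m) M n⟩

omit [HasExt.{u} (SheafOfModules.{u} R)] in
/-- Sections of an injective sheaf of modules extend along monomorphisms. -/
theorem surjective_map_of_injective (I : SheafOfModules.{u} R) [Injective I] {U U' : C}
    (a : U' ⟶ U) [Mono a] : Function.Surjective (I.val.map a.op) := by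
  intro s
  let F := (SheafOfModules.toSheaf R).obj I
  let Fs : Sheaf J (Type u) := (sheafCompose J (forget AddCommGrpCat.{u})).obj F
  let ι : shYoneda J U' ⟶ shYoneda J U := (presheafToSheaf J (Type u)).map (yoneda.map a)
  haveI : Mono ι := inferInstanceAs (Mono ((presheafToSheaf J (Type u)).map (yoneda.map a)))
  obtain ⟨t, ht⟩ := restrict_surjective F (isTotallyAcyclic_toSheaf_injective I) ι
    (shHomEquiv (shYoneda J U') F ((shYonedaEquiv U' Fs).symm s))
  let t' : shYoneda J U ⟶ Fs := (shHomEquiv (shYoneda J U) F).symm t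
  have e : ι ≫ t' = (shYonedaEquiv U' Fs).symm s := by
    apply (shHomEquiv (shYoneda J U') F).injective
    rw [shHomEquiv_naturality, Equiv.apply_symm_apply, ht]
  refine ⟨shYonedaEquiv U Fs t', ?_⟩
  refine Eq.trans ?_ ((congrArg (shYonedaEquiv U' Fs) e).trans (Equiv.apply_symm_apply _ s))
  simp only [shYonedaEquiv, Equiv.trans_apply, ι]
  erw [Adjunction.homEquiv_naturality_left]
  exact yonedaEquiv_naturality ((sheafificationAdjunction J (Type u)).homEquiv (yoneda.obj U) Fs t') a

end Groth.Agent.SiteBase
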