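import Groth.Agent.SiteBase.ExtZeroPre
import Groth.Agent.SiteBase.ExtAdjoint
import Groth.Agent.SiteBase.ModCoh
import Groth.Agent.SiteBase.AcyclicPush
import Groth.Agent.SiteBase.FreeMod
import Groth.Agent.ModTensor.Basic
import Groth.Prelude.Def_ModSite

/-!
# Extension by zero of sheaves of modules is exact
-/

set_option linter.style.haveILetI false
set_option linter.unusedSectionVars false

universe w w' u

open CategoryTheory Limits Opposite Abelian

noncomputable section

namespace Groth.Agent.SiteBase.ExtZeroPre

variable {C : Type u} [SmallCategory C] {J : GrothendieckTopology C} (O : Sheaf J CommRingCat.{u}) (U : C)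

/-- Extension by zero as a sheafification. -/
abbrev jSh : ModSite.Mod (O.over U) ⥤ ModSite.Mod O :=
  SheafOfModules.forget (ModSite.ringSh (O.over U)) ⋙ jFun (ModSite.ringSh O).obj U ⋙
    PresheafOfModules.sheafification.{u} (𝟙 (ModSite.ringSh O).obj)

/-- The restriction on underlying presheaves. -/
def restrForgetIso :
    (SheafOfModules.forget (ModSite.ringSh O) ⋙
      PresheafOfModules.pushforward₀.{u} (Over.forget U) (ModSite.ringSh O).obj) ≅
      ModSite.restr O U ⋙ SheafOfModules.forget (ModSite.ringSh (O.over U)) :=
  NatIso.ofComponents (fun _ => PresheafOfModules.isoMk (fun _ => Iso.refl _) (fun _ _ _ => rfl))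
    (fun _ => rfl)

/-- The sheafified extension by zero is left adjoint to restriction. -/
def jShAdj : jSh O U ⊣ ModSite.restr O U :=
  ((jAdj (ModSite.ringSh O).obj U).comp
    (PresheafOfModules.sheafificationAdjunction (𝟙 (ModSite.ringSh O).obj))).restrictFullyFaithful
    (iC := SheafOfModules.forget (ModSite.ringSh (O.over U))) (iD := 𝟭 _)
    (SheafOfModules.fullyFaithfulForget _) (Functor.FullyFaithful.id _) (Iso.refl _)
    (restrForgetIso O U)

/-- Extension by zero as the sheafification of the presheaf extension by zero. -/
def extZeroIso : ModSite.extZero O U ≅ jSh O U :=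
  (ModSite.extZeroAdj O U).leftAdjointUniq (jShAdj O U)

instance preservesMonomorphisms_jSh : (jSh O U).PreservesMonomorphisms where
  preserves f _ := by
    haveI : PreservesFiniteLimits (PresheafOfModules.sheafification.{u} (𝟙 (ModSite.ringSh O).obj)) :=
      inferInstance
    have hm : Mono ((SheafOfModules.forget (ModSite.ringSh (O.over U))).map f) := inferInstance
    haveI : Mono ((jFun (ModSite.ringSh O).obj U).map
        ((SheafOfModules.forget (ModSite.ringSh (O.over U))).map f)) :=
      @Functor.PreservesMonomorphisms.preserves _ _ _ _ (jFun (ModSite.ringSh O).obj U)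
        preservesMonomorphisms_jFun _ _ ((SheafOfModules.forget (ModSite.ringSh (O.over U))).map f) hm
    exact inferInstanceAs (Mono ((PresheafOfModules.sheafification.{u} (𝟙 (ModSite.ringSh O).obj)).map
      ((jFun (ModSite.ringSh O).obj U).map ((SheafOfModules.forget (ModSite.ringSh (O.over U))).map f))))

instance preservesMonomorphisms_extZero : (ModSite.extZero O U).PreservesMonomorphisms :=
  Functor.PreservesMonomorphisms.of_iso (extZeroIso O U).symm

instance preservesFiniteColimits_extZero : PreservesFiniteColimits (ModSite.extZero O U) := by
  haveI := (ModSite.extZeroAdj O U).leftAdjoint_preservesColimits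
  infer_instance

instance additive_restr : (ModSite.restr O U).Additive := by
  haveI := (ModSite.extZeroAdj O U).rightAdjoint_preservesLimits
  exact Functor.additive_of_preserves_binary_products _

instance additive_extZero : (ModSite.extZero O U).Additive :=
  (ModSite.extZeroAdj O U).left_adjoint_additive

instance preservesFiniteLimits_extZero : PreservesFiniteLimits (ModSite.extZero O U) := by
  haveI : (ModSite.extZero O U).PreservesHomology :=
    Functor.preservesHomology_of_preservesMonos_and_cokernels _
  exact Functor.preservesFiniteLimits_of_preservesHomology _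

instance injective_restr (I : ModSite.Mod O) [Injective I] : Injective ((ModSite.restr O U).obj I) :=
  Injective.injective_of_adjoint (ModSite.extZeroAdj O U) I

instance preservesFiniteLimits_restr : PreservesFiniteLimits (ModSite.restr O U) := by
  haveI := (ModSite.extZeroAdj O U).rightAdjoint_preservesLimits
  infer_instance

instance preservesFiniteColimits_restr : PreservesFiniteColimits (ModSite.restr O U) := by
  refine ⟨fun K _ _ => ?_⟩
  haveI : PreservesColimitsOfShape K
      (ModSite.restr O U ⋙ SheafOfModules.toSheaf (ModSite.ringSh (O.over U))) :=
    inferInstanceAs (PreservesColimitsOfShape K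
      (SheafOfModules.toSheaf (ModSite.ringSh O) ⋙ SiteBase.restr J U))
  haveI : ReflectsColimitsOfShape K (SheafOfModules.toSheaf (ModSite.ringSh (O.over U))) :=
    reflectsColimitsOfShape_of_reflectsIsomorphisms
  exact preservesColimitsOfShape_of_reflects_of_preserves _
    (SheafOfModules.toSheaf (ModSite.ringSh (O.over U)))

end Groth.Agent.SiteBase.ExtZeroPre
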