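import Groth.Agent.SiteBase.SectRestr
import Groth.Agent.SpSeqLib.DerivedSeq
import Groth.Agent.SpSeqLib.DerivedComp

/-!
# The exact sequence of sections with supports for a subterminal object
-/

set_option linter.style.haveILetI false
set_option linter.unusedSectionVars false

universe u

open CategoryTheory Limits Opposite

noncomputable section

namespace Groth.Agent.SiteBase.SuppSeq

open Groth.Agent.SiteBase.ExtZeroPre

attribute [local instance] ExtZeroPre.decEqHom

theorem injective_desc_id {C : Type u} [SmallCategory C] {R : Cᵒᵖ ⥤ RingCat.{u}} {U : C}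
    (hU : ∀ V : C, Subsingleton (V ⟶ U)) (P : PresheafOfModules.{u} R) (V : C) :
    Function.Injective ((desc (resPre (U := U) P) P (𝟙 _)).app (op V)) := by
  haveI := hU V
  rw [injective_iff_map_eq_zero]
  intro (m : Sec (resPre (U := U) P) V) hm
  show m = 0
  by_cases hV : Nonempty (V ⟶ U)
  · obtain ⟨g⟩ := hV
    have e : m = ι (resPre (U := U) P) V g (m g) := by
      refine DFinsupp.ext fun g' => ?_
      obtain rfl := Subsingleton.elim g g'
      exact (DirectSum.of_eq_same (β := fun ψ : V ⟶ U => (fib (resPre (U := U) P) V ψ : Type u))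
        g (m g)).symm
    rw [e, desc_ι] at hm
    have hm' : m g = 0 := hm
    rw [e, hm', map_zero]
    rfl
  · exact DFinsupp.ext fun g => absurd ⟨g⟩ hV

variable {C : Type u} [SmallCategory C] {J : GrothendieckTopology C} (O : Sheaf J CommRingCat.{u})
  (U : C) (hU : ∀ V : C, Subsingleton (V ⟶ U))

include hU in
theorem mono_counit (A : ModSite.Mod O) : Mono ((ModSite.extZeroAdj O U).counit.app A) := by
  let R := (ModSite.ringSh O).obj
  haveI hj : Mono ((jAdj R U).counit.app A.val) := by
    refine PresheafOfModules.mono_of_injective fun {X} => ?_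
    induction X with
    | op V =>
      have e : (jAdj R U).counit.app A.val = desc (resPre (U := U) A.val) A.val (𝟙 _) := by
        refine Eq.trans ?_ (jAdj_homEquiv_symm (resPre (U := U) A.val) A.val (𝟙 _))
        rw [Adjunction.homEquiv_counit]
        exact (congrArg (· ≫ _) ((jFun R U).map_id _)).trans (Category.id_comp _) |>.symm
      rw [e]
      exact injective_desc_id hU A.val V
  haveI : Mono ((jShAdj O U).counit.app A) := by
    have h : (jShAdj O U).counit.app A =
        (PresheafOfModules.sheafification.{u} (𝟙 R)).map
            ((jFun R U).map ((restrForgetIso O U).inv.app A) ≫ (jAdj R U).counit.app A.val) ≫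
          (PresheafOfModules.sheafificationAdjunction (𝟙 R)).counit.app A := by
      have h1 := Adjunction.map_restrictFullyFaithful_counit_app
        ((jAdj R U).comp (PresheafOfModules.sheafificationAdjunction (𝟙 R)))
        (iC := SheafOfModules.forget (ModSite.ringSh (O.over U))) (iD := 𝟭 _)
        (L := jSh O U) (R := ModSite.restr O U)
        (SheafOfModules.fullyFaithfulForget _) (Functor.FullyFaithful.id _) (Iso.refl _)
        (restrForgetIso O U) A
      refine h1.trans ((Category.id_comp _).trans ?_)
      rw [Adjunction.comp_counit_app, Functor.map_comp, Category.assoc]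
      rfl
    rw [h]
    haveI : PreservesFiniteLimits (PresheafOfModules.sheafification.{u} (𝟙 R)) := inferInstance
    haveI : Mono ((jFun R U).map ((restrForgetIso O U).inv.app A) ≫ (jAdj R U).counit.app A.val) :=
      @mono_comp _ _ _ _ _ _ inferInstance _ hj
    have hi := (NatTrans.isIso_iff_isIso_app
      (PresheafOfModules.sheafificationAdjunction (𝟙 R)).counit).1 inferInstance A
    exact @mono_comp _ _ _ _ _ _ inferInstance _ (@IsIso.mono_of_iso _ _ _ _ _ hi)
  rw [← Adjunction.leftAdjointUniq_hom_app_counit (ModSite.extZeroAdj O U) (jShAdj O U) A]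
  exact mono_comp _ _

variable [ModSite.HasPushOver O U]

include hU in
theorem epi_unit_injective (I : ModSite.Mod O) [Injective I] :
    Epi ((ModSite.restrPushOverAdj O U).unit.app I) := by
  let adj := ModSite.restrPushOverAdj O U
  refine ⟨fun {Z} g h hgh => ?_⟩
  refine FreeOn.isSeparating_freeOn O Set.univ (fun X => ⟨PUnit, fun _ => X, fun _ => 𝟙 X, ?_,
    fun _ => trivial⟩) g h fun G hG φ => ?_
  · refine J.superset_covering ?_ (J.top_mem X)
    intro Z q _
    exact ⟨X, q, 𝟙 X, ⟨PUnit.unit⟩, Category.comp_id q⟩
  let ψ := ((ModSite.extZeroAdj O U).homEquiv _ I).symm ((adj.homEquiv _ _).symm φ)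
  haveI := mono_counit O U hU G
  let χ := Injective.factorThru ψ ((ModSite.extZeroAdj O U).counit.app G)
  have hχ : (ModSite.restr O U).map χ = (adj.homEquiv _ _).symm φ := by
    apply ((ModSite.extZeroAdj O U).homEquiv _ I).symm.injective
    rw [(ModSite.extZeroAdj O U).homEquiv_counit]
    refine ((ModSite.extZeroAdj O U).counit.naturality χ).trans ?_
    exact Injective.comp_factorThru ψ ((ModSite.extZeroAdj O U).counit.app G)
  have e : φ = χ ≫ adj.unit.app I := by
    rw [← Equiv.apply_symm_apply (adj.homEquiv G _) φ, ← hχ, adj.homEquiv_unit]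
    exact (adj.unit.naturality χ).symm
  rw [e, Category.assoc, Category.assoc, hgh]

include hU in
theorem shortExact_injective (I : ModSite.Mod O) (hI : Injective I) :
    (ShortComplex.mk ((ModSite.sectOnι O U).app I) ((ModSite.restrPushOverAdj O U).unit.app I)
      (kernel.condition _)).ShortExact where
  exact := ShortComplex.exact_of_f_is_kernel _
    (kernelIsKernel ((ModSite.restrPushOverAdj O U).unit.app I))
  mono_f := inferInstanceAs (Mono (kernel.ι ((ModSite.restrPushOverAdj O U).unit.app I)))
  epi_g := epi_unit_injective O U hU I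

theorem isZero_rightDerived_id {A : Type*} [Category A] [Abelian A] [HasInjectiveResolutions A]
    (q : ℕ) (X : A) : IsZero (((𝟭 A).rightDerived (q + 1)).obj X) := by
  refine IsZero.of_iso ?_ ((injectiveResolution X).isoRightDerivedObj (𝟭 A) (q + 1))
  exact ((injectiveResolution X).cocomplex_exactAt_succ q).isZero_homology

end Groth.Agent.SiteBase.SuppSeq
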