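import Groth.Agent.SiteBase.FlatCech
import Groth.Agent.SiteBase.ModCoh
import Groth.Prelude.Def_ExtSupp
import Mathlib.CategoryTheory.Sites.Subsheaf

/-!
# The quotient by the open generated by an object

For an object `U` of a ringed site with image `V` in the final sheaf, `M/M_U` is `M ⊗ Y` for
`Y = coker(O[V] ⟶ O)`, `M ↦ M/M_U` is left adjoint to sections with supports and preserves
monomorphisms, and cohomology with supports is `Ext(Y, -)`.
-/

set_option linter.style.haveILetI false
set_option linter.unusedSectionVars false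

universe u

open CategoryTheory Limits Opposite Abelian MonoidalCategory TensorProduct

noncomputable section

namespace Groth.Agent.SiteBase.OpenQuot

variable {C : Type u} [SmallCategory C] {J : GrothendieckTopology C}

variable (J) in
/-- The map to the terminal sheaf of sets. -/
def toPt (K : Sheaf J (Type u)) : K ⟶ ptSh J :=
  ObjectProperty.homMk
    { app := fun _ => TypeCat.ofHom fun _ => PUnit.unit
      naturality := fun _ _ _ => rfl }

variable (J) in
/-- The terminal sheaf is terminal. -/
def isTerminalPt : IsTerminal (ptSh J) :=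
  IsTerminal.ofUniqueHom (fun K => toPt J K) fun K f => by
    ext X x
    rfl

variable (J) in
/-- The image of an object in the terminal sheaf. -/
abbrev openSh (U : C) : Sheaf J (Type u) := Sheaf.image (toPt J (shYoneda J U))

theorem subsingleton_openSh (U : C) (W : Cᵒᵖ) : Subsingleton ((openSh J U).obj.obj W) :=
  ⟨fun a b => Subtype.ext (Subsingleton.elim (α := PUnit.{u + 1}) a.1 b.1)⟩

theorem nonempty_openSh {U W : C} (g : W ⟶ U) : Nonempty ((openSh J U).obj.obj (op W)) :=
  ⟨(Sheaf.toImage (toPt J (shYoneda J U))).hom.app (op W)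
    ((CategoryTheory.toSheafify J (yoneda.obj U)).app (op W) g)⟩

theorem sieve_of_openSh {U W : C} (σ : (openSh J U).obj.obj (op W)) :
    ∃ S ∈ J W, ∀ ⦃W' : C⦄ (i : W' ⟶ W), S.arrows i → Nonempty (W' ⟶ U) := by
  have hσ := σ.2
  refine ⟨Sieve.bind ((Subfunctor.range (toPt J (shYoneda J U)).hom).sieveOfSection σ.1).arrows
    (fun {W'} i hi => Presheaf.imageSieve (CategoryTheory.toSheafify J (yoneda.obj U))
      (show ((shYoneda J U).obj.obj (op W')) from hi.choose)),
    J.bind_covering hσ fun {W'} i hi => Presheaf.imageSieve_mem J _ _, ?_⟩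
  rintro W'' _ ⟨W', j, i, hi, ⟨t, -⟩, rfl⟩
  exact ⟨t⟩

variable (O : Sheaf J CommRingCat.{u}) (U : C)

/-- The presheaf map `O[V] ⟶ O` of generators to `1`. -/
def onePre : (openSh J U).obj ⟶ (PresheafOfModules.toPresheaf _ ⋙
    (Functor.whiskeringRight _ _ _).obj (forget AddCommGrpCat.{u})).obj
      (ModTensor.pre O (ModSite.unit O)) where
  app W := TypeCat.ofHom fun _ => (show (ModTensor.pre O (ModSite.unit O)).obj W from (1 : O.obj.obj W))
  naturality W W' i := by
    ext σ
    exact (map_one (O.obj.map i).hom).symm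

/-- The presheaf map `O[V] ⟶ O`. -/
def openPre : (PresheafOfModules.free (O.obj ⋙ forget₂ CommRingCat RingCat)).obj (openSh J U).obj ⟶
    ModTensor.pre O (ModSite.unit O) :=
  ((PresheafOfModules.freeAdjunction _).homEquiv _ _).symm (onePre O U)

theorem openPre_single (W : Cᵒᵖ) (σ : (openSh J U).obj.obj W) (r : O.obj.obj W) :
    ModTensor.lin (openPre O U) W (Finsupp.single σ r) =
      (show (ModTensor.pre O (ModSite.unit O)).obj W from r) := by
  have h : ModTensor.lin (openPre O U) W (Finsupp.single σ (1 : O.obj.obj W)) =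
      (show (ModTensor.pre O (ModSite.unit O)).obj W from (1 : O.obj.obj W)) := by
    have h' := ((PresheafOfModules.freeAdjunction (O.obj ⋙ forget₂ CommRingCat RingCat)).homEquiv_unit
      (openSh J U).obj _ (openPre O U)).symm.trans (Equiv.apply_symm_apply _ (onePre O U))
    exact ConcreteCategory.congr_hom (congr_app h' W) σ
  refine ((congrArg (ModTensor.lin (openPre O U) W) (Finsupp.smul_single_one σ r).symm).trans
    (map_smul (ModTensor.lin (openPre O U) W) r _)).trans ?_
  rw [h]
  exact mul_one r

/-- The map `O[V] ⟶ O`. -/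
def openMap : (freeMod (ModSite.ringSh O)).obj (openSh J U) ⟶ ModSite.unit O :=
  ((PresheafOfModules.sheafificationAdjunction (𝟙 (ModSite.ringSh O).obj)).homEquiv _ _).symm
    (openPre O U)

/-- The structure sheaf of the closed complement of the open. -/
abbrev closedMod : ModSite.Mod O := cokernel (openMap O U)

/-- The map `A_V ⟶ A`. -/
def openCounit (A : ModSite.Mod O) :
    ((ModSite.tensorBi O).obj A).obj ((freeMod (ModSite.ringSh O)).obj (openSh J U)) ⟶ A :=
  ((ModSite.tensorBi O).obj A).map (openMap O U) ≫ (ModTensor.tensorUnitRight O).hom.app A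

/-- The presheaf map underlying `openCounit`. -/
def openCounitPre (A : ModSite.Mod O) :
    ModTensor.pre O A ⊗ (PresheafOfModules.free (O.obj ⋙ forget₂ CommRingCat RingCat)).obj
      (openSh J U).obj ⟶ ModTensor.pre O A :=
  (ModTensor.pre O A ◁ openPre O U) ≫ (ρ_ (ModTensor.pre O A)).hom

theorem sheafifyTensorLeftIso_openCounit (A : ModSite.Mod O) :
    (ModTensor.sheafifyTensorLeftIso O (ModTensor.pre O A)
      ((PresheafOfModules.free (O.obj ⋙ forget₂ CommRingCat RingCat)).obj (openSh J U).obj)).hom ≫
        openCounit O U A =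
      ((PresheafOfModules.sheafificationAdjunction (𝟙 (ModSite.ringSh O).obj)).homEquiv _ _).symm
        (openCounitPre O U A) := by
  let S := ModTensor.shF O
  have hc : ModTensor.shUnit O _ ≫ (ModTensor.preFunctor O).map (openMap O U) = openPre O U :=
    ((PresheafOfModules.sheafificationAdjunction (𝟙 (ModSite.ringSh O).obj)).homEquiv_unit _ _ _).symm.trans
      (Equiv.apply_symm_apply _ _)
  show S.map (ModTensor.pre O A ◁ ModTensor.shUnit O _) ≫
      S.map (ModTensor.pre O A ◁ (ModTensor.preFunctor O).map (openMap O U)) ≫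
        S.map (ρ_ (ModTensor.pre O A)).hom ≫ (ModTensor.sheafifyPreIso O A).hom = _
  rw [← S.map_comp_assoc, ← whiskerLeft_comp, hc, ← S.map_comp_assoc]
  exact ((PresheafOfModules.sheafificationAdjunction (𝟙 (ModSite.ringSh O).obj)).homEquiv_counit
    _ _ _).symm

/-- `openCounitPre` on sections. -/
abbrev counitLin (A : ModSite.Mod O) (W : Cᵒᵖ) :
    ((ModTensor.pre O A).obj W : Type u) ⊗[O.obj.obj W] ((openSh J U).obj.obj W →₀ O.obj.obj W)
      →ₗ[O.obj.obj W] (ModTensor.pre O A).obj W :=
  ModTensor.lin (openCounitPre O U A) W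

theorem openCounitPre_tmul (A : ModSite.Mod O) (W : Cᵒᵖ) (a : (ModTensor.pre O A).obj W)
    (σ : (openSh J U).obj.obj W) (r : O.obj.obj W) :
    counitLin O U A W (a ⊗ₜ[O.obj.obj W] Finsupp.single σ r) = r • a := by
  show (show O.obj.obj W from ModTensor.lin (openPre O U) W (Finsupp.single σ r)) • a = r • a
  rw [openPre_single]

theorem openCounit_comp_eq_zero_iff {A N : ModSite.Mod O} (φ : A ⟶ N) :
    openCounit O U A ≫ φ = 0 ↔ (ModSite.restr O U).map φ = 0 := by
  let adj := PresheafOfModules.sheafificationAdjunction (𝟙 (ModSite.ringSh O).obj)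
  refine Iff.trans (cancel_epi (ModTensor.sheafifyTensorLeftIso O (ModTensor.pre O A)
      ((PresheafOfModules.free (O.obj ⋙ forget₂ CommRingCat RingCat)).obj (openSh J U).obj)).hom).symm ?_
  erw [comp_zero, ← Category.assoc, sheafifyTensorLeftIso_openCounit]
  have key : (∀ (W : C) (_ : (openSh J U).obj.obj (op W)) (a : (ModTensor.pre O A).obj (op W)),
      ModTensor.lin ((ModTensor.preFunctor O).map φ) (op W) a = 0) ↔
      (ModSite.restr O U).map φ = 0 := by
    constructor
    · intro h
      apply (SheafOfModules.toSheaf _).map_injective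
      ext Y m
      exact h _ (nonempty_openSh (unop Y).hom).some m
    · intro h W σ a
      obtain ⟨S, hS, hSU⟩ := sieve_of_openSh σ
      refine ((isSheaf_iff_isSheaf_of_type J _).1
        ((sheafCompose J (forget AddCommGrpCat.{u})).obj (ModSite.toAb N)).2 S hS).isSeparatedFor.ext
        fun W' i hi => ?_
      obtain ⟨g⟩ := hSU i hi
      have h1 : ModTensor.lin ((ModTensor.preFunctor O).map φ) (op W')
          (ModTensor.res (ModTensor.pre O A) i.op a) = 0 :=
        congrArg (fun ψ : (ModSite.restr O U).obj A ⟶ (ModSite.restr O U).obj N =>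
          (ψ.val.app (op (Over.mk g))).hom (ModTensor.res (ModTensor.pre O A) i.op a)) h
      rw [ModTensor.lin_res] at h1
      exact h1.trans (map_zero (ModTensor.res (ModTensor.pre O N) i.op)).symm
  rw [← key]
  haveI : (PresheafOfModules.sheafification (𝟙 (ModSite.ringSh O).obj)).Additive :=
    adj.left_adjoint_additive
  have e : (adj.homEquiv _ A).symm (openCounitPre O U A) ≫ φ = 0 ↔
      openCounitPre O U A ≫ (ModTensor.preFunctor O).map φ = 0 := by
    refine ⟨fun h => ?_, fun h => ?_⟩
    · exact (((adj.homEquiv_naturality_right _ _).trans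
        (congrArg (· ≫ (ModTensor.preFunctor O).map φ) (Equiv.apply_symm_apply _ _))).symm.trans
          (congrArg (adj.homEquiv _ N) h)).trans (adj.homAddEquiv _ N).map_zero
    · exact ((adj.homEquiv_naturality_right_symm _ _).symm.trans
        (congrArg (adj.homEquiv _ N).symm h)).trans (adj.homAddEquiv _ N).symm.map_zero
  refine e.trans ⟨fun h W σ a => ?_, fun h => ?_⟩
  · have h1 := congrArg (fun ψ => ModTensor.lin ψ (op W)
      (a ⊗ₜ[O.obj.obj (op W)] Finsupp.single σ (1 : O.obj.obj (op W)))) h
    change ModTensor.lin ((ModTensor.preFunctor O).map φ) (op W)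
      (counitLin O U A (op W) (a ⊗ₜ[O.obj.obj (op W)] Finsupp.single σ (1 : O.obj.obj (op W)))) = 0 at h1
    exact (congrArg (ModTensor.lin ((ModTensor.preFunctor O).map φ) (op W))
      ((openCounitPre_tmul O U A _ a σ 1).trans (one_smul _ a))).symm.trans h1
  · apply PresheafOfModules.hom_ext
    intro W
    apply ModuleCat.hom_ext
    refine TensorProduct.ext' fun a f => ?_
    show ModTensor.lin ((ModTensor.preFunctor O).map φ) W
      (counitLin O U A W (a ⊗ₜ[O.obj.obj W] f)) = 0
    change (openSh J U).obj.obj W →₀ O.obj.obj W at f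
    induction f using Finsupp.induction_linear with
    | zero => rw [tmul_zero, map_zero, map_zero]
    | add x y hx hy => rw [tmul_add, map_add, map_add, hx, hy, add_zero]
    | single σ r => rw [openCounitPre_tmul, map_smul, h W.unop σ a, smul_zero]

theorem mono_openCounit (A : ModSite.Mod O) : Mono (openCounit O U A) := by
  haveI : Mono (openCounitPre O U A) := PresheafOfModules.mono_of_injective fun {W} => by
    intro x y hxy
    change ((ModTensor.pre O A).obj W : Type u) ⊗[O.obj.obj W]
      ((openSh J U).obj.obj W →₀ O.obj.obj W) at x y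
    replace hxy : counitLin O U A W x = counitLin O U A W y := hxy
    by_cases hW : Nonempty ((openSh J U).obj.obj W)
    · obtain ⟨σ⟩ := hW
      haveI := subsingleton_openSh (J := J) U W
      have key : ∀ z, (counitLin O U A W z) ⊗ₜ[O.obj.obj W]
          Finsupp.single σ (1 : O.obj.obj W) = z := by
        intro z
        induction z using TensorProduct.induction_on with
        | zero => rw [map_zero, zero_tmul]
        | add a b ha hb => rw [map_add, add_tmul, ha, hb]
        | tmul a f =>
          induction f using Finsupp.induction_linear with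
          | zero => rw [tmul_zero, map_zero, zero_tmul]
          | add p q hp hq => rw [tmul_add, map_add, add_tmul, hp, hq]
          | single τ r =>
            rw [openCounitPre_tmul, Subsingleton.elim τ σ, smul_tmul, Finsupp.smul_single_one]
      exact (key x).symm.trans ((congrArg (· ⊗ₜ[O.obj.obj W] Finsupp.single σ (1 : O.obj.obj W))
        hxy).trans (key y))
    · haveI : IsEmpty ((openSh J U).obj.obj W) := not_nonempty_iff.1 hW
      exact Subsingleton.elim (α := (ModTensor.pre O A).obj W ⊗[O.obj.obj W]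
        ((openSh J U).obj.obj W →₀ O.obj.obj W)) x y
  haveI : PreservesFiniteLimits (ModTensor.shF O) :=
    inferInstanceAs (PreservesFiniteLimits
      (PresheafOfModules.sheafification.{u} (𝟙 (ModSite.ringSh O).obj)))
  have h := sheafifyTensorLeftIso_openCounit O U A
  rw [Adjunction.homEquiv_counit] at h
  rw [← Iso.eq_inv_comp] at h
  rw [h]
  have h1 : Mono ((ModTensor.shF O).map (openCounitPre O U A)) := inferInstance
  have h2 : Mono ((PresheafOfModules.sheafificationAdjunction (𝟙 (ModSite.ringSh O).obj)).counit.app A) :=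
    haveI := (ModTensor.sheafifyPreIso O A).isIso_hom
    inferInstanceAs (Mono (ModTensor.sheafifyPreIso O A).hom)
  exact @mono_comp _ _ _ _ _ _ (inferInstance) _ (@mono_comp _ _ _ _ _ _ h1 _ h2)

/-- The projection `A ⟶ A ⊗ Y`. -/
def closedπ (A : ModSite.Mod O) : A ⟶ ((ModSite.tensorBi O).obj A).obj (closedMod O U) :=
  (ModTensor.tensorUnitRight O).inv.app A ≫ ((ModSite.tensorBi O).obj A).map (cokernel.π _)

theorem openCounit_closedπ (A : ModSite.Mod O) : openCounit O U A ≫ closedπ O U A = 0 := by
  rw [openCounit, closedπ, Category.assoc, Iso.hom_inv_id_app_assoc, ← Functor.map_comp,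
    cokernel.condition]
  haveI := ModTensor.additive_tensorBi_obj O A
  exact Functor.map_zero _ _ _

theorem counit_comp_eq_zero_iff {A N : ModSite.Mod O} (φ : A ⟶ N) :
    (ModSite.extZeroAdj O U).counit.app A ≫ φ = 0 ↔ openCounit O U A ≫ φ = 0 :=
  (ExtSupp.mem_homZ_iff U φ).symm.trans (openCounit_comp_eq_zero_iff O U φ).symm

theorem closedπ_comp_inj {A N : ModSite.Mod O}
    {x y : ((ModSite.tensorBi O).obj A).obj (closedMod O U) ⟶ N}
    (h : closedπ O U A ≫ x = closedπ O U A ≫ y) : x = y := by
  haveI : Epi (closedπ O U A) := epi_comp _ _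
  exact (cancel_epi (closedπ O U A)).1 h

/-- `A/A_U = A ⊗ Y` on objects. -/
def quotOnTensorIso' (A : ModSite.Mod O) :
    cokernel ((ModSite.extZeroAdj O U).counit.app A) ≅
      ((ModSite.tensorBi O).obj A).obj (closedMod O U) where
  hom := cokernel.desc _ (closedπ O U A)
    ((counit_comp_eq_zero_iff O U _).2 (openCounit_closedπ O U A))
  inv := (PreservesCokernel.iso ((ModSite.tensorBi O).obj A) (openMap O U)).hom ≫
    cokernel.desc _ ((ModTensor.tensorUnitRight O).hom.app A ≫ cokernel.π _) (by
      rw [← Category.assoc]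
      exact (counit_comp_eq_zero_iff O U _).1 (cokernel.condition _))
  hom_inv_id := by
    apply coequalizer.hom_ext
    simp [closedπ]
  inv_hom_id := by
    apply closedπ_comp_inj O U
    simp [closedπ]

/-- `A/A_U = A ⊗ Y` on objects. -/
def quotOnTensorIso (A : ModSite.Mod O) :
    (ModSite.quotOn O U).obj A ≅ ((ModSite.tensorBi O).obj A).obj (closedMod O U) :=
  quotOnTensorIso' O U A

/-- `A/A_U = A ⊗ Y`, naturally. -/
def quotOnIso : ModSite.quotOn O U ≅ (ModSite.tensorBi O).flip.obj (closedMod O U) :=
  NatIso.ofComponents (quotOnTensorIso O U) fun {A B} f => by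
    apply coequalizer.hom_ext
    have h1 : f ≫ (ModTensor.tensorUnitRight O).inv.app B =
        (ModTensor.tensorUnitRight O).inv.app A ≫
          ((ModSite.tensorBi O).map f).app (ModSite.unit O) :=
      (ModTensor.tensorUnitRight O).inv.naturality f
    simp [quotOnTensorIso, quotOnTensorIso', ModSite.quotOn, closedπ, reassoc_of% h1]

/-- `A ↦ A/A_U` preserves monomorphisms. -/
theorem mono_quotOn_map {A B : ModSite.Mod O} (f : A ⟶ B) [Mono f] :
    Mono ((ModSite.quotOn O U).map f) := by
  let P := (freeMod (ModSite.ringSh O)).obj (openSh J U)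
  let t := (ModSite.tensorBi O).flip.obj P
  let T := ShortComplex.mk f (cokernel.π f) (cokernel.condition f)
  have hT : T.Exact := ShortComplex.exact_of_g_is_cokernel _ (cokernelIsCokernel f)
  haveI : t.Additive := inferInstance
  haveI : Epi T.g := inferInstanceAs (Epi (cokernel.π f))
  have htT : (T.map t).Exact := hT.map_of_epi_of_preservesCokernel t inferInstance inferInstance
  have nat : ∀ {X Y : ModSite.Mod O} (g : X ⟶ Y),
      openCounit O U X ≫ g = t.map g ≫ openCounit O U Y := fun {X Y} g => by
    have h1 : (ModTensor.tensorUnitRight O).hom.app X ≫ g =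
        ((ModSite.tensorBi O).map g).app (ModSite.unit O) ≫
          (ModTensor.tensorUnitRight O).hom.app Y :=
      ((ModTensor.tensorUnitRight O).hom.naturality g).symm
    show (_ ≫ _) ≫ g = ((ModSite.tensorBi O).map g).app P ≫ _ ≫ _
    rw [Category.assoc, h1, ← Category.assoc, ← Category.assoc, ModTensor.tensor_exchange]
  let Q : ShortComplex (ModSite.Mod O) :=
    ShortComplex.mk (openCounit O U B) (cokernel.π (openCounit O U B)) (cokernel.condition _)
  have hQ : Q.Exact := ShortComplex.exact_of_g_is_cokernel _ (cokernelIsCokernel _)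
  refine Preadditive.mono_of_cancel_zero _ fun {W} x hx => ?_
  haveI : Epi (cokernel.π ((ModSite.extZeroAdj O U).counit.app A)) := inferInstance
  obtain ⟨W₁, p₁, _, a, ha⟩ := surjective_up_to_refinements_of_epi
    (cokernel.π ((ModSite.extZeroAdj O U).counit.app A)) x
  have h0 : (a ≫ f) ≫ cokernel.π ((ModSite.extZeroAdj O U).counit.app B) = 0 := by
    have h2 : cokernel.π ((ModSite.extZeroAdj O U).counit.app A) ≫ (ModSite.quotOn O U).map f =
        f ≫ cokernel.π ((ModSite.extZeroAdj O U).counit.app B) :=
      cokernel.π_desc _ _ _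
    refine (Category.assoc _ _ _).trans ((congrArg (a ≫ ·) h2.symm).trans ?_)
    exact (Category.assoc _ _ _).symm.trans ((congrArg (· ≫ (ModSite.quotOn O U).map f) ha.symm).trans
      ((Category.assoc _ _ _).trans ((congrArg (p₁ ≫ ·) hx).trans comp_zero)))
  have h0' : (a ≫ f) ≫ cokernel.π (openCounit O U B) = 0 := by
    rw [← cokernel.π_desc ((ModSite.extZeroAdj O U).counit.app B) (cokernel.π (openCounit O U B))
      ((counit_comp_eq_zero_iff O U _).2 (cokernel.condition _)), ← Category.assoc, h0, zero_comp]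
  obtain ⟨W₂, p₂, _, z, hz⟩ := hQ.exact_up_to_refinements (a ≫ f) h0'
  change W₂ ⟶ t.obj B at z
  change p₂ ≫ a ≫ f = z ≫ openCounit O U B at hz
  haveI := mono_openCounit O U (cokernel f)
  have hz0 : z ≫ t.map (cokernel.π f) = 0 := by
    rw [← cancel_mono (openCounit O U (cokernel f)), zero_comp, Category.assoc, ← nat,
      ← reassoc_of% hz, cokernel.condition, comp_zero, comp_zero]
  obtain ⟨W₃, p₃, _, w, hw⟩ := htT.exact_up_to_refinements z hz0
  change W₃ ⟶ t.obj A at w
  change p₃ ≫ z = w ≫ t.map f at hw
  have e : p₃ ≫ p₂ ≫ a = w ≫ openCounit O U A := by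
    rw [← cancel_mono f, Category.assoc, Category.assoc, hz, reassoc_of% hw, ← nat, Category.assoc]
  have h3 : openCounit O U A ≫ cokernel.π ((ModSite.extZeroAdj O U).counit.app A) = 0 :=
    (counit_comp_eq_zero_iff O U _).1 (cokernel.condition _)
  refine (cancel_epi p₁).1 (ha.trans (Eq.trans ?_ comp_zero.symm))
  rw [← cancel_epi p₂, ← cancel_epi p₃, comp_zero, comp_zero, reassoc_of% e, h3, comp_zero]

section Sect

variable [ModSite.HasPushOver O U]

theorem comp_unit_eq_zero_iff {A N : ModSite.Mod O} (φ : A ⟶ N) :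
    φ ≫ (ModSite.restrPushOverAdj O U).unit.app N = 0 ↔ (ModSite.restr O U).map φ = 0 := by
  let adj := ModSite.restrPushOverAdj O U
  have h : φ ≫ adj.unit.app N = adj.homEquiv _ _ ((ModSite.restr O U).map φ) := by
    rw [adj.homEquiv_unit]
    exact adj.unit.naturality φ
  rw [h]
  haveI : (ModSite.restr O U).Additive := ExtSupp.restr_additive O U
  exact (adj.homAddEquiv _ _).map_eq_zero_iff

/-- The adjunction bijection. -/
def quotSectEquiv (A N : ModSite.Mod O) :
    (cokernel ((ModSite.extZeroAdj O U).counit.app A) ⟶ N) ≃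
      (A ⟶ kernel ((ModSite.restrPushOverAdj O U).unit.app N)) where
  toFun ψ := kernel.lift _ (cokernel.π _ ≫ ψ) ((comp_unit_eq_zero_iff O U _).2
    ((ExtSupp.mem_homZ_iff U _).2 (cokernel.condition_assoc _ _ |>.trans zero_comp)))
  invFun χ := cokernel.desc _ (χ ≫ kernel.ι _) ((ExtSupp.mem_homZ_iff U _).1
    ((comp_unit_eq_zero_iff O U _).1 ((Category.assoc _ _ _).trans
      ((congrArg (χ ≫ ·) (kernel.condition _)).trans comp_zero))))
  left_inv ψ := coequalizer.hom_ext ((cokernel.π_desc _ _ _).trans (kernel.lift_ι _ _ _))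
  right_inv χ := equalizer.hom_ext ((kernel.lift_ι _ _ _).trans (cokernel.π_desc _ _ _))

/-- `A ↦ A/A_U` is left adjoint to the sections with supports. -/
def quotSectAdj : ModSite.quotOn O U ⊣ ModSite.sectOn O U :=
  Adjunction.mkOfHomEquiv
    { homEquiv := quotSectEquiv O U
      homEquiv_naturality_left_symm := by
        intro A' A N f g
        apply coequalizer.hom_ext
        refine (cokernel.π_desc _ _ _).trans ((Category.assoc _ _ _).trans ?_)
        exact ((congrArg (f ≫ ·) (cokernel.π_desc _ _ _).symm).trans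
          (Category.assoc _ _ _).symm).trans ((congrArg (· ≫ _) (cokernel.π_desc _ _ _).symm).trans
            (Category.assoc _ _ _))
      homEquiv_naturality_right := by
        intro A N N' f g
        apply equalizer.hom_ext
        refine (kernel.lift_ι _ _ _).trans ((Category.assoc _ _ _).symm.trans ?_)
        exact ((congrArg (· ≫ g) (kernel.lift_ι _ _ _).symm).trans (Category.assoc _ _ _)).trans
          ((congrArg (_ ≫ ·) (kernel.lift_ι _ _ _).symm).trans (Category.assoc _ _ _).symm) }

theorem injective_sectOn (I : ModSite.Mod O) [Injective I] :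
    Injective ((ModSite.sectOn O U).obj I) := by
  haveI : (ModSite.quotOn O U).PreservesMonomorphisms := ⟨fun f _ => mono_quotOn_map O U f⟩
  exact Injective.injective_of_adjoint (quotSectAdj O U) I

end Sect

end Groth.Agent.SiteBase.OpenQuot

namespace Groth.Agent.SiteBase.OpenQuot

variable {C : Type u} [SmallCategory C] {J : GrothendieckTopology C}

theorem epi_free_map {K L : Sheaf J (Type u)} (e : K ⟶ L) [Epi e] : Epi ((freeShFun J).map e) := by
  refine ⟨fun {Z} a b h => ?_⟩
  apply (shHomEquiv L Z).symm.injective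
  apply (cancel_epi e).1
  apply (shHomEquiv K Z).injective
  rw [shHomEquiv_naturality, shHomEquiv_naturality, Equiv.apply_symm_apply, Equiv.apply_symm_apply]
  exact h

theorem mono_freeShFun_map {Y X : Sheaf J (Type u)} (ι : Y ⟶ X) [Mono ι] :
    Mono ((freeShFun J).map ι) := by
  haveI : Mono ((sheafToPresheaf J (Type u)).map ι) := inferInstance
  haveI : ∀ U, Mono (((sheafToPresheaf J (Type u)).map ι).app U) :=
    (NatTrans.mono_iff_mono_app _).1 inferInstance
  haveI : Mono (Functor.whiskerRight ((sheafToPresheaf J (Type u)).map ι)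
      AddCommGrpCat.free.{u}) := by
    rw [NatTrans.mono_iff_mono_app]
    intro U
    haveI := ‹∀ U, Mono (((sheafToPresheaf J (Type u)).map ι).app U)› U
    exact mono_free_map (((sheafToPresheaf J (Type u)).map ι).app U)
  exact (inferInstance : Mono ((presheafToSheaf J AddCommGrpCat.{u}).map
    (Functor.whiskerRight ((sheafToPresheaf J (Type u)).map ι) AddCommGrpCat.free.{u})))

variable (J) in
/-- The inclusion `ℤ[V] ⟶ ℤ`. -/
abbrev openIncl (U : C) : (freeShFun J).obj (openSh J U) ⟶ (freeShFun J).obj (ptSh J) :=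
  (freeShFun J).map (Sheaf.imageι (toPt J (shYoneda J U)))

variable (J) in
/-- The map `ℤ ⟶ ℤ/ℤ_U`. -/
def zπ (U : C) : (freeShFun J).obj (ptSh J) ⟶ ToposFin.quotZ (ToposFin.eps J U) :=
  (freeShFun J).map (terminal.from (ptSh J)) ≫
    cokernel.π ((ToposFin.freeAb J).map (terminal.from (ToposFin.eps J U)))

instance epi_zπ (U : C) : Epi (zπ J U) := by
  haveI : IsIso (terminal.from (ptSh J)) :=
    ⟨⟨toPt J _, (isTerminalPt J).hom_ext _ _, terminal.hom_ext _ _⟩⟩
  exact epi_comp _ _

theorem openIncl_zπ (U : C) : openIncl J U ≫ zπ J U = 0 := by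
  haveI := epi_free_map (Sheaf.toImage (toPt J (shYoneda J U)))
  rw [← cancel_epi ((freeShFun J).map (Sheaf.toImage (toPt J (shYoneda J U)))), comp_zero, zπ]
  simp only [← Category.assoc, ← Functor.map_comp]
  exact (congrArg (fun h => (freeShFun J).map h ≫
    cokernel.π ((ToposFin.freeAb J).map (terminal.from (ToposFin.eps J U))))
      (terminal.hom_ext _ _)).trans (cokernel.condition _)

theorem exists_zπ_desc (U : C) {F : Sheaf J AddCommGrpCat.{u}} (a : (freeShFun J).obj (ptSh J) ⟶ F)
    (h : openIncl J U ≫ a = 0) : ∃ b, zπ J U ≫ b = a := by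
  let g : (⊤_ Sheaf J (Type u)) ⟶ ptSh J := toPt J _
  refine ⟨cokernel.desc _ ((freeShFun J).map g ≫ a) ?_, ?_⟩
  · refine (Category.assoc _ _ _).symm.trans ?_
    have e : terminal.from (ToposFin.eps J U) ≫ g =
        Sheaf.toImage (toPt J (shYoneda J U)) ≫ Sheaf.imageι _ := (isTerminalPt J).hom_ext _ _
    exact ((congrArg (· ≫ a) (((freeShFun J).map_comp _ _).symm.trans ((congrArg (freeShFun J).map e).trans
      ((freeShFun J).map_comp _ _)))).trans (Category.assoc _ _ _)).trans
        ((congrArg (_ ≫ ·) h).trans comp_zero)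
  · rw [zπ, Category.assoc, cokernel.π_desc, ← Functor.map_comp_assoc,
      (isTerminalPt J).hom_ext (terminal.from (ptSh J) ≫ g) (𝟙 _), CategoryTheory.Functor.map_id, Category.id_comp]

/-- The sequence `ℤ[V] ⟶ ℤ ⟶ ℤ/ℤ_U`. -/
theorem shortExact_openIncl (U : C) :
    (ShortComplex.mk (openIncl J U) (zπ J U) (openIncl_zπ U)).ShortExact where
  exact := ShortComplex.exact_of_g_is_cokernel _ (CokernelCofork.IsColimit.ofπ _ _
    (fun a ha => (exists_zπ_desc U a ha).choose) (fun a ha => (exists_zπ_desc U a ha).choose_spec)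
    (fun a ha b hb => (cancel_epi (zπ J U)).1 (hb.trans (exists_zπ_desc U a ha).choose_spec.symm)))
  mono_f := mono_freeShFun_map _
  epi_g := inferInstanceAs (Epi (zπ J U))

/-- Totally acyclic sheaves have no cohomology with supports in positive degrees. -/
theorem subsingleton_ext_quotZ {H : Sheaf J AddCommGrpCat.{u}} (hH : CohCx.IsTotallyAcyclic H)
    (U : C) (n : ℕ) : Subsingleton (Ext.{u} (ToposFin.quotZ (ToposFin.eps J U)) H (n + 1)) := by
  refine subsingleton_of_forall_eq 0 fun x => ?_
  obtain ⟨y, rfl⟩ := Ext.contravariant_sequence_exact₃ (shortExact_openIncl (J := J) U) H x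
    (Subsingleton.elim (α := Ext.{u} ((freeShFun J).obj (ptSh J)) H (n + 1)) (h := hH (ptSh J) n) _ _)
    (add_comm 1 n)
  obtain _ | n := n
  · obtain ⟨s, rfl⟩ := (Ext.mk₀_bijective _ _).2 y
    obtain ⟨t, ht⟩ := restrict_surjective H hH (Sheaf.imageι (toPt J (shYoneda J U))) s
    rw [← ht, ← Ext.mk₀_comp_mk₀, ← Ext.comp_assoc_of_second_deg_zero]
    exact (congrArg (fun z => Ext.comp z (Ext.mk₀ t) (add_zero 1))
      ((shortExact_openIncl (J := J) U).extClass_comp)).trans (by simp)
  · rw [Subsingleton.elim (α := Ext.{u} ((freeShFun J).obj (openSh J U)) H (n + 1))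
      (h := hH (openSh J U) n) y 0, Ext.comp_zero]

variable (O : Sheaf J CommRingCat.{u}) (U : C)

theorem toFreeMod_openMap :
    toFreeMod (ModSite.ringSh O) (openSh J U) ≫
        (SheafOfModules.toSheaf (ModSite.ringSh O)).map (openMap O U) =
      openIncl J U ≫ (freePtIso J).hom ≫ unitSh (ModSite.ringSh O) := by
  apply (freeShEquiv (openSh J U) _).injective
  rw [freeShEquiv_comp, toFreeMod, Equiv.apply_symm_apply]
  erw [freeShEquiv_naturality]
  refine Eq.trans (b := onePre O U) ?_ ?_
  · let adjC := (PresheafOfModules.freeAdjunction (ModSite.ringSh O).obj).comp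
      (PresheafOfModules.sheafificationAdjunction (𝟙 (ModSite.ringSh O).obj))
    have e : adjC.homEquiv (openSh J U).obj _ (openMap O U) = onePre O U := by
      rw [Adjunction.comp_homEquiv]
      exact (congrArg
        ((PresheafOfModules.freeAdjunction (ModSite.ringSh O).obj).homEquiv (openSh J U).obj
          ((SheafOfModules.forget (ModSite.ringSh O) ⋙
            PresheafOfModules.restrictScalars (𝟙 (ModSite.ringSh O).obj)).obj (ModSite.unit O)))
        (Equiv.apply_symm_apply ((PresheafOfModules.sheafificationAdjunction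
          (𝟙 (ModSite.ringSh O).obj)).homEquiv _ _) (openPre O U))).trans
        (Equiv.apply_symm_apply _ (onePre O U))
    exact (adjC.homEquiv_unit _ _ _).symm.trans e
  · ext W σ
    simp only [freeShEquiv, Equiv.trans_apply, freePtIso, unitSh]
    erw [Adjunction.homEquiv_naturality_left, Equiv.apply_symm_apply]
    exact (one_zsmul (show O.obj.obj W from 1)).symm

theorem openIncl_unitSh : openIncl J U ≫ (freePtIso J).hom ≫ unitSh (ModSite.ringSh O) ≫
    (SheafOfModules.toSheaf (ModSite.ringSh O)).map (cokernel.π (openMap O U)) = 0 := by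
  rw [← Category.assoc (freePtIso J).hom, ← Category.assoc, ← toFreeMod_openMap, Category.assoc,
    ← Functor.map_comp, cokernel.condition]
  exact (congrArg (_ ≫ ·) (Functor.map_zero _ _ _)).trans comp_zero

/-- The map `ℤ/ℤ_U ⟶ O/O_U`. -/
def closedUnit : ToposFin.quotZ (ToposFin.eps J U) ⟶
    (SheafOfModules.toSheaf (ModSite.ringSh O)).obj (closedMod O U) :=
  (exists_zπ_desc (J := J) U _ (openIncl_unitSh O U)).choose

theorem zπ_closedUnit : zπ J U ≫ closedUnit O U = (freePtIso J).hom ≫ unitSh (ModSite.ringSh O) ≫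
    (SheafOfModules.toSheaf (ModSite.ringSh O)).map (cokernel.π (openMap O U)) :=
  (exists_zπ_desc (J := J) U _ (openIncl_unitSh O U)).choose_spec

theorem closedUnit_bijective (N : ModSite.Mod O) :
    Function.Bijective fun φ : closedMod O U ⟶ N =>
      closedUnit O U ≫ (SheafOfModules.toSheaf (ModSite.ringSh O)).map φ := by
  let G := SheafOfModules.toSheaf (ModSite.ringSh O)
  have key : ∀ φ : closedMod O U ⟶ N, zπ J U ≫ closedUnit O U ≫ G.map φ =
      (freePtIso J).hom ≫ unitSh (ModSite.ringSh O) ≫ G.map (cokernel.π (openMap O U) ≫ φ) := by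
    intro φ
    rw [← Category.assoc, zπ_closedUnit, Category.assoc, Category.assoc, G.map_comp]
  constructor
  · intro φ ψ h
    apply coequalizer.hom_ext
    apply (unitSh_bijective (ModSite.ringSh O) N).1
    apply (cancel_epi (freePtIso J).hom).1
    exact (key φ).symm.trans ((congrArg (zπ J U ≫ ·) h).trans (key ψ))
  · intro x
    obtain ⟨ψ, hψ⟩ := (unitSh_bijective (ModSite.ringSh O) N).2 ((freePtIso J).inv ≫ zπ J U ≫ x)
    have hψ' : unitSh (ModSite.ringSh O) ≫ G.map ψ = (freePtIso J).inv ≫ zπ J U ≫ x := hψ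
    have h0 : openMap O U ≫ ψ = 0 := by
      apply (toFreeMod_bijective (openSh J U) N).1
      refine Eq.trans ?_ ((congrArg (toFreeMod (ModSite.ringSh O) (openSh J U) ≫ ·)
        (Functor.map_zero G _ _)).trans comp_zero).symm
      show toFreeMod _ _ ≫ G.map (openMap O U ≫ ψ) = 0
      rw [G.map_comp, ← Category.assoc, toFreeMod_openMap, Category.assoc, Category.assoc, hψ',
        Iso.hom_inv_id_assoc, ← Category.assoc, openIncl_zπ, zero_comp]
    refine ⟨cokernel.desc _ ψ h0, (cancel_epi (zπ J U)).1 ?_⟩
    rw [key, cokernel.π_desc, hψ', Iso.hom_inv_id_assoc]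

variable [HasExt.{u} (ModSite.Mod O)]

/-- Cohomology with supports is `Ext(O/O_U, -)`. -/
def extClosedEquiv (N : ModSite.Mod O) (n : ℕ) :
    Ext.{u} (closedMod O U) N n ≃+ ModSite.HZ U N n :=
  haveI : EnoughInjectives (ModSite.Mod O) := enoughInjectives_sheafOfModules (ModSite.ringSh O)
  extUnitEquiv (G := SheafOfModules.toSheaf (ModSite.ringSh O)) (closedUnit O U)
    (closedUnit_bijective O U)
    (fun I _ m => subsingleton_ext_quotZ (isTotallyAcyclic_toSheaf_injective I) U m) N n

end Groth.Agent.SiteBase.OpenQuot
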