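import Groth.Agent.SiteBase.Rpush
import Mathlib.CategoryTheory.Abelian.Injective.Ext

/-!
# Higher direct images as sheafified cohomology presheaves, naturally
-/

set_option linter.style.haveILetI false

universe u

open CategoryTheory CategoryTheory.Limits Opposite Abelian

noncomputable section

namespace Groth.Agent.SiteBase

variable {C : Type u} [SmallCategory C] {J : GrothendieckTopology C}
variable {F G : Sheaf J AddCommGrpCat.{u}} {f : F ⟶ G} {R : InjectiveResolution F}
  {R' : InjectiveResolution G}

theorem homologyπ_homologyPresheafIso (R : InjectiveResolution F) (n : ℕ) :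
    (presheafCx R).homologyπ n ≫ (homologyPresheafIso R n).hom = cyclesToHU R n := by
  exact IsColimit.comp_coconePointUniqueUpToIso_hom
    ((presheafCx R).homologyIsCokernel _ n rfl) _ WalkingParallelPair.one

theorem cyclesToHU_natural (φ : R.Hom R' f) (n : ℕ) :
    HomologicalComplex.cyclesMap (((sheafToPresheaf J AddCommGrpCat.{u}).mapHomologicalComplex _).map φ.hom) n ≫
        cyclesToHU R' n =
      cyclesToHU R n ≫ (Sheaf.cohomologyPresheafFunctor J n).map f := by
  ext U z
  show cycleClass R' n U.unop ((HomologicalComplex.cyclesMap (((sheafToPresheaf J AddCommGrpCat.{u}).mapHomologicalComplex _).map φ.hom) n).app U z) =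
    (cycleClass R n U.unop z).comp (Ext.mk₀ f) (add_zero n)
  simp only [cycleClass]
  rw [InjectiveResolution.extMk_comp_mk₀ (φ := φ)]
  refine extMk_congr R' _ _ _ _ ?_
  rw [secEquiv_symm_comp]
  refine congr_arg _ ?_
  exact ConcreteCategory.congr_hom (congr_app (HomologicalComplex.cyclesMap_i
    (((sheafToPresheaf J AddCommGrpCat.{u}).mapHomologicalComplex _).map φ.hom) n) U) z

theorem homologyPresheafIso_natural (φ : R.Hom R' f) (n : ℕ) :
    HomologicalComplex.homologyMap
        (((sheafToPresheaf J AddCommGrpCat.{u}).mapHomologicalComplex _).map φ.hom) n ≫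
        (homologyPresheafIso R' n).hom =
      (homologyPresheafIso R n).hom ≫ (Sheaf.cohomologyPresheafFunctor J n).map f := by
  rw [← cancel_epi ((presheafCx R).homologyπ n), ← Category.assoc, ← Category.assoc,
    HomologicalComplex.homologyπ_naturality, Category.assoc, homologyπ_homologyPresheafIso,
    homologyπ_homologyPresheafIso, cyclesToHU_natural]

/-- A morphism of the chosen resolutions. -/
def resolHom (f : F ⟶ G) (R : InjectiveResolution F) (R' : InjectiveResolution G) : R.Hom R' f where
  hom := InjectiveResolution.desc f R' R
  ι_f_zero_comp_hom_f_zero :=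
    (InjectiveResolution.desc_commutes_zero f R' R).trans (by simp)

variable {D : Type u} [SmallCategory D] (J) (K : GrothendieckTopology D) (u : D ⥤ C)
  [u.IsContinuous K J]

theorem rpushIso_natural {F G : Sheaf J AddCommGrpCat.{u}} (f : F ⟶ G) (n : ℕ) :
    (CohSite.Rpush J K u n).map f ≫ (rpushIso J K u G n).hom =
      (rpushIso J K u F n).hom ≫ (resSheafify K u).map ((Sheaf.cohomologyPresheafFunctor J n).map f) := by
  let φ := resolHom f (injectiveResolution F) (injectiveResolution G)
  have h1 := InjectiveResolution.isoRightDerivedObj_hom_naturality f (injectiveResolution F)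
    (injectiveResolution G) φ.hom (InjectiveResolution.desc_commutes_zero f _ _) (CohSite.push J K u) n
  have h2 := congrArg (fun z => HomologicalComplex.homologyMap z n)
    ((NatIso.mapHomologicalComplex (pushIso J K u) (ComplexShape.up ℕ)).hom.naturality φ.hom)
  simp only [HomologicalComplex.homologyMap_comp] at h2
  have h3 := ShortComplex.mapHomologyIso_hom_naturality (F := resSheafify K u)
    ((HomologicalComplex.shortComplexFunctor _ (ComplexShape.up ℕ) n).map
      (((sheafToPresheaf J AddCommGrpCat.{u}).mapHomologicalComplex _).map φ.hom))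
  have h4 := congrArg (resSheafify K u).map (homologyPresheafIso_natural φ n)
  rw [Functor.map_comp, Functor.map_comp] at h4
  simp only [rpushIso, Iso.trans_hom, Functor.mapIso_hom, Category.assoc]
  erw [reassoc_of% h1]
  refine congrArg (_ ≫ ·) ?_
  erw [reassoc_of% h2]
  refine congrArg (_ ≫ ·) ?_
  erw [reassoc_of% h3]
  exact congrArg (_ ≫ ·) h4

/-- `R^n u_*` is the composition of the cohomology presheaves with restriction and sheafification. -/
def rpushNatIso (n : ℕ) :
    CohSite.Rpush J K u n ≅ Sheaf.cohomologyPresheafFunctor J n ⋙ resSheafify K u :=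
  NatIso.ofComponents (fun F => rpushIso J K u F n) fun f => rpushIso_natural J K u f n

end Groth.Agent.SiteBase
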