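import Groth.Agent.SiteBase.FamilyCechApps

/-!
# Cartan's criterion on a site
-/

universe u

open CategoryTheory Limits Opposite Simplicial Abelian

noncomputable section

namespace Groth.Agent.SiteBase

variable {C : Type u} [SmallCategory C] [HasPullbacks C] {J : GrothendieckTopology C} {U : C}
  {ι : Type u} (Y : ι → Over U)

/-- The map of free sheaves to that of the base. -/
abbrev fcShToBase : fcSh J (FormalCoproduct.mk ι Y) ⟶ freeAb J U :=
  (presheafToSheaf J AddCommGrpCat.{u}).map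
    (Functor.whiskerRight (fcToBase (FormalCoproduct.mk ι Y)) AddCommGrpCat.free.{u})

theorem fcEval_toBase {F : Sheaf J AddCommGrpCat.{u}} (φ : freeAb J U ⟶ F) (i : ι) :
    fcEval (FormalCoproduct.mk ι Y) F (fcShToBase Y ≫ φ) i =
      F.obj.map (Y i).hom.op (secEquiv U F φ) := by
  have h1 := ConcreteCategory.congr_hom (congr_app (toSheafify_naturality J
    (Functor.whiskerRight (fcToBase (FormalCoproduct.mk ι Y)) AddCommGrpCat.free.{u}))
      (op (Y i).left)) (FreeAbelianGroup.of ⟨i, 𝟙 _⟩)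
  refine (congrArg (φ.hom.app _) h1.symm).trans ?_
  have e : (Functor.whiskerRight (fcToBase (FormalCoproduct.mk ι Y)) AddCommGrpCat.free.{u}).app
      (op (Y i).left) (FreeAbelianGroup.of ⟨i, 𝟙 _⟩) =
      (yoneda.obj U ⋙ AddCommGrpCat.free.{u}).map (Y i).hom.op (FreeAbelianGroup.of (𝟙 U)) := by
    change FreeAbelianGroup.map _ (FreeAbelianGroup.of _) =
      FreeAbelianGroup.map _ (FreeAbelianGroup.of _)
    rw [FreeAbelianGroup.map_of_apply, FreeAbelianGroup.map_of_apply]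
    exact congrArg FreeAbelianGroup.of ((Category.id_comp _).trans (Category.comp_id _).symm)
  exact (congrArg ((toSheafify J (yoneda.obj U ⋙ AddCommGrpCat.free.{u}) ≫ φ.hom).app _) e).trans
    (ConcreteCategory.congr_hom ((toSheafify J _ ≫ φ.hom).naturality _) _)

/-- The resolution of the free sheaf on the base. -/
def baseRes (hY : Sieve.ofArrows (fun i => (Y i).left) (fun i => (Y i).hom) ∈ J U) :
    SeqResolution (freeAb J U) :=
  famRes J Y (𝟙 (yoneda.{u, u}.obj U)) (fcToBase (FormalCoproduct.mk ι Y))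
    (Category.comp_id _) (isLocallySurjective_fcToBase Y hY)

/-- The zeroth projection. -/
abbrev famProj₀ : (famChain J Y).X 0 ⟶ fcSh J (FormalCoproduct.mk ι Y) :=
  (presheafToSheaf J AddCommGrpCat.{u}).map
    (Functor.whiskerRight ((fcPre (U := U)).map
      (FormalCoproduct.powerπ (FormalCoproduct.mk ι Y) (α := ToType (⦋0⦌ : SimplexCategory))
        (0 : Fin (0 + 1)))) AddCommGrpCat.free.{u})

theorem baseRes_ε (hY : Sieve.ofArrows (fun i => (Y i).left) (fun i => (Y i).hom) ∈ J U) :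
    (baseRes Y hY).ε = famProj₀ Y ≫ fcShToBase Y := by
  change (AlgebraicTopology.AlternatingFaceMapComplex.ε.app (famSh Y _ _ _ J)).f 0 = _
  rw [AlgebraicTopology.AlternatingFaceMapComplex.ε_app_f_zero]
  change (presheafToSheaf J AddCommGrpCat.{u}).map (Functor.whiskerRight (_ ≫ _) _ ≫ 𝟙 _) ≫ 𝟙 _ = _
  rw [Category.comp_id, Category.comp_id, Functor.whiskerRight_comp]
  exact (presheafToSheaf J AddCommGrpCat.{u}).map_comp _ _

/-- Vanishing of the first Čech group of a refining family makes sections lift. -/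
theorem sections_surjective_of_cech {S : ShortComplex (Sheaf J AddCommGrpCat.{u})}
    (hS : S.ShortExact)
    (h : ∀ T ∈ J U, ∃ (ι : Type u) (Y : ι → Over U), (∀ i, T.arrows (Y i).hom) ∧
      Sieve.ofArrows (fun i => (Y i).left) (fun i => (Y i).hom) ∈ J U ∧
      IsZero (CohCx.cechH S.X₁.obj Y 1)) :
    Function.Surjective (S.g.hom.app (op U)) := by
  intro s
  haveI := hS.mono_f
  haveI := hS.epi_g
  haveI : Presheaf.IsLocallySurjective J S.g.hom :=
    (Sheaf.isLocallySurjective_iff_epi' AddCommGrpCat.{u} S.g).2 inferInstance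
  obtain ⟨κ, Z, hZ, hcov, hz⟩ := h _ (Presheaf.imageSieve_mem J S.g.hom (U := op U) s)
  choose t ht using hZ
  obtain ⟨φ, hφ⟩ := fcEval_surjective (FormalCoproduct.mk κ Z) S.X₂ t
  let s' : freeAb J U ⟶ S.X₃ := (secEquiv U S.X₃).symm s
  have e : φ ≫ S.g = fcShToBase Z ≫ s' := by
    refine fcEval_injective (FormalCoproduct.mk κ Z) S.X₃ (funext fun i => ?_)
    rw [fcEval_comp, hφ, fcEval_toBase, Equiv.apply_symm_apply]
    exact ht i
  let R := baseRes Z hcov
  let t' : (famChain J Z).X 0 ⟶ S.X₂ := famProj₀ Z ≫ φ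
  have ht' : t' ≫ S.g = R.ε ≫ s' := by
    refine ((Category.assoc _ _ _).trans (congrArg (famProj₀ Z ≫ ·) e)).trans ?_
    exact (Category.assoc _ _ _).symm.trans (congrArg (· ≫ s') (baseRes_ε Z hcov).symm)
  have h0 : ((famChain J Z).d 1 0 ≫ t') ≫ S.g = 0 :=
    (Category.assoc _ _ _).trans ((congrArg ((famChain J Z).d 1 0 ≫ ·) ht').trans
      ((Category.assoc _ _ _).symm.trans ((congrArg (· ≫ s') R.w₀).trans zero_comp)))
  let χ := hS.exact.lift _ h0
  have hχ : χ ≫ S.f = (famChain J Z).d 1 0 ≫ t' := hS.exact.lift_f _ h0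
  obtain ⟨a, ha⟩ := (famCx_exact_iff Z S.X₁ 0).1 hz χ (by
    rw [← cancel_mono S.f, Category.assoc, hχ, ← Category.assoc, HomologicalComplex.d_comp_d,
      zero_comp, zero_comp])
  haveI : Epi (ShortComplex.mk (R.d 0) R.ε R.w₀).g := R.epi
  have hd : R.d 0 ≫ (t' - a ≫ S.f) = 0 := by
    refine (Preadditive.comp_sub _ _ _).trans (sub_eq_zero.2 ?_)
    exact hχ.symm.trans ((congrArg (· ≫ S.f) ha.symm).trans (Category.assoc _ _ _))
  refine ⟨secEquiv U S.X₂ (R.exact₀.desc _ hd), ?_⟩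
  rw [← secEquiv_comp]
  refine (congrArg (secEquiv U S.X₃) ?_).trans (Equiv.apply_symm_apply _ _)
  haveI : Epi R.ε := R.epi
  refine (cancel_epi R.ε).1 (((Category.assoc _ _ _).symm.trans
    (congrArg (· ≫ S.g) (R.exact₀.g_desc _ hd))).trans (Eq.trans ?_ ht'))
  have key : (t' - a ≫ S.f) ≫ S.g = t' ≫ S.g := by
    rw [Preadditive.sub_comp, Category.assoc a, S.zero, comp_zero, sub_zero]
  exact key

/-- Cartan's criterion. -/
theorem subsingleton_HU_cartan (B : Set C) (Cov : ∀ (U : C) (ι : Type u), (ι → Over U) → Prop)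
    (h1 : ∀ (U : C) (ι : Type u) (Y : ι → Over U), Cov U ι Y → U ∈ B ∧
      Sieve.ofArrows (fun i => (Y i).left) (fun i => (Y i).hom) ∈ J U ∧
      ∀ (p : ℕ) (a : Fin (p + 1) → ι), (∏ᶜ fun k => Y (a k)).left ∈ B)
    (h2 : ∀ U ∈ B, ∀ T ∈ J U, ∃ (ι : Type u) (Y : ι → Over U), Cov U ι Y ∧ ∀ i, T.arrows (Y i).hom)
    (F : Sheaf J AddCommGrpCat.{u})
    (h3 : ∀ (U : C) (ι : Type u) (Y : ι → Over U), Cov U ι Y → ∀ p : ℕ,
      IsZero (CohCx.cechH F.obj Y (p + 1)))
    (p : ℕ) : ∀ V ∈ B, Subsingleton (CohSite.HU F (p + 1) V) := by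
  induction p generalizing F with
  | zero =>
    intro V hV
    obtain ⟨S, hS, rfl, hI⟩ := exists_injective_presentation F
    haveI := hI
    refine subsingleton_one hS V (subsingleton_of_injective V _ 0)
      (sections_surjective_of_cech hS fun T hT => ?_)
    obtain ⟨κ, Z, hZ, hT'⟩ := h2 V hV T hT
    exact ⟨κ, Z, hT', (h1 V κ Z hZ).2.1, h3 V κ Z hZ 0⟩
  | succ p ih =>
    intro V hV
    obtain ⟨S, hS, rfl, hI⟩ := exists_injective_presentation F
    haveI := hI
    haveI := hS.mono_f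
    have hone : ∀ W ∈ B, Subsingleton (CohSite.HU S.X₁ 1 W) := fun W hW => by
      refine subsingleton_one hS W (subsingleton_of_injective W _ 0)
        (sections_surjective_of_cech hS fun T hT => ?_)
      obtain ⟨κ, Z, hZ, hT'⟩ := h2 W hW T hT
      exact ⟨κ, Z, hT', (h1 W κ Z hZ).2.1, h3 W κ Z hZ 0⟩
    refine subsingleton_shift hS V (p + 1) (subsingleton_of_injective V _ (p + 1))
      (ih S.X₃ (fun W κ Z hZ n => ?_) V hV)
    obtain ⟨-, hcov, hB⟩ := h1 W κ Z hZ
    refine (famCx_exact_iff Z S.X₃ n).2 fun φ hφ => ?_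
    choose t ht using fun i : (famObj Z (n + 1)).I =>
      sections_surjective hS ((famObj Z (n + 1)).obj i).left (hone _ (hB (n + 1) i))
        (fcEval (famObj Z (n + 1)) S.X₃ φ i)
    obtain ⟨φ₀, hφ'⟩ := fcEval_surjective (famObj Z (n + 1)) S.X₂ t
    let φ' : (famChain J Z).X (n + 1) ⟶ S.X₂ := φ₀
    have hx' : φ' ≫ S.g = φ := fcEval_injective (famObj Z (n + 1)) S.X₃ (funext fun i =>
      ((fcEval_comp (famObj Z (n + 1)) φ₀ S.g i).trans
        (congrArg (S.g.hom.app _) (congrFun hφ' i))).trans (ht i))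
    have h0 : ((famChain J Z).d (n + 2) (n + 1) ≫ φ') ≫ S.g = 0 :=
      (Category.assoc _ _ _).trans ((congrArg ((famChain J Z).d (n + 2) (n + 1) ≫ ·) hx').trans hφ)
    let χ := hS.exact.lift _ h0
    have hχ : χ ≫ S.f = (famChain J Z).d (n + 2) (n + 1) ≫ φ' := hS.exact.lift_f _ h0
    obtain ⟨a, ha⟩ := (famCx_exact_iff Z S.X₁ (n + 1)).1 (h3 W κ Z hZ (n + 1)) χ (by
      rw [← cancel_mono S.f, Category.assoc, hχ, ← Category.assoc, HomologicalComplex.d_comp_d,
        zero_comp, zero_comp])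
    obtain ⟨ψ, hψ⟩ := (famCx_exact_iff Z S.X₂ n).1 (isZero_cech_injective Z S.X₂ hcov n)
      (φ' - a ≫ S.f) (by
        refine (Preadditive.comp_sub _ _ _).trans (sub_eq_zero.2 ?_)
        exact hχ.symm.trans ((congrArg (· ≫ S.f) ha.symm).trans (Category.assoc _ _ _)))
    refine ⟨ψ ≫ S.g, (Category.assoc _ _ _).symm.trans ((congrArg (· ≫ S.g) hψ).trans ?_)⟩
    refine (Preadditive.sub_comp _ _ _).trans ?_
    exact (congrArg₂ (· - ·) hx' ((Category.assoc a S.f S.g).trans
      ((congrArg (a ≫ ·) S.zero).trans comp_zero))).trans (sub_zero _)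

end Groth.Agent.SiteBase
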