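import Groth.Prelude.Def_ModSite
import Mathlib

/-!
# Maps out of `j_{U!} O_U` are sections
-/

set_option linter.style.haveILetI false
set_option linter.unusedSectionVars false

universe u

open CategoryTheory Limits Opposite

noncomputable section

namespace Groth.Agent.SiteBase.FreeOn

variable {C : Type u} [SmallCategory C] {J : GrothendieckTopology C} (O : Sheaf J CommRingCat.{u})

/-- The global section of the restriction defined by a section at `U`. -/
def overSection (N : ModSite.Mod O) (U : C) (s : N.val.obj (op U)) :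
    ((ModSite.restr O U).obj N).sections :=
  PresheafOfModules.sectionsMk (M := ((ModSite.restr O U).obj N).val)
    (fun X => N.val.map X.unop.hom.op s)
    (fun X Y f => by
      show N.val.map f.unop.left.op (N.val.map X.unop.hom.op s) = N.val.map Y.unop.hom.op s
      rw [← PresheafOfModules.map_comp_apply, ← op_comp, Over.w])

/-- Evaluation at the terminal object identifies sections of the restriction with sections at `U`. -/
def sectionsOverEquiv (N : ModSite.Mod O) (U : C) :
    ((ModSite.restr O U).obj N).sections ≃ N.val.obj (op U) where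
  toFun t := t.val (op (Over.mk (𝟙 U)))
  invFun s := overSection O N U s
  left_inv t := Subtype.ext (funext fun X => t.property
    (Over.homMk X.unop.hom (by simp) : X.unop ⟶ Over.mk (𝟙 U)).op)
  right_inv s := by
    show N.val.map (𝟙 U).op s = s
    rw [op_id]
    exact congr($(N.val.presheaf.map_id (op U)) s)

/-- Maps from `j_{U!} O_U` are sections over `U`. -/
def freeOnEquiv (U : C) (N : ModSite.Mod O) : (ModSite.freeOn O U ⟶ N) ≃ N.val.obj (op U) :=
  ((ModSite.extZeroAdj O U).homEquiv _ _).trans
    (((ModSite.restr O U).obj N).unitHomEquiv.trans (sectionsOverEquiv O N U))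

theorem freeOnEquiv_comp (U : C) {N N' : ModSite.Mod O} (φ : ModSite.freeOn O U ⟶ N) (g : N ⟶ N') :
    freeOnEquiv O U N' (φ ≫ g) = g.val.app (op U) (freeOnEquiv O U N φ) := by
  simp only [freeOnEquiv, Equiv.trans_apply]
  rw [(ModSite.extZeroAdj O U).homEquiv_naturality_right]
  rfl

/-- Objects corepresenting the sections over `U` are isomorphic to `j_{U!} O_U`. -/
def isoOfEquiv (U : C) (M : ModSite.Mod O) (e : ∀ N : ModSite.Mod O, (M ⟶ N) ≃ N.val.obj (op U))
    (he : ∀ {N N' : ModSite.Mod O} (φ : M ⟶ N) (g : N ⟶ N'),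
      e N' (φ ≫ g) = g.val.app (op U) (e N φ)) : M ≅ ModSite.freeOn O U :=
  (Coyoneda.fullyFaithful.preimageIso (X := op (ModSite.freeOn O U)) (Y := op M)
    (NatIso.ofComponents (fun N => ((freeOnEquiv O U N).trans (e N).symm).toIso)
      (fun {N N'} g => by
        ext φ
        show (e N').symm (freeOnEquiv O U N' (φ ≫ g)) = (e N).symm (freeOnEquiv O U N φ) ≫ g
        apply (e N').injective
        rw [he, Equiv.apply_symm_apply, Equiv.apply_symm_apply, freeOnEquiv_comp]))).unop

/-- The modules `j_{X!} O_X` for `X` in a topologically generating family separate. -/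
theorem isSeparating_freeOn (G : Set C)
    (hG : ∀ X : C, ∃ (ι : Type u) (Y : ι → C) (f : ∀ i, Y i ⟶ X),
      Sieve.ofArrows Y f ∈ J X ∧ ∀ i, Y i ∈ G) :
    (ObjectProperty.ofObj fun X : G => ModSite.freeOn O (X : C)).IsSeparating := by
  intro N W g h hgh
  apply SheafOfModules.hom_ext
  apply PresheafOfModules.hom_ext
  rintro ⟨U⟩
  ext s
  obtain ⟨ι, Y, f, hS, hY⟩ := hG U
  refine ((isSheaf_iff_isSheaf_of_type _ _).1
    ((sheafCompose J (forget AddCommGrpCat.{u})).obj (ModSite.toAb W)).property
      (Sieve.ofArrows Y f) hS).isSeparatedFor.ext fun Z q hq => ?_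
  obtain ⟨i, a, rfl⟩ := (Sieve.mem_ofArrows_iff _ _ _).1 hq
  have key : ∀ t : N.val.obj (op (Y i)), g.val.app (op (Y i)) t = h.val.app (op (Y i)) t := fun t => by
    have := congrArg (freeOnEquiv O (Y i) W)
      (hgh _ ⟨⟨Y i, hY i⟩⟩ ((freeOnEquiv O (Y i) N).symm t))
    rwa [freeOnEquiv_comp, freeOnEquiv_comp, Equiv.apply_symm_apply] at this
  show W.val.map (a ≫ f i).op (g.val.app (op U) s) = W.val.map (a ≫ f i).op (h.val.app (op U) s)
  have nat : ∀ k : N ⟶ W, W.val.map (a ≫ f i).op (k.val.app (op U) s) =
      W.val.map a.op (k.val.app (op (Y i)) (N.val.map (f i).op s)) := fun k => by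
    rw [op_comp, PresheafOfModules.map_comp_apply, ← PresheafOfModules.naturality_apply]
  exact (nat g).trans ((congrArg _ (key _)).trans (nat h).symm)

end Groth.Agent.SiteBase.FreeOn
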