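import Groth.Agent.SiteBase.ExtZeroPre

/-!
# The projection formula for presheaves of modules
-/

set_option linter.style.haveILetI false
set_option linter.unusedSectionVars false

universe u

open CategoryTheory Limits Opposite MonoidalCategory DirectSum TensorProduct

noncomputable section

namespace Groth.Agent.SiteBase.ExtZeroPre

attribute [local instance] decEqHom

theorem jAdj_homEquiv_symm {C : Type u} [SmallCategory C] {R : Cᵒᵖ ⥤ RingCat.{u}} {U : C}
    (G : PresheafOfModules.{u} (overR R U)) (N : PresheafOfModules.{u} R) (β : G ⟶ resPre N) :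
    ((jAdj R U).homEquiv G N).symm β = desc G N β := by
  refine ((jAdj R U).homEquiv G N).symm_apply_eq.2 (Eq.trans ?_
    ((jAdj R U).homEquiv_unit G N _).symm)
  show β = (unit G ≫ (PresheafOfModules.pushforward₀ (Over.forget U) R).map (𝟙 _)) ≫
    (PresheafOfModules.pushforward₀ (Over.forget U) R).map (desc G N β)
  rw [CategoryTheory.Functor.map_id, Category.comp_id]
  exact ((homEquiv G N).right_inv β).symm

variable {C : Type u} [SmallCategory C] (R : Cᵒᵖ ⥤ CommRingCat.{u}) (U : C)

/-- Presheaves of modules over a presheaf of commutative rings. -/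
abbrev CMod {C : Type u} [SmallCategory C] (R : Cᵒᵖ ⥤ CommRingCat.{u}) :=
  PresheafOfModules.{u} (R ⋙ forget₂ CommRingCat.{u} RingCat.{u})

/-- The rings over `U`. -/
abbrev overC : (Over U)ᵒᵖ ⥤ CommRingCat.{u} := (Over.forget U).op ⋙ R

/-- Restriction to the objects over `U`. -/
abbrev resC : CMod R ⥤ CMod (overC R U) :=
  PresheafOfModules.pushforward₀OfCommRingCat.{u} (Over.forget U) R

/-- Extension by zero. -/
abbrev jC : CMod (overC R U) ⥤ CMod R := jFun (R ⋙ forget₂ CommRingCat.{u} RingCat.{u}) U

/-- The adjunction between extension by zero and restriction. -/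
abbrev jAdjC : jC R U ⊣ resC R U := jAdj (R ⋙ forget₂ CommRingCat.{u} RingCat.{u}) U

variable {R U}

/-- The value of `G` at `V ⟶ U`, as a module over the commutative ring at `V`. -/
abbrev fibC (G : CMod (overC R U)) (V : C) (φ : V ⟶ U) : ModuleCat.{u} (R.obj (op V)) :=
  G.obj (op (Over.mk φ))

instance moduleFib (G : CMod (overC R U)) (V : C) (φ : V ⟶ U) :
    Module (R.obj (op V)) (G.obj (op (Over.mk φ))) :=
  (fibC G V φ).isModule

/-- The inclusion of a summand. -/
abbrev ιC (G : CMod (overC R U)) (V : C) (φ : V ⟶ U) : fibC G V φ →+ ((jC R U).obj G).obj (op V) :=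
  ι (R := R ⋙ forget₂ CommRingCat.{u} RingCat.{u}) G V φ

/-- The comparison map of the projection formula. -/
def projMap (G : CMod (overC R U)) (N : CMod R) :
    (jC R U).obj (G ⊗ (resC R U).obj N) ⟶ (jC R U).obj G ⊗ N :=
  ((jAdjC R U).homEquiv _ _).symm
    (((jAdjC R U).unit.app G ▷ (resC R U).obj N) ≫
      Functor.LaxMonoidal.μ (resC R U) ((jC R U).obj G) N)

theorem projMap_natural_left {G G' : CMod (overC R U)} (f : G ⟶ G') (N : CMod R) :
    (jC R U).map (f ▷ (resC R U).obj N) ≫ projMap G' N = projMap G N ≫ ((jC R U).map f ▷ N) := by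
  apply ((jAdjC R U).homEquiv _ _).injective
  rw [(jAdjC R U).homEquiv_naturality_left, (jAdjC R U).homEquiv_naturality_right, projMap, projMap,
    Equiv.apply_symm_apply, Equiv.apply_symm_apply, Category.assoc,
    ← Functor.LaxMonoidal.μ_natural_left, ← comp_whiskerRight_assoc, ← comp_whiskerRight_assoc]
  congr 2
  exact (jAdjC R U).unit.naturality f

theorem projMap_natural_right (G : CMod (overC R U)) {N N' : CMod R} (g : N ⟶ N') :
    (jC R U).map (G ◁ (resC R U).map g) ≫ projMap G N' = projMap G N ≫ ((jC R U).obj G ◁ g) := by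
  apply ((jAdjC R U).homEquiv _ _).injective
  rw [(jAdjC R U).homEquiv_naturality_left, (jAdjC R U).homEquiv_naturality_right, projMap, projMap,
    Equiv.apply_symm_apply, Equiv.apply_symm_apply, Category.assoc,
    ← Functor.LaxMonoidal.μ_natural_right, whisker_exchange_assoc]
  rfl

theorem projMap_ι (G : CMod (overC R U)) (N : CMod R) (V : C) (φ : V ⟶ U)
    (x : (fibC G V φ : Type u)) (n : (N.obj (op V) : Type u)) :
    (projMap G N).app (op V)
        (ιC (MonoidalCategory.tensorObj G ((resC R U).obj N)) V φ (x ⊗ₜ[R.obj (op V)] n)) =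
      (ιC G V φ x) ⊗ₜ[R.obj (op V)] n := by
  let T : CMod (overC R U) := G ⊗ (resC R U).obj N
  let W : CMod R := (jC R U).obj G ⊗ N
  let β : T ⟶ (resC R U).obj W := ((jAdjC R U).unit.app G ▷ (resC R U).obj N) ≫
    Functor.LaxMonoidal.μ (resC R U) ((jC R U).obj G) N
  have e : projMap G N = desc (R := R ⋙ forget₂ CommRingCat.{u} RingCat.{u}) T W β :=
    jAdj_homEquiv_symm (R := R ⋙ forget₂ CommRingCat.{u} RingCat.{u}) T W β
  rw [e]
  exact (desc_ι (R := R ⋙ forget₂ CommRingCat.{u} RingCat.{u}) T W β V φ
    (x ⊗ₜ[R.obj (op V)] n)).trans rfl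

theorem bijective_projMap (G : CMod (overC R U)) (N : CMod R) (V : C) :
    Function.Bijective ((projMap G N).app (op V)) := by
  let M : (V ⟶ U) → Type u := fun φ => (fibC G V φ : Type u)
  let A : Type u := R.obj (op V)
  let n := (N.obj (op V) : Type u)
  letI : ∀ φ, Module A (M φ) := fun φ => (fibC G V φ).isModule
  let e : (⨁ φ, M φ) ⊗[A] n ≃ₗ[A] ⨁ φ, M φ ⊗[A] n := TensorProduct.directSumLeft A A M n
  let k : (⨁ φ, M φ ⊗[A] n) →+ (⨁ φ, M φ) ⊗[A] n :=
    ((projMap G N).app (op V)).hom.toAddMonoidHom
  have hk : k = e.symm.toLinearMap.toAddMonoidHom := by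
    refine DirectSum.addHom_ext fun φ t => ?_
    induction t using TensorProduct.induction_on with
    | zero => simp
    | add a b ha hb => simp only [map_add, ha, hb]
    | tmul x y =>
      refine (projMap_ι G N V φ x y).trans ?_
      exact (TensorProduct.directSumLeft_symm_lof_tmul (R := A) (S := A) φ x y).symm
  show Function.Bijective k
  rw [hk]
  exact e.symm.bijective

instance isIso_projMap (G : CMod (overC R U)) (N : CMod R) : IsIso (projMap G N) := by
  haveI : ∀ X, IsIso ((projMap G N).app X) := fun X =>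
    (ConcreteCategory.isIso_iff_bijective _).2 (bijective_projMap G N X.unop)
  exact (PresheafOfModules.isoMk (fun X => asIso ((projMap G N).app X))
    (fun X Y f => (projMap G N).naturality f)).isIso_hom

/-- The projection formula. -/
def projIso (G : CMod (overC R U)) (N : CMod R) :
    (jC R U).obj (G ⊗ (resC R U).obj N) ≅ (jC R U).obj G ⊗ N :=
  asIso (projMap G N)

end Groth.Agent.SiteBase.ExtZeroPre
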