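import Groth.Agent.SiteBase.ExtZeroMod
import Groth.Agent.SiteBase.ProjectionPre
import Groth.Agent.SiteBase.FreeOn
import Groth.Agent.ModTensor.Flat

/-!
# The projection formula for sheaves of modules on a localised site
-/

set_option linter.style.haveILetI false
set_option linter.unusedSectionVars false

universe u

open CategoryTheory Limits Opposite MonoidalCategory

noncomputable section

namespace Groth.Agent.SiteBase.ExtZeroPre

open Groth.Agent.ModTensor

variable {C : Type u} [SmallCategory C] {J : GrothendieckTopology C} (O : Sheaf J CommRingCat.{u}) (U : C)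

/-- Underlying presheaves on the localised site. -/
abbrev preU : ModSite.Mod (O.over U) ⥤ CMod (overC O.obj U) := preFunctor (O.over U)

/-- Sheafification on the localised site. -/
abbrev shU : CMod (overC O.obj U) ⥤ ModSite.Mod (O.over U) := shF (O.over U)

/-- Restriction commutes with taking underlying presheaves. -/
def resShIso : ModSite.restr O U ⋙ preU O U ≅ preFunctor O ⋙ resC O.obj U :=
  (restrForgetIso O U).symm

/-- Extension by zero commutes with sheafification. -/
def jShSheafifyIso : shU O U ⋙ jSh O U ≅ jC O.obj U ⋙ shF O :=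
  Adjunction.leftAdjointUniq
    (((PresheafOfModules.sheafificationAdjunction (𝟙 (ModSite.ringSh (O.over U)).obj)).comp
      (jShAdj O U)).ofNatIsoRight (resShIso O U) :
      shU O U ⋙ jSh O U ⊣ preFunctor O ⋙ resC O.obj U)
    ((jAdjC O.obj U).comp (PresheafOfModules.sheafificationAdjunction (𝟙 (ModSite.ringSh O).obj)) :
      jC O.obj U ⋙ shF O ⊣ preFunctor O ⋙ resC O.obj U)

theorem W_resC_shUnit (M : CMod O.obj) :
    (J.over U).W ((PresheafOfModules.toPresheaf _).map ((resC O.obj U).map (shUnit O M))) := by
  have h := (J.W_iff_isLocallyBijective _).1 (W_shUnit O M)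
  haveI := h.1
  haveI := h.2
  rw [(J.over U).W_iff_isLocallyBijective]
  exact ⟨Presheaf.isLocallyInjective_whisker (J.over U) J (Over.forget U)
      ((PresheafOfModules.toPresheaf _).map (shUnit O M)),
    Presheaf.isLocallySurjective_whisker (J.over U) J (Over.forget U)
      ((PresheafOfModules.toPresheaf _).map (shUnit O M))⟩

/-- Restriction commutes with sheafification. -/
def restrShIso : resC O.obj U ⋙ shU O U ≅ shF O ⋙ ModSite.restr O U :=
  NatIso.ofComponents (fun M =>
    @asIso _ _ _ _ ((shU O U).map ((resC O.obj U).map (shUnit O M)))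
      (isIso_sheafify_map (O.over U) _ (W_resC_shUnit O U M)) ≪≫
    (shU O U).mapIso ((resShIso O U).app ((shF O).obj M)).symm ≪≫
      sheafifyPreIso (O.over U) _) fun {M M'} f => by
    show (shU O U).map ((resC O.obj U).map f) ≫ (shU O U).map ((resC O.obj U).map (shUnit O M')) ≫
        (shU O U).map ((resShIso O U).inv.app _) ≫ _ =
      ((shU O U).map ((resC O.obj U).map (shUnit O M)) ≫
        (shU O U).map ((resShIso O U).inv.app _) ≫ _) ≫ (ModSite.restr O U).map ((shF O).map f)
    have h1 : (sheafifyPreIso (O.over U) ((ModSite.restr O U).obj ((shF O).obj M))).hom ≫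
        (ModSite.restr O U).map ((shF O).map f) =
      (shU O U).map ((preU O U).map ((ModSite.restr O U).map ((shF O).map f))) ≫
        (sheafifyPreIso (O.over U) ((ModSite.restr O U).obj ((shF O).obj M'))).hom :=
      ((PresheafOfModules.sheafificationAdjunction (𝟙 (ModSite.ringSh (O.over U)).obj)).counit.naturality
        ((ModSite.restr O U).map ((shF O).map f))).symm
    simp only [Category.assoc]
    rw [h1, ← Functor.map_comp_assoc, ← Functor.map_comp_assoc, ← Functor.map_comp_assoc,
      ← Functor.map_comp_assoc]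
    congr 2
    have h2 := (resShIso O U).inv.naturality ((shF O).map f)
    rw [← (resC O.obj U).map_comp, shUnit_naturality, Functor.map_comp, Category.assoc]
    exact congrArg (fun k => (resC O.obj U).map (shUnit O M) ≫ k) h2

variable {O U}

/-- The first part of the projection formula. -/
def projPreIso (P : ModSite.Mod (O.over U)) (N : ModSite.Mod O) :
    (jSh O U).obj (tens (O.over U) P ((ModSite.restr O U).obj N)) ≅
      (shF O).obj ((jC O.obj U).obj ((preU O U).obj P) ⊗ pre O N) :=
  (jShSheafifyIso O U).app ((preU O U).obj P ⊗ (preU O U).obj ((ModSite.restr O U).obj N)) ≪≫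
    (shF O).mapIso ((jC O.obj U).mapIso (whiskerLeftIso _ ((resShIso O U).app N)) ≪≫
      projIso ((preU O U).obj P) (pre O N))

/-- The projection formula for the sheafified extension by zero. -/
def projShIso (P : ModSite.Mod (O.over U)) (N : ModSite.Mod O) :
    (jSh O U).obj (tens (O.over U) P ((ModSite.restr O U).obj N)) ≅
      tens O ((jSh O U).obj P) N :=
  projPreIso P N ≪≫ sheafifyTensorRightIso O ((jC O.obj U).obj ((preU O U).obj P)) (pre O N)

theorem projShIso_natural_left {P P' : ModSite.Mod (O.over U)} (f : P ⟶ P') (N : ModSite.Mod O) :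
    (jSh O U).map (((ModSite.tensorBi (O.over U)).map f).app ((ModSite.restr O U).obj N)) ≫
        (projShIso P' N).hom =
      (projShIso P N).hom ≫ ((ModSite.tensorBi O).map ((jSh O U).map f)).app N := by
  let a := (preU O U).map f
  have h1 : (jSh O U).map ((shU O U).map (a ▷ (preU O U).obj ((ModSite.restr O U).obj N))) ≫
      (jShSheafifyIso O U).hom.app _ =
      (jShSheafifyIso O U).hom.app _ ≫
        (shF O).map ((jC O.obj U).map (a ▷ (preU O U).obj ((ModSite.restr O U).obj N))) :=
    (jShSheafifyIso O U).hom.naturality (a ▷ (preU O U).obj ((ModSite.restr O U).obj N))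
  have h2 : (jC O.obj U).map (a ▷ (preU O U).obj ((ModSite.restr O U).obj N)) ≫
      (jC O.obj U).map ((preU O U).obj P' ◁ (resShIso O U).hom.app N) ≫
        projMap ((preU O U).obj P') (pre O N) =
      ((jC O.obj U).map ((preU O U).obj P ◁ (resShIso O U).hom.app N) ≫
        projMap ((preU O U).obj P) (pre O N)) ≫ ((jC O.obj U).map a ▷ pre O N) := by
    rw [← Functor.map_comp_assoc, ← whisker_exchange, Functor.map_comp, Category.assoc,
      Category.assoc]
    exact congrArg _ (projMap_natural_left a (pre O N))
  have h3 : (shF O).map ((jC O.obj U).map a ▷ pre O N) ≫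
      (shF O).map (shUnit O ((jC O.obj U).obj ((preU O U).obj P')) ▷ pre O N) =
      (shF O).map (shUnit O ((jC O.obj U).obj ((preU O U).obj P)) ▷ pre O N) ≫
        (shF O).map ((preFunctor O).map ((shF O).map ((jC O.obj U).map a)) ▷ pre O N) := by
    rw [← Functor.map_comp, ← Functor.map_comp, ← comp_whiskerRight, ← comp_whiskerRight,
      shUnit_naturality]
  show (jSh O U).map ((shU O U).map (a ▷ (preU O U).obj ((ModSite.restr O U).obj N))) ≫
      ((jShSheafifyIso O U).hom.app _ ≫ (shF O).map
        ((jC O.obj U).map ((preU O U).obj P' ◁ (resShIso O U).hom.app N) ≫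
          projMap ((preU O U).obj P') (pre O N))) ≫ (shF O).map (_ ▷ pre O N) =
    (((jShSheafifyIso O U).hom.app _ ≫ (shF O).map
        ((jC O.obj U).map ((preU O U).obj P ◁ (resShIso O U).hom.app N) ≫
          projMap ((preU O U).obj P) (pre O N))) ≫ (shF O).map (_ ▷ pre O N)) ≫
      (shF O).map ((preFunctor O).map ((shF O).map ((jC O.obj U).map a)) ▷ pre O N)
  simp only [Category.assoc]
  refine ((Category.assoc _ _ _).symm.trans ((congrArg (· ≫ _) h1).trans
    (Category.assoc _ _ _))).trans ?_
  rw [← Functor.map_comp_assoc, h2, Functor.map_comp_assoc, h3]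
  rfl

theorem projShIso_natural_right (P : ModSite.Mod (O.over U)) {N N' : ModSite.Mod O} (g : N ⟶ N') :
    (jSh O U).map (((ModSite.tensorBi (O.over U)).obj P).map ((ModSite.restr O U).map g)) ≫
        (projShIso P N').hom =
      (projShIso P N).hom ≫ ((ModSite.tensorBi O).obj ((jSh O U).obj P)).map g := by
  let b := (preU O U).map ((ModSite.restr O U).map g)
  let c := (preFunctor O).map g
  let p := (preU O U).obj P
  have h1 : (jSh O U).map ((shU O U).map (p ◁ b)) ≫ (jShSheafifyIso O U).hom.app _ =
      (jShSheafifyIso O U).hom.app _ ≫ (shF O).map ((jC O.obj U).map (p ◁ b)) :=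
    (jShSheafifyIso O U).hom.naturality (p ◁ b)
  have hb : b ≫ (resShIso O U).hom.app N' = (resShIso O U).hom.app N ≫ (resC O.obj U).map c :=
    (resShIso O U).hom.naturality g
  have h2 : (jC O.obj U).map (p ◁ b) ≫
      (jC O.obj U).map (p ◁ (resShIso O U).hom.app N') ≫ projMap p (pre O N') =
      ((jC O.obj U).map (p ◁ (resShIso O U).hom.app N) ≫ projMap p (pre O N)) ≫
        ((jC O.obj U).obj p ◁ c) := by
    rw [← Functor.map_comp_assoc, ← MonoidalCategory.whiskerLeft_comp, hb,
      MonoidalCategory.whiskerLeft_comp, Functor.map_comp, Category.assoc, Category.assoc]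
    exact congrArg _ (projMap_natural_right p c)
  have h3 : (shF O).map ((jC O.obj U).obj p ◁ c) ≫
      (shF O).map (shUnit O ((jC O.obj U).obj p) ▷ pre O N') =
      (shF O).map (shUnit O ((jC O.obj U).obj p) ▷ pre O N) ≫
        (shF O).map (pre O ((shF O).obj ((jC O.obj U).obj p)) ◁ c) := by
    rw [← Functor.map_comp, ← Functor.map_comp, whisker_exchange]
  show (jSh O U).map ((shU O U).map (p ◁ b)) ≫
      ((jShSheafifyIso O U).hom.app _ ≫ (shF O).map
        ((jC O.obj U).map (p ◁ (resShIso O U).hom.app N') ≫ projMap p (pre O N'))) ≫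
        (shF O).map (_ ▷ pre O N') =
    (((jShSheafifyIso O U).hom.app _ ≫ (shF O).map
        ((jC O.obj U).map (p ◁ (resShIso O U).hom.app N) ≫ projMap p (pre O N))) ≫
        (shF O).map (_ ▷ pre O N)) ≫
      (shF O).map (pre O ((shF O).obj ((jC O.obj U).obj p)) ◁ c)
  simp only [Category.assoc]
  refine ((Category.assoc _ _ _).symm.trans ((congrArg (· ≫ _) h1).trans
    (Category.assoc _ _ _))).trans ?_
  rw [← Functor.map_comp_assoc, h2, Functor.map_comp_assoc, h3]
  rfl

variable (O U)

/-- The projection formula, natural in the module on the localised site. -/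
def projFunIsoLeft (N : ModSite.Mod O) :
    (ModSite.tensorBi (O.over U)).flip.obj ((ModSite.restr O U).obj N) ⋙ ModSite.extZero O U ≅
      ModSite.extZero O U ⋙ (ModSite.tensorBi O).flip.obj N :=
  Functor.isoWhiskerLeft _ (extZeroIso O U) ≪≫
    (NatIso.ofComponents (fun P => projShIso P N) (fun f => projShIso_natural_left f N) :
      (ModSite.tensorBi (O.over U)).flip.obj ((ModSite.restr O U).obj N) ⋙ jSh O U ≅
        jSh O U ⋙ (ModSite.tensorBi O).flip.obj N) ≪≫
    Functor.isoWhiskerRight (extZeroIso O U).symm _

/-- The projection formula, natural in the module on the whole site. -/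
def projFunIsoRight (P : ModSite.Mod (O.over U)) :
    ModSite.restr O U ⋙ (ModSite.tensorBi (O.over U)).obj P ⋙ ModSite.extZero O U ≅
      (ModSite.tensorBi O).obj ((ModSite.extZero O U).obj P) :=
  Functor.isoWhiskerLeft _ (Functor.isoWhiskerLeft _ (extZeroIso O U)) ≪≫
    (NatIso.ofComponents (fun N => projShIso P N) (fun g => projShIso_natural_right P g) :
      ModSite.restr O U ⋙ (ModSite.tensorBi (O.over U)).obj P ⋙ jSh O U ≅
        (ModSite.tensorBi O).obj ((jSh O U).obj P)) ≪≫
    (ModSite.tensorBi O).mapIso ((extZeroIso O U).symm.app P)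

/-- Extension by zero of a flat module is flat. -/
theorem isFlat_extZero {P : ModSite.Mod (O.over U)} (hP : ModSite.IsFlat P) :
    ModSite.IsFlat ((ModSite.extZero O U).obj P) := by
  haveI := hP.1
  haveI : PreservesFiniteLimits ((ModSite.tensorBi (O.over U)).obj P) :=
    preservesFiniteLimits_of_natIso (tensorSymm (O.over U) P)
  haveI : PreservesFiniteLimits
      (ModSite.restr O U ⋙ (ModSite.tensorBi (O.over U)).obj P ⋙ ModSite.extZero O U) :=
    comp_preservesFiniteLimits _ _
  haveI := preservesFiniteLimits_of_natIso (projFunIsoRight O U P)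
  exact ⟨preservesFiniteLimits_of_natIso
    (tensorSymm O ((ModSite.extZero O U).obj P)).symm, inferInstance⟩

/-- The structure sheaf is flat. -/
theorem isFlat_unit : ModSite.IsFlat (ModSite.unit O) :=
  ⟨preservesFiniteLimits_of_natIso (tensorUnitRight O).symm, inferInstance⟩

/-- The modules `j_{U!} O_U` are flat. -/
theorem isFlat_freeOn : ModSite.IsFlat (ModSite.freeOn O U) :=
  isFlat_extZero O U (isFlat_unit (O.over U))

/-- `O_U ⊗ N = j_! (N|_U)`. -/
def freeOnTensorIso (N : ModSite.Mod O) :
    tens O (ModSite.freeOn O U) N ≅ (ModSite.extZero O U).obj ((ModSite.restr O U).obj N) :=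
  ((projFunIsoLeft O U N).app (ModSite.unit (O.over U))).symm ≪≫
    (ModSite.extZero O U).mapIso
      ((tensComm (O.over U) (ModSite.unit (O.over U)) ((ModSite.restr O U).obj N)) ≪≫
        (tensorUnitRight (O.over U)).app ((ModSite.restr O U).obj N))

/-- Restriction commutes with tensor products. -/
def restrTensorIso (M N : ModSite.Mod O) :
    (ModSite.restr O U).obj (tens O M N) ≅
      tens (O.over U) ((ModSite.restr O U).obj M) ((ModSite.restr O U).obj N) :=
  (restrShIso O U).symm.app (pre O M ⊗ pre O N) ≪≫
    (shU O U).mapIso ((Functor.Monoidal.μIso (resC O.obj U) (pre O M) (pre O N)).symm ≪≫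
      (((resShIso O U).app M).symm ⊗ᵢ ((resShIso O U).app N).symm))

/-- Restriction commutes with internal Hom. -/
def restrSheafHomIso (M : ModSite.Mod O) [ModSite.HasSheafHom M]
    [ModSite.HasSheafHom ((ModSite.restr O U).obj M)] :
    ModSite.sheafHom M ⋙ ModSite.restr O U ≅
      ModSite.restr O U ⋙ ModSite.sheafHom ((ModSite.restr O U).obj M) :=
  Adjunction.rightAdjointUniq
    ((ModSite.extZeroAdj O U).comp (ModSite.sheafHomAdj M))
    (((ModSite.sheafHomAdj ((ModSite.restr O U).obj M)).comp (ModSite.extZeroAdj O U)).ofNatIsoLeft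
      (projFunIsoLeft O U M))

end Groth.Agent.SiteBase.ExtZeroPre
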