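import Groth.Agent.SiteBase.CechAcyclic
import Groth.Agent.SiteBase.Free

/-!
# Total acyclicity from the vanishing of Čech cohomology
-/

universe u

open CategoryTheory Limits Opposite Simplicial AlgebraicTopology Abelian

noncomputable section

namespace Groth.Agent.SiteBase

variable {C : Type u} [SmallCategory C] {J : GrothendieckTopology C}

/-- The zeroth projection of the Čech nerve, on free sheaves. -/
abbrev cechShProj {K' K : Sheaf J (Type u)} (f : K' ⟶ K) :
    (cechSh f).X 0 ⟶ (freeShFun J).obj K' :=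
  (freeShFun J).map (WidePullback.π (fun _ : Fin (0 + 1) => f) 0)

theorem cechShπ_f_zero {K' K : Sheaf J (Type u)} (f : K' ⟶ K) :
    (cechShπ f).f 0 = cechShProj f ≫ (freeShFun J).map f := by
  rw [AlternatingFaceMapComplex.ε_app_f_zero]
  change (freeShFun J).map (WidePullback.base (fun _ : Fin (0 + 1) => f)) ≫ 𝟙 _ = _
  rw [Category.comp_id]
  exact (congrArg (freeShFun J).map (WidePullback.π_arrow _ _).symm).trans
    ((freeShFun J).map_comp _ _)

/-- Morphisms from free sheaves lift locally along epimorphisms. -/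
theorem exists_local_lift {A B : Sheaf J AddCommGrpCat.{u}} (g : A ⟶ B) [Epi g]
    (K : Sheaf J (Type u)) (s : (freeShFun J).obj K ⟶ B) :
    ∃ (K' : Sheaf J (Type u)) (f : K' ⟶ K) (_ : Epi f) (t : (freeShFun J).obj K' ⟶ A),
      t ≫ g = (freeShFun J).map f ≫ s := by
  let sb := freeShEquiv K B s
  let P : Cᵒᵖ ⥤ Type u :=
    { obj := fun U => {xy : K.obj.obj U × A.obj.obj U // g.hom.app U xy.2 = sb.app U xy.1}
      map := fun {U V} i => TypeCat.ofHom fun z =>
        ⟨(K.obj.map i z.1.1, A.obj.map i z.1.2), by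
          rw [NatTrans.naturality_apply, z.2, NatTrans.naturality_apply]; rfl⟩
      map_id := fun U => by ext z <;> simp
      map_comp := fun i j => by ext z <;> simp }
  let p₁ : P ⟶ K.obj := { app := fun U => TypeCat.ofHom fun z => z.1.1 }
  let p₂ : P ⟶ A.obj ⋙ forget AddCommGrpCat.{u} :=
    { app := fun U => TypeCat.ofHom fun z => z.1.2 }
  let K' := (presheafToSheaf J (Type u)).obj P
  let f : K' ⟶ K := ((sheafificationAdjunction J (Type u)).homEquiv P K).symm p₁
  have hf : toSheafify J P ≫ f.hom = p₁ :=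
    ((sheafificationAdjunction J (Type u)).homEquiv P K).apply_symm_apply p₁
  haveI hp₁ : Presheaf.IsLocallySurjective J p₁ := by
    constructor
    intro U x
    haveI : Presheaf.IsLocallySurjective J g.hom :=
      (Sheaf.isLocallySurjective_iff_epi' AddCommGrpCat.{u} g).2 inferInstance
    refine J.superset_covering ?_ (Presheaf.imageSieve_mem J g.hom (U := op U) (sb.app (op U) x))
    rintro V i ⟨y, hy⟩
    refine ⟨⟨(K.obj.map i.op x, y), ?_⟩, rfl⟩
    exact hy.trans (NatTrans.naturality_apply sb i.op x).symm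
  haveI : Presheaf.IsLocallySurjective J f.hom :=
    Presheaf.isLocallySurjective_of_isLocallySurjective_fac J hf
  haveI : Sheaf.IsLocallySurjective f := this
  let Af : Sheaf J (Type u) := (sheafCompose J (forget AddCommGrpCat.{u})).obj A
  let tb : K' ⟶ Af := ((sheafificationAdjunction J (Type u)).homEquiv P Af).symm p₂
  have ht : toSheafify J P ≫ tb.hom = p₂ :=
    ((sheafificationAdjunction J (Type u)).homEquiv P Af).apply_symm_apply p₂
  refine ⟨K', f, (Sheaf.isLocallySurjective_iff_epi f).1 inferInstance,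
    (freeShEquiv K' A).symm tb.hom, (freeShEquiv K' B).injective ?_⟩
  rw [freeShEquiv_comp, freeShEquiv_naturality, Equiv.apply_symm_apply]
  refine sheafify_hom_ext J _ _ ((sheafCompose J (forget AddCommGrpCat.{u})).obj B).property ?_
  refine ((Category.assoc _ _ _).symm.trans (congrArg (· ≫ _) ht)).trans
    (Eq.trans ?_ ((Category.assoc _ _ _).symm.trans (congrArg (· ≫ sb) hf)).symm)
  ext U z
  exact z.2

variable (F : Sheaf J AddCommGrpCat.{u})

/-- Vanishing of the Čech cohomology, on morphisms. -/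
def CechExact : Prop :=
  ∀ (K' K : Sheaf J (Type u)) (f : K' ⟶ K), Epi f →
    ∀ (n : ℕ) (φ : (cechSh f).X (n + 1) ⟶ F), (cechSh f).d (n + 2) (n + 1) ≫ φ = 0 →
      ∃ ψ : (cechSh f).X n ⟶ F, (cechSh f).d (n + 1) n ≫ ψ = φ

variable {F}

theorem cechExact_subsingleton_one (h : CechExact F) (K : Sheaf J (Type u)) :
    Subsingleton (CohCx.HK K F 1) := by
  obtain ⟨S, hS, rfl, hI⟩ := exists_injective_presentation F
  haveI := hI
  haveI := hS.mono_f
  haveI := hS.epi_g
  refine subsingleton_of_forall_eq 0 fun x => ?_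
  obtain ⟨x₃, rfl⟩ := Ext.covariant_sequence_exact₁ _ hS x
    (Ext.eq_zero_of_injective _) (zero_add 1)
  obtain ⟨s, rfl⟩ := (Ext.mk₀_bijective _ S.X₃).2 x₃
  obtain ⟨K', f, hf, t, ht⟩ := exists_local_lift S.g K s
  haveI : QuasiIso (cechShπ f) := quasiIso_cechFree J f
  let t' := cechShProj f ≫ t
  let s' : (cechShAug f).right ⟶ S.X₃ := s
  have ht' : t' ≫ S.g = (cechShπ f).f 0 ≫ s' :=
    ((Category.assoc _ _ _).trans (congrArg (cechShProj f ≫ ·) ht)).trans
      ((Category.assoc _ _ _).symm.trans (congrArg (· ≫ s') (cechShπ_f_zero f).symm))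
  have h0 : ((cechSh f).d 1 0 ≫ t') ≫ S.g = 0 := by
    rw [Category.assoc, ht', ← Category.assoc, resolution_d_comp, zero_comp]
  let χ := hS.exact.lift _ h0
  have hχ : χ ≫ S.f = (cechSh f).d 1 0 ≫ t' := hS.exact.lift_f _ h0
  obtain ⟨a, ha⟩ := h K' K f hf 0 χ (by
    rw [← cancel_mono S.f, Category.assoc, hχ, ← Category.assoc, HomologicalComplex.d_comp_d,
      zero_comp, zero_comp])
  obtain ⟨ψ, hψ⟩ := resolution_desc₀ (cechShπ f) (t' - a ≫ S.f) (by
    rw [Preadditive.comp_sub, ← Category.assoc _ a, ha, hχ, sub_self])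
  haveI : Epi ((cechShπ f).f 0) := (resolution_exact₀ (cechShπ f)).2
  have e0 : (t' - a ≫ S.f) ≫ S.g = (cechShπ f).f 0 ≫ s' := by
    refine (Preadditive.sub_comp _ _ _).trans (Eq.trans ?_ ht')
    rw [Category.assoc a, S.zero, comp_zero, sub_zero]
  let ψ' : (freeShFun J).obj K ⟶ S.X₂ := ψ
  have e : ψ' ≫ S.g = s := (cancel_epi ((cechShπ f).f 0)).1
    (((Category.assoc _ _ _).symm.trans (congrArg (· ≫ S.g) hψ)).trans e0)
  have e1 : (Ext.mk₀ ψ').comp (Ext.mk₀ S.g) (zero_add 0) = Ext.mk₀ s :=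
    (Ext.mk₀_comp_mk₀ ψ' S.g).trans (congrArg Ext.mk₀ e)
  rw [← e1, Ext.comp_assoc_of_second_deg_zero,
    ShortComplex.ShortExact.comp_extClass, Ext.comp_zero]

theorem cechExact_quotient {S : ShortComplex (Sheaf J AddCommGrpCat.{u})} (hS : S.ShortExact)
    [Injective S.X₂] (h : CechExact S.X₁) : CechExact S.X₃ := by
  intro K' K f hf n φ hφ
  haveI := hS.mono_f
  haveI : QuasiIso (cechShπ f) := quasiIso_cechFree J f
  haveI h1 := cechExact_subsingleton_one h ((Arrow.mk f).cechNerve.obj (op ⦋n + 1⦌))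
  obtain ⟨x₂, hx⟩ := Ext.covariant_sequence_exact₃ ((cechSh f).X (n + 1)) hS (Ext.mk₀ φ)
    (zero_add 1) (h1.elim _ _)
  obtain ⟨φ', rfl⟩ := (Ext.mk₀_bijective _ _).2 x₂
  rw [Ext.mk₀_comp_mk₀] at hx
  have hx' : φ' ≫ S.g = φ := (Ext.mk₀_bijective _ _).1 hx
  have h0 : ((cechSh f).d (n + 2) (n + 1) ≫ φ') ≫ S.g = 0 := by rw [Category.assoc, hx', hφ]
  let χ := hS.exact.lift _ h0
  have hχ : χ ≫ S.f = (cechSh f).d (n + 2) (n + 1) ≫ φ' := hS.exact.lift_f _ h0
  obtain ⟨a, ha⟩ := h K' K f hf (n + 1) χ (by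
    rw [← cancel_mono S.f, Category.assoc, hχ, ← Category.assoc, HomologicalComplex.d_comp_d,
      zero_comp, zero_comp])
  obtain ⟨ψ, hψ⟩ := hom_resolution_exact (cechShπ f)
    (fun _ q => Ext.subsingleton_of_injective _ S.X₂ q)
    (fun q => Ext.subsingleton_of_injective _ S.X₂ q) n (φ' - a ≫ S.f) (by
      rw [Preadditive.comp_sub, ← Category.assoc _ a, ha, hχ, sub_self])
  refine ⟨ψ ≫ S.g, ?_⟩
  rw [← Category.assoc, hψ, Preadditive.sub_comp, Category.assoc a, S.zero, comp_zero, sub_zero,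
    hx']

theorem isTotallyAcyclic_of_cechExact (h : CechExact F) : CohCx.IsTotallyAcyclic F := by
  intro K p
  induction p generalizing F K with
  | zero => exact cechExact_subsingleton_one h K
  | succ p ih =>
    obtain ⟨S, hS, rfl, hI⟩ := exists_injective_presentation F
    haveI := hI
    haveI := ih (cechExact_quotient hS h) K
    refine subsingleton_of_forall_eq 0 fun x => ?_
    obtain ⟨x₃, rfl⟩ := Ext.covariant_sequence_exact₁ _ hS x
      (Ext.eq_zero_of_injective _) rfl
    rw [Subsingleton.elim x₃ 0, Ext.zero_comp]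

end Groth.Agent.SiteBase
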