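import Groth.Agent.SiteBase.FamilyCechHom

/-!
# Čech cohomology of covering families and of the sieves they generate
-/

universe u

open CategoryTheory Limits Opposite Abelian

noncomputable section

namespace Groth.Agent.SiteBase

variable {C : Type u} [SmallCategory C] [HasPullbacks C] {J : GrothendieckTopology C} {U : C}
  {ι : Type u} (Y : ι → Over U)

theorem isLocallySurjective_fcToBase
    (hY : Sieve.ofArrows (fun i => (Y i).left) (fun i => (Y i).hom) ∈ J U) :
    Presheaf.IsLocallySurjective J (fcToBase (FormalCoproduct.mk ι Y)) := by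
  constructor
  intro V s
  refine J.superset_covering ?_ (J.pullback_stable s hY)
  intro W g hg
  obtain ⟨i, h, e⟩ := Sieve.ofArrows.exists hg
  exact ⟨⟨i, h⟩, e.symm⟩

theorem isZero_cech_injective (I : Sheaf J AddCommGrpCat.{u}) [Injective I]
    (hY : Sieve.ofArrows (fun i => (Y i).left) (fun i => (Y i).hom) ∈ J U) (p : ℕ) :
    IsZero (CohCx.cechH I.obj Y (p + 1)) :=
  isZero_cech_of_acyclic Y (𝟙 (yoneda.{u, u}.obj U)) (fcToBase (FormalCoproduct.mk ι Y))
    (Category.comp_id _) (isLocallySurjective_fcToBase Y hY)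
    (fun _ _ r => subsingleton_of_injective _ I r) p (Ext.subsingleton_of_injective _ I p)

theorem nonempty_cech_equiv_HU (F : Sheaf J AddCommGrpCat.{u})
    (hY : Sieve.ofArrows (fun i => (Y i).left) (fun i => (Y i).hom) ∈ J U)
    (h : ∀ (p : ℕ) (a : Fin (p + 1) → ι) (q : ℕ),
      Subsingleton (CohSite.HU F (q + 1) (∏ᶜ fun k => Y (a k)).left)) (p : ℕ) :
    Nonempty (CohCx.cechH F.obj Y p ≃+ CohSite.HU F p U) :=
  nonempty_cech_equiv Y (𝟙 (yoneda.{u, u}.obj U)) (fcToBase (FormalCoproduct.mk ι Y))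
    (Category.comp_id _) (isLocallySurjective_fcToBase Y hY) (fun p a r => h p a r) p

omit [HasPullbacks C] in
theorem presheaf_HU_subsingleton (M : Sheaf (⊥ : GrothendieckTopology C) AddCommGrpCat.{u})
    (V : C) (q : ℕ) : Subsingleton (CohSite.HU M (q + 1) V) := by
  induction q generalizing M with
  | zero =>
    obtain ⟨S, hS, rfl, hI⟩ := exists_injective_presentation M
    refine subsingleton_one hS V (haveI := hI; subsingleton_of_injective V _ 0) fun s => ?_
    haveI := hS.epi_g
    haveI : Presheaf.IsLocallySurjective (⊥ : GrothendieckTopology C) S.g.hom :=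
      (Sheaf.isLocallySurjective_iff_epi' AddCommGrpCat.{u} S.g).2 inferInstance
    have h := Presheaf.imageSieve_mem (⊥ : GrothendieckTopology C) S.g.hom (U := op V) s
    rw [GrothendieckTopology.bot_covering] at h
    obtain ⟨t, ht⟩ : Presheaf.imageSieve S.g.hom s (𝟙 V) := by rw [h]; trivial
    refine ⟨t, ht.trans ?_⟩
    exact ConcreteCategory.congr_hom (S.X₃.obj.map_id _) s
  | succ q ih =>
    obtain ⟨S, hS, rfl, hI⟩ := exists_injective_presentation M
    haveI := hI
    exact subsingleton_shift hS V (q + 1) (subsingleton_of_injective V _ (q + 1)) (ih S.X₃)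

/-- The factorisation of a family through the sieve it generates. -/
def fcToSieve : (fcPre (U := U)).obj (FormalCoproduct.mk ι Y) ⟶
    (Sieve.ofArrows (fun i => (Y i).left) (fun i => (Y i).hom)).functor where
  app V := TypeCat.ofHom fun z => ⟨z.2 ≫ (Y z.1).hom,
    Sieve.downward_closed _ (Sieve.ofArrows_mk (fun i => (Y i).left) (fun i => (Y i).hom) z.1) z.2⟩
  naturality V W f := by
    ext z
    exact Subtype.ext (Category.assoc _ _ _)

theorem nonempty_cech_equiv_sieve (M : Cᵒᵖ ⥤ AddCommGrpCat.{u}) (q : ℕ) :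
    Nonempty (CohCx.cechH M Y q ≃+ CohCx.HK (J := (⊥ : GrothendieckTopology C))
      ⟨(Sieve.ofArrows (fun i => (Y i).left) (fun i => (Y i).hom)).functor, Presheaf.isSheaf_bot _⟩
      ⟨M, Presheaf.isSheaf_bot _⟩ q) := by
  haveI : Mono (Sieve.ofArrows (fun i => (Y i).left) (fun i => (Y i).hom)).functorInclusion :=
    inferInstance
  refine nonempty_cech_equiv (J := (⊥ : GrothendieckTopology C)) Y
    (Sieve.ofArrows (fun i => (Y i).left) (fun i => (Y i).hom)).functorInclusion (fcToSieve Y)
    (by ext V z; rfl) ⟨fun {V} s => ?_⟩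
    (F := (⟨M, Presheaf.isSheaf_bot _⟩ : Sheaf (⊥ : GrothendieckTopology C) AddCommGrpCat.{u}))
    (fun _ _ r => presheaf_HU_subsingleton _ _ r) q
  refine GrothendieckTopology.superset_covering _ (fun W g _ => ?_) (GrothendieckTopology.top_mem _ V)
  obtain ⟨i, h, e⟩ := Sieve.ofArrows.exists s.2
  exact ⟨⟨i, g ≫ h⟩, Subtype.ext ((Category.assoc _ _ _).trans (congrArg (g ≫ ·) e.symm))⟩

end Groth.Agent.SiteBase
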