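import Groth.Prelude.Def_CohSite
import Mathlib.CategoryTheory.Abelian.GrothendieckCategory.EnoughInjectives
import Mathlib.GroupTheory.FreeAbelianGroup

/-!
# Cohomology of abelian sheaves at the objects of a site

`freeAb U` is the free abelian sheaf on an object `U`, so that `CohSite.HU F n U` is
`Ext (freeAb U) F n`; the comparison with sections and dimension shifting.
-/

universe u

open CategoryTheory CategoryTheory.Limits Opposite Abelian

namespace Groth.Agent.SiteBase

variable {C : Type u} [SmallCategory C] {J : GrothendieckTopology C}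

variable (J) in
/-- The free abelian sheaf on an object. -/
noncomputable abbrev freeAb (U : C) : Sheaf J AddCommGrpCat.{u} :=
  (yoneda ⋙ (Functor.whiskeringRight _ _ _).obj AddCommGrpCat.free ⋙ presheafToSheaf _ _).obj U

/-- `Hom(freeAb U, F) ≃ F(U)`. -/
noncomputable def secEquiv (U : C) (F : Sheaf J AddCommGrpCat.{u}) :
    (freeAb J U ⟶ F) ≃ F.obj.obj (op U) :=
  ((sheafificationAdjunction J AddCommGrpCat.{u}).homEquiv _ F).trans
    (((AddCommGrpCat.adj.whiskerRight Cᵒᵖ).homEquiv (yoneda.obj U) F.obj).trans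
      (yonedaEquiv (F := F.obj ⋙ forget AddCommGrpCat)))

theorem secEquiv_comp (U : C) {F G : Sheaf J AddCommGrpCat.{u}} (φ : freeAb J U ⟶ F) (f : F ⟶ G) :
    secEquiv U G (φ ≫ f) = f.hom.app (op U) (secEquiv U F φ) := by
  simp only [secEquiv, Equiv.trans_apply]
  erw [Adjunction.homEquiv_naturality_right, Adjunction.homEquiv_naturality_right,
    yonedaEquiv_comp]

theorem secEquiv_symm_comp (U : C) {F G : Sheaf J AddCommGrpCat.{u}} (s : F.obj.obj (op U))
    (f : F ⟶ G) : (secEquiv U F).symm s ≫ f = (secEquiv U G).symm (f.hom.app (op U) s) := by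
  apply (secEquiv U G).injective
  rw [secEquiv_comp, Equiv.apply_symm_apply, Equiv.apply_symm_apply]

/-- The cohomology groups at an object are Ext groups out of the free sheaf. -/
theorem HU_eq (F : Sheaf J AddCommGrpCat.{u}) (n : ℕ) (U : C) :
    CohSite.HU F n U = Ext.{u} (freeAb J U) F n := rfl

theorem subsingleton_of_injective (U : C) (I : Sheaf J AddCommGrpCat.{u}) [Injective I] (n : ℕ) :
    Subsingleton (CohSite.HU I (n + 1) U) :=
  Ext.subsingleton_of_injective (freeAb J U) I n

/-- Vanishing of the first cohomology of the kernel makes sections lift. -/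
theorem sections_surjective {S : ShortComplex (Sheaf J AddCommGrpCat.{u})} (hS : S.ShortExact) (U : C)
    (h : Subsingleton (CohSite.HU S.X₁ 1 U)) : Function.Surjective (S.g.hom.app (op U)) := by
  intro q
  haveI : Subsingleton (Ext.{u} (freeAb J U) S.X₁ 1) := h
  obtain ⟨x₂, hx₂⟩ := Ext.covariant_sequence_exact₃ (freeAb J U) hS
    (Ext.mk₀ ((secEquiv U S.X₃).symm q)) (zero_add 1) (Subsingleton.elim _ _)
  obtain ⟨φ, rfl⟩ := (Ext.mk₀_bijective (freeAb J U) S.X₂).2 x₂
  rw [Ext.mk₀_comp_mk₀] at hx₂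
  refine ⟨secEquiv U S.X₂ φ, ?_⟩
  rw [← secEquiv_comp, (Ext.mk₀_bijective _ _).1 hx₂, Equiv.apply_symm_apply]

/-- If sections lift and the middle term has no first cohomology, neither has the kernel. -/
theorem subsingleton_one {S : ShortComplex (Sheaf J AddCommGrpCat.{u})} (hS : S.ShortExact) (U : C)
    (h₂ : Subsingleton (CohSite.HU S.X₂ 1 U)) (h : Function.Surjective (S.g.hom.app (op U))) :
    Subsingleton (CohSite.HU S.X₁ 1 U) := by
  haveI : Subsingleton (Ext.{u} (freeAb J U) S.X₂ 1) := h₂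
  show Subsingleton (Ext.{u} (freeAb J U) S.X₁ 1)
  refine subsingleton_of_forall_eq 0 fun x => ?_
  obtain ⟨x₃, rfl⟩ := Ext.covariant_sequence_exact₁ (freeAb J U) hS x (Subsingleton.elim _ _)
    (zero_add 1)
  obtain ⟨φ, rfl⟩ := (Ext.mk₀_bijective (freeAb J U) S.X₃).2 x₃
  obtain ⟨s, hs⟩ := h (secEquiv U S.X₃ φ)
  have e : φ = (secEquiv U S.X₂).symm s ≫ S.g := by
    rw [secEquiv_symm_comp, hs, Equiv.symm_apply_apply]
  rw [e, ← Ext.mk₀_comp_mk₀, Ext.comp_assoc_of_second_deg_zero,
    ShortComplex.ShortExact.comp_extClass, Ext.comp_zero]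

/-- Dimension shifting. -/
theorem subsingleton_shift {S : ShortComplex (Sheaf J AddCommGrpCat.{u})} (hS : S.ShortExact) (U : C)
    (n : ℕ) (h₂ : Subsingleton (CohSite.HU S.X₂ (n + 1) U))
    (h₃ : Subsingleton (CohSite.HU S.X₃ n U)) : Subsingleton (CohSite.HU S.X₁ (n + 1) U) := by
  haveI : Subsingleton (Ext.{u} (freeAb J U) S.X₂ (n + 1)) := h₂
  haveI : Subsingleton (Ext.{u} (freeAb J U) S.X₃ n) := h₃
  show Subsingleton (Ext.{u} (freeAb J U) S.X₁ (n + 1))
  refine subsingleton_of_forall_eq 0 fun x => ?_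
  obtain ⟨x₃, rfl⟩ := Ext.covariant_sequence_exact₁ (freeAb J U) hS x (Subsingleton.elim _ _) rfl
  rw [Subsingleton.elim x₃ 0, Ext.zero_comp]

/-- Dimension shifting in the other direction. -/
theorem subsingleton_quot {S : ShortComplex (Sheaf J AddCommGrpCat.{u})} (hS : S.ShortExact) (U : C)
    (n : ℕ) (h₂ : Subsingleton (CohSite.HU S.X₂ n U))
    (h₁ : Subsingleton (CohSite.HU S.X₁ (n + 1) U)) : Subsingleton (CohSite.HU S.X₃ n U) := by
  haveI : Subsingleton (Ext.{u} (freeAb J U) S.X₂ n) := h₂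
  haveI : Subsingleton (Ext.{u} (freeAb J U) S.X₁ (n + 1)) := h₁
  show Subsingleton (Ext.{u} (freeAb J U) S.X₃ n)
  refine subsingleton_of_forall_eq 0 fun x => ?_
  obtain ⟨x₂, rfl⟩ := Ext.covariant_sequence_exact₃ (freeAb J U) hS x rfl (Subsingleton.elim _ _)
  rw [Subsingleton.elim x₂ 0, Ext.zero_comp]

/-- A short exact sequence starting with `F` whose middle term is injective. -/
theorem exists_injective_presentation (F : Sheaf J AddCommGrpCat.{u}) :
    ∃ S : ShortComplex (Sheaf J AddCommGrpCat.{u}), S.ShortExact ∧ S.X₁ = F ∧ Injective S.X₂ := by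
  let P := (EnoughInjectives.presentation F).some
  haveI : Mono P.f := P.mono
  exact ⟨.mk P.f (cokernel.π P.f) (cokernel.condition _),
    { exact := ShortComplex.exact_cokernel P.f }, rfl, P.injective⟩

end Groth.Agent.SiteBase
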