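import Mathlib

/-!
# Baer's criterion in a Grothendieck abelian category with a family of generators
-/

universe w v u

open CategoryTheory Limits ZeroObject

noncomputable section

namespace Groth.Agent.SiteBase

variable {C : Type u} [Category.{v} C] [Abelian C] (I : C) {ι : Type*} (G : ι → C)

/-- The morphisms along which maps to `I` extend. -/
abbrev extClassI : MorphismProperty C := (MorphismProperty.ofHoms fun _ : Unit => (0 : I ⟶ 0)).llp

theorem extClassI_iff {A B : C} (i : A ⟶ B) :
    extClassI I i ↔ ∀ φ : A ⟶ I, ∃ ψ : B ⟶ I, i ≫ ψ = φ := by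
  constructor
  · intro h φ
    haveI := h (0 : I ⟶ 0) ⟨()⟩
    have sq : CommSq φ i (0 : I ⟶ 0) (0 : B ⟶ 0) := ⟨(isZero_zero C).eq_of_tgt _ _⟩
    exact ⟨sq.lift, sq.fac_left⟩
  · rintro h _ _ _ ⟨⟩
    constructor
    intro φ g sq
    obtain ⟨ψ, hψ⟩ := h φ
    exact ⟨⟨{ l := ψ, fac_left := hψ, fac_right := (isZero_zero C).eq_of_tgt _ _ }⟩⟩

variable
  (hG : ∀ {A B : C} (p : A ⟶ B) [Mono p], ¬ IsIso p →
    ∃ (j : ι) (g : G j ⟶ B), ∀ a : G j ⟶ A, a ≫ p ≠ g)
  (h : ∀ (j : ι) {S : C} (i : S ⟶ G j) [Mono i] (φ : S ⟶ I), ∃ ψ : G j ⟶ I, i ≫ ψ = φ)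

set_option backward.defeqAttrib.useBackward true in
set_option backward.isDefEq.respectTransparency false in
set_option backward.isDefEq.respectTransparency.types false in
include hG h in
theorem exists_larger {X : C} (A : Subobject X) (hA : A ≠ ⊤) :
    ∃ (A' : Subobject X) (hlt : A < A'), extClassI I (Subobject.ofLE A A' hlt.le) := by
  induction A using Subobject.ind with | _ p
  obtain ⟨j, g, hg⟩ := hG p (by simpa only [Subobject.isIso_iff_mk_eq_top] using hA)
  have hm : Mono (pushout.desc p g (pullback.condition (f := p) (g := g))) :=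
    (IsPushout.of_hasPushout _ _).mono_of_isPullback_of_mono
      (IsPullback.of_hasPullback p g) _ (by simp) (by simp)
  let p' := pushout.desc p g (pullback.condition (f := p) (g := g))
  let i : _ ⟶ pushout (pullback.fst p g) (pullback.snd p g) :=
    pushout.inl (pullback.fst p g) (pullback.snd p g)
  have fac : i ≫ p' = p := pushout.inl_desc _ _ _
  have hi : ¬ IsIso i := fun hi => hg (pushout.inr _ _ ≫ inv i) (by
    rw [Category.assoc, (IsIso.inv_comp_eq i).2 fac.symm]
    exact pushout.inr_desc _ _ _)
  haveI : Mono p' := hm
  refine ⟨Subobject.mk p', Subobject.mk_lt_mk_of_comm i fac hi,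
    (MorphismProperty.arrow_mk_iso_iff _ (Arrow.isoMk (Subobject.underlyingIso p)
      (Subobject.underlyingIso p') ?_ : _ ≅ CategoryTheory.Arrow.mk i)).2 ?_⟩
  · dsimp
    simp only [← cancel_mono p', Category.assoc, fac,
      Subobject.underlyingIso_hom_comp_eq_mk, Subobject.ofLE_arrow]
  · rw [extClassI_iff]
    intro φ
    obtain ⟨ψ, hψ⟩ := h j (pullback.snd p g) (pullback.fst p g ≫ φ)
    exact ⟨pushout.desc φ ψ hψ.symm, pushout.inl_desc _ _ _⟩

/-- A larger subobject to which maps extend. -/
def larger (X : C) (A : Subobject X) : Subobject X :=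
  open scoped Classical in if hA : A = ⊤ then ⊤ else (exists_larger I G hG h A hA).choose

include hG h in
theorem le_larger {X : C} (A : Subobject X) : A ≤ larger I G hG h X A := by
  by_cases hA : A = ⊤
  · simp [larger, hA]
  · rw [larger, dif_neg hA]
    exact (exists_larger I G hG h A hA).choose_spec.choose.le

include hG h in
theorem extClassI_larger {X : C} (A : Subobject X) :
    extClassI I (Subobject.ofLE _ _ (le_larger I G hG h A)) := by
  by_cases hA : A = ⊤
  · haveI : IsIso (Subobject.ofLE _ _ (le_larger I G hG h A)) := by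
      have e : larger I G hG h X A = A := by rw [larger, dif_pos hA, hA]
      exact ⟨Subobject.ofLE _ _ e.le, by simp, by simp⟩
    exact MorphismProperty.of_isIso _ _
  · refine (MorphismProperty.arrow_mk_iso_iff _ ?_).1
      (exists_larger I G hG h A hA).choose_spec.choose_spec
    exact Arrow.isoMk (Iso.refl _) (Subobject.isoOfEq _ _ (by simp [larger, dif_neg hA]))
      (by simp [← cancel_mono (Subobject.arrow _)])

variable [IsGrothendieckAbelian.{w} C] {X : C} (A₀ : Subobject X)
  (J : Type w) [LinearOrder J] [OrderBot J] [SuccOrder J] [WellFoundedLT J]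

/-- The transfinite filtration. -/
@[simps]
def chainMono : J ⥤ MonoOver X where
  obj j := MonoOver.mk (transfiniteIterate (larger I G hG h X) j A₀).arrow
  map {j j'} f := MonoOver.homMk (Subobject.ofLE _ _
      (monotone_transfiniteIterate _ _ (fun B => le_larger I G hG h B) (leOfHom f)))

/-- The transfinite filtration, as a functor. -/
abbrev chain : J ⥤ C := chainMono I G hG h A₀ J ⋙ MonoOver.forget _ ⋙ Over.forget _

set_option backward.defeqAttrib.useBackward true in
set_option backward.isDefEq.respectTransparency false in
set_option backward.isDefEq.respectTransparency.types false in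
instance : (chain I G hG h A₀ J).IsWellOrderContinuous where
  nonempty_isColimit m hm := ⟨by
    have := hm.nonempty_Iio.to_subtype
    let c := (Set.principalSegIio m).cocone (chainMono I G hG h A₀ J ⋙ MonoOver.forget _)
    have : Mono c.pt.hom := by dsimp [c]; infer_instance
    apply IsGrothendieckAbelian.isColimitMapCoconeOfSubobjectMkEqISup
      ((Set.principalSegIio m).monotone.functor ⋙ chainMono I G hG h A₀ J) c
    dsimp [c]
    simp only [Subobject.mk_arrow]
    exact transfiniteIterate_limit (larger I G hG h X) A₀ m hm⟩

set_option backward.defeqAttrib.useBackward true in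
set_option backward.isDefEq.respectTransparency false in
set_option backward.isDefEq.respectTransparency.types false in
/-- The composition of the filtration up to `j`. -/
def chainComposition (j : J) :
    (extClassI I).TransfiniteCompositionOfShape (Set.Iic j)
      ((chain I G hG h A₀ J).map (homOfLE bot_le : ⊥ ⟶ j)) where
  F := (Set.initialSegIic j).monotone.functor ⋙ chain I G hG h A₀ J
  isoBot := Iso.refl _
  incl :=
    { app k := (chain I G hG h A₀ J).map (homOfLE k.2)
      naturality k k' f := by simp [MonoOver.forget] }
  isColimit := colimitOfDiagramTerminal isTerminalTop _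
  map_mem k hk := by
    dsimp [MonoOver.forget]
    convert! extClassI_larger I G hG h (transfiniteIterate (larger I G hG h X) k.1 A₀) using 2
    all_goals
      rw [Set.Iic.succ_eq_of_not_isMax hk,
        transfiniteIterate_succ _ _ _ (Set.not_isMax_coe _ hk)]

set_option backward.defeqAttrib.useBackward true in
set_option backward.isDefEq.respectTransparency false in
set_option backward.isDefEq.respectTransparency.types false in
omit J in
include hG h in
/-- Baer's criterion. -/
theorem injective_of_extend : Injective I := by
  refine ⟨fun {A B} φ f _ => ?_⟩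
  suffices hf : extClassI I f from (extClassI_iff I f).1 hf φ
  let κ := Order.succ (Cardinal.mk (Shrink.{w} (Subobject B)))
  have : Nonempty κ.ord.ToType := by simp [κ]
  have := WellFoundedLT.toOrderBot κ.ord.ToType
  obtain ⟨j, hj⟩ := top_mem_range_transfiniteIterate (larger I G hG h B) (Subobject.mk f)
    (J := κ.ord.ToType)
    (fun S hS => by
      rw [larger, dif_neg hS]
      exact (exists_larger I G hG h S hS).choose_spec.choose)
    (by simp [larger])
    (fun hf => by
      have hlt : HasCardinalLT (Subobject B) (Cardinal.mk κ.ord.ToType) :=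
        (lt_of_lt_of_le (Order.lt_succ _) (by simp [κ]) :
          Cardinal.mk (Shrink.{w} (Subobject B)) < _) |> fun h' =>
            (hasCardinalLT_iff_of_equiv (equivShrink.{w} (Subobject B)) _).2
              ((hasCardinalLT_iff_cardinal_mk_lt _ _).2 h')
      simpa [hasCardinalLT_iff_cardinal_mk_lt] using hlt.of_injective _ hf)
  let t := transfiniteIterate (larger I G hG h B) j (Subobject.mk f)
  have := (Subobject.isIso_arrow_iff_eq_top t).2 hj
  have hc := MorphismProperty.transfiniteCompositionsOfShape_le (extClassI I) (Set.Iic j) _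
    (chainComposition I G hG h (Subobject.mk f) _ j).mem
  refine (MorphismProperty.arrow_mk_iso_iff _ (Arrow.isoMk
    ((Subobject.isoOfEq _ _ (transfiniteIterate_bot _ _) ≪≫ Subobject.underlyingIso f))
    (asIso t.arrow) ?_)).1 hc
  dsimp [MonoOver.forget, t]
  rw [Category.assoc, Subobject.underlyingIso_hom_comp_eq_mk, Subobject.ofLE_arrow,
    Subobject.ofLE_arrow]

end Groth.Agent.SiteBase
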