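import Groth.Agent.SiteBase.HomResolution

/-!
# Ext groups computed by an acyclic resolution
-/

universe w v u

open CategoryTheory Limits Abelian

noncomputable section

namespace Groth.Agent.SiteBase

variable {A : Type u} [Category.{v} A] [Abelian A] [HasExt.{w} A]

/-- A resolution of `X`, as a sequence. -/
structure SeqResolution (X : A) where
  /-- The objects. -/
  P : ℕ → A
  /-- The differentials. -/
  d : ∀ n, P (n + 1) ⟶ P n
  /-- The augmentation. -/
  ε : P 0 ⟶ X
  w₀ : d 0 ≫ ε = 0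
  w : ∀ n, d (n + 1) ≫ d n = 0
  exact₀ : (ShortComplex.mk (d 0) ε w₀).Exact
  exact : ∀ n, (ShortComplex.mk (d (n + 1)) (d n) (w n)).Exact
  epi : Epi ε

namespace SeqResolution

variable {X : A} (R : SeqResolution X)

/-- The first syzygy. -/
def Z : A := kernel R.ε

/-- The short exact sequence of the first syzygy. -/
def ses : ShortComplex A := ShortComplex.mk (kernel.ι R.ε) R.ε (kernel.condition _)

theorem ses_shortExact : R.ses.ShortExact where
  exact := ShortComplex.exact_of_f_is_kernel _ (kernelIsKernel _)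
  mono_f := inferInstanceAs (Mono (kernel.ι R.ε))
  epi_g := R.epi

/-- The shifted resolution. -/
def shift : SeqResolution R.Z where
  P n := R.P (n + 1)
  d n := R.d (n + 1)
  ε := kernel.lift _ (R.d 0) R.w₀
  w₀ := by
    apply (cancel_mono (kernel.ι R.ε)).1
    exact (Category.assoc _ _ _).trans ((congrArg (R.d 1 ≫ ·) (kernel.lift_ι _ _ _)).trans
      ((R.w 0).trans zero_comp.symm))
  w n := R.w (n + 1)
  exact₀ := by
    have h1 := R.exact 0
    rw [ShortComplex.exact_iff_exact_up_to_refinements] at h1 ⊢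
    intro W x hx
    refine h1 x ((congrArg (x ≫ ·) (kernel.lift_ι R.ε (R.d 0) R.w₀).symm).trans ?_)
    exact (Category.assoc _ _ _).symm.trans ((congrArg (· ≫ kernel.ι R.ε) hx).trans zero_comp)
  exact n := R.exact (n + 1)
  epi := R.exact₀.epi_kernelLift

variable (F : A)

/-- Cocycles in degree `n + 1`. -/
def cocycles (n : ℕ) : AddSubgroup (R.P (n + 1) ⟶ F) :=
  AddMonoidHom.ker (Preadditive.leftComp F (R.d (n + 1)))

theorem mem_cocycles {n : ℕ} {φ : R.P (n + 1) ⟶ F} :
    φ ∈ R.cocycles F n ↔ R.d (n + 1) ≫ φ = 0 := Iff.rfl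

theorem mem_desc {φ : R.P 1 ⟶ F} (h : φ ∈ R.cocycles F 0) :
    ∃ χ : R.Z ⟶ F, R.shift.ε ≫ χ = φ := by
  haveI : Epi (ShortComplex.mk (R.shift.d 0) R.shift.ε R.shift.w₀).g := R.shift.epi
  exact ⟨R.shift.exact₀.desc φ h, R.shift.exact₀.g_desc φ h⟩

/-- The class of a cocycle in degree `1`. -/
def class₁ : R.cocycles F 0 →+ Ext X F 1 :=
  AddMonoidHom.mk'
    (fun φ => R.ses_shortExact.extClass.comp (Ext.mk₀ (R.mem_desc F φ.2).choose) (add_zero 1))
    fun φ ψ => by
      haveI := R.shift.epi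
      have key : (R.mem_desc F (φ + ψ).2).choose =
          (R.mem_desc F φ.2).choose + (R.mem_desc F ψ.2).choose :=
        (cancel_epi R.shift.ε).1 ((R.mem_desc F (φ + ψ).2).choose_spec.trans
          ((congrArg₂ (· + ·) (R.mem_desc F φ.2).choose_spec.symm
            (R.mem_desc F ψ.2).choose_spec.symm).trans (Preadditive.comp_add _ _ _ _ _ _).symm))
      refine (congrArg (fun t => R.ses_shortExact.extClass.comp (Ext.mk₀ t) (add_zero 1)) key).trans ?_
      exact (congrArg (fun t => R.ses_shortExact.extClass.comp t (add_zero 1)) (Ext.mk₀_add _ _)).trans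
        (Ext.comp_add _ _ _ _)

variable {F}

theorem class₁_eq (φ : R.cocycles F 0) (χ : R.Z ⟶ F) (h : R.shift.ε ≫ χ = φ.1) :
    R.class₁ F φ = R.ses_shortExact.extClass.comp (Ext.mk₀ χ) (add_zero 1) := by
  haveI := R.shift.epi
  have : (R.mem_desc F φ.2).choose = χ :=
    (cancel_epi R.shift.ε).1 ((R.mem_desc F φ.2).choose_spec.trans h.symm)
  rw [← this]
  rfl

theorem class₁_surjective (h0 : Subsingleton (Ext (R.P 0) F 1)) :
    Function.Surjective (R.class₁ F) := by
  intro x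
  obtain ⟨x₁, rfl⟩ := Ext.contravariant_sequence_exact₃ R.ses_shortExact F x
    (Subsingleton.elim (α := Ext (R.P 0) F 1) _ _) (add_zero 1)
  obtain ⟨χ, rfl⟩ := (Ext.mk₀_bijective _ _).2 x₁
  refine ⟨⟨R.shift.ε ≫ χ, (Category.assoc _ _ _).symm.trans
    ((congrArg (· ≫ χ) R.shift.w₀).trans zero_comp)⟩, ?_⟩
  exact R.class₁_eq _ χ rfl

theorem class₁_eq_zero_iff (φ : R.cocycles F 0) :
    R.class₁ F φ = 0 ↔ ∃ ψ : R.P 0 ⟶ F, R.d 0 ≫ ψ = φ.1 := by
  obtain ⟨χ, hχ⟩ := R.mem_desc F φ.2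
  rw [R.class₁_eq φ χ hχ]
  constructor
  · intro h
    obtain ⟨x₂, hx⟩ := Ext.contravariant_sequence_exact₁ R.ses_shortExact F (Ext.mk₀ χ)
      (add_zero 1) h
    obtain ⟨ψ, rfl⟩ := (Ext.mk₀_bijective _ _).2 x₂
    rw [Ext.mk₀_comp_mk₀] at hx
    have hx' : kernel.ι R.ε ≫ ψ = χ := (Ext.mk₀_bijective _ _).1 hx
    exact ⟨ψ, ((congrArg (· ≫ ψ) (kernel.lift_ι R.ε (R.d 0) R.w₀).symm).trans
      ((Category.assoc _ _ _).trans (congrArg (R.shift.ε ≫ ·) hx'))).trans hχ⟩
  · rintro ⟨ψ, hψ⟩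
    haveI := R.shift.epi
    have : R.ses.f ≫ ψ = χ := (cancel_epi R.shift.ε).1
      ((((Category.assoc _ _ _).symm.trans (congrArg (· ≫ ψ) (kernel.lift_ι R.ε (R.d 0) R.w₀))).trans
        hψ).trans hχ.symm)
    rw [← this, ← Ext.mk₀_comp_mk₀, ← Ext.comp_assoc_of_second_deg_zero,
      ShortComplex.ShortExact.extClass_comp, Ext.zero_comp]
    exact rfl

/-- Acyclic resolutions compute Ext. -/
theorem exists_class : ∀ (n : ℕ) {X : A} (R : SeqResolution X) (F : A),
    (∀ j q, Subsingleton (Ext (R.P j) F (q + 1))) →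
      ∃ c : R.cocycles F n →+ Ext X F (n + 1), Function.Surjective c ∧
        ∀ φ, c φ = 0 ↔ ∃ ψ : R.P n ⟶ F, R.d n ≫ ψ = φ.1 := by
  intro n
  induction n with
  | zero =>
    intro X R F h
    exact ⟨R.class₁ F, R.class₁_surjective (h 0 0), R.class₁_eq_zero_iff⟩
  | succ n ih =>
    intro X R F h
    obtain ⟨c, hc, hker⟩ := ih R.shift F fun j q => h (j + 1) q
    let δ : Ext R.Z F (n + 1) →+ Ext X F (n + 1 + 1) :=
      R.ses_shortExact.extClass.precomp F (by omega)
    have hδs : Function.Surjective δ := fun x =>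
      Ext.contravariant_sequence_exact₃ R.ses_shortExact F x
        (Subsingleton.elim (α := Ext (R.P 0) F (n + 1 + 1)) (h := h 0 (n + 1)) _ _) (by omega)
    have hδi : ∀ x, δ x = 0 → x = 0 := fun x hx => by
      obtain ⟨x₂, rfl⟩ := Ext.contravariant_sequence_exact₁ R.ses_shortExact F x (by omega) hx
      rw [Subsingleton.elim (α := Ext R.ses.X₂ F (n + 1)) (h := h 0 n) x₂ 0, Ext.comp_zero]
      exact rfl
    refine ⟨(δ.comp c : R.shift.cocycles F n →+ _), hδs.comp hc, fun φ => ?_⟩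
    refine Iff.trans ⟨fun h0 => hδi _ h0, fun h0 => ?_⟩ (hker φ)
    change δ (c φ) = 0
    rw [h0, map_zero]

/-- The Hom complex in degree `n + 1` against Ext. -/
theorem exists_equiv (F : A) (h : ∀ j q, Subsingleton (Ext (R.P j) F (q + 1))) (n : ℕ) :
    Nonempty ((R.cocycles F n ⧸ ((Preadditive.leftComp F (R.d n)).range).addSubgroupOf
      (R.cocycles F n)) ≃+ Ext X F (n + 1)) := by
  obtain ⟨c, hc, hker⟩ := exists_class n R F h
  have e : c.ker = ((Preadditive.leftComp F (R.d n)).range).addSubgroupOf (R.cocycles F n) := by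
    ext φ
    rw [AddMonoidHom.mem_ker, hker, AddSubgroup.mem_addSubgroupOf]
    rfl
  exact ⟨(QuotientAddGroup.quotientAddEquivOfEq e.symm).trans
    (QuotientAddGroup.quotientKerEquivOfSurjective c hc)⟩

end SeqResolution

/-- The sequence resolution underlying a quasi-isomorphism to a single complex. -/
def seqResolution {P : ChainComplex A ℕ} {X : A} (π : P ⟶ (ChainComplex.single₀ A).obj X)
    [QuasiIso π] : SeqResolution X where
  P := P.X
  d n := P.d (n + 1) n
  ε := π.f 0
  w₀ := resolution_d_comp π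
  w n := P.d_comp_d _ _ _
  exact₀ := (resolution_exact₀ π).1
  exact n := resolution_exact_succ π n
  epi := (resolution_exact₀ π).2

end Groth.Agent.SiteBase
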