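import Groth.Agent.SiteBase.FreeMod
import Groth.Agent.SiteBase.ExtResolution
import Groth.Agent.ModTensor.Flat
import Groth.Prelude.Def_ModSite2

/-!
# Internal homs into injective sheaves of modules are totally acyclic
-/

set_option linter.style.haveILetI false

universe u

open CategoryTheory Limits Opposite Simplicial AlgebraicTopology Abelian

noncomputable section

namespace Groth.Agent.SiteBase

variable {C : Type u} [SmallCategory C] {J : GrothendieckTopology C}

section Quasi

variable (R : Sheaf J RingCat.{u}) {K' K : Sheaf J (Type u)} (f : K' ⟶ K)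

/-- The augmented free module Čech object. -/
abbrev cechModAug : SimplicialObject.Augmented (SheafOfModules.{u} R) :=
  ((SimplicialObject.Augmented.whiskering _ _).obj (freeMod R)).obj (Arrow.mk f).augmentedCechNerve

/-- The augmentation of the free module Čech complex. -/
abbrev cechModπ : cechMod R f ⟶ (ChainComplex.single₀ _).obj ((freeMod R).obj K) :=
  AlternatingFaceMapComplex.ε.app (cechModAug R f)

theorem quasiIso_cechModπ [Epi f] : QuasiIso (cechModπ R f) := by
  let G := SheafOfModules.toSheaf.{u} R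
  haveI : G.Additive := inferInstance
  haveI : G.PreservesHomology := inferInstance
  haveI : G.ReflectsIsomorphisms := inferInstance
  refine (HomologicalComplex.quasiIso_map_iff_of_preservesHomology (cechModπ R f) G).1
    ((HomologicalComplex.mem_quasiIso_iff _).1
      (((HomologicalComplex.quasiIso _ _).arrow_mk_iso_iff (epsilonArrowIso G (cechModAug R f))).1
        ((HomologicalComplex.mem_quasiIso_iff _).2 ?_)))
  exact quasiIso_sheafify_epsilon J (cechModPre R f)
    (fun U n => mono_homologyMap_epsilon_evalMod f U n) (isLocallySurjective_cechModPre_hom f)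

end Quasi

variable (O : Sheaf J CommRingCat.{u})

/-- Free sheaves of modules on sheaves of sets are flat. -/
theorem isFlat_freeMod (K : Sheaf J (Type u)) :
    ModSite.IsFlat (O := O) ((freeMod (ModSite.ringSh O)).obj K) :=
  ModTensor.isFlat_sheafify O
    ((PresheafOfModules.free (O.obj ⋙ forget₂ CommRingCat RingCat)).obj K.obj)
    fun X => (Module.Flat.finsupp (R := O.obj.obj X) (K.obj.obj X) :)

/-- A resolution of a flat module by flat modules stays exact after tensoring. -/
theorem exact_tensor_seqResolution (F : ModSite.Mod O) :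
    ∀ (n : ℕ) {X : ModSite.Mod O} (Q : SeqResolution X), ModSite.IsFlat X →
      (∀ j, ModSite.IsFlat (Q.P j)) →
      ∀ h, (ShortComplex.mk (((ModSite.tensorBi O).flip.obj F).map (Q.d (n + 1)))
        (((ModSite.tensorBi O).flip.obj F).map (Q.d n)) h).Exact := by
  haveI := HasExt.standard (ModSite.Mod O)
  let t := (ModSite.tensorBi O).flip.obj F
  intro n
  induction n with
  | zero =>
    intro X Q hX hP h
    have hZ : ModSite.IsFlat Q.Z :=
      ModTensor.isFlat_X₁ O Q.ses Q.ses_shortExact (hP 0) hX
    haveI : Mono (t.map (kernel.ι Q.ε)) :=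
      ModTensor.mono_tensor_of_isFlat_X₃ O Q.ses Q.ses_shortExact hX F
    haveI := Q.shift.epi
    have h₁ : (ShortComplex.mk (t.map (Q.shift.d 0)) (t.map Q.shift.ε)
        (by rw [← t.map_comp, Q.shift.w₀, t.map_zero])).Exact :=
      Q.shift.exact₀.map_of_epi_of_preservesCokernel t Q.shift.epi inferInstance
    let φ : ShortComplex.mk (t.map (Q.shift.d 0)) (t.map Q.shift.ε)
        (by rw [← t.map_comp, Q.shift.w₀, t.map_zero]) ⟶
        ShortComplex.mk (t.map (Q.d (0 + 1))) (t.map (Q.d 0)) h :=
      { τ₁ := 𝟙 _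
        τ₂ := 𝟙 _
        τ₃ := t.map (kernel.ι Q.ε)
        comm₁₂ := (Category.id_comp _).trans (Category.comp_id _).symm
        comm₂₃ := (Category.id_comp _).trans ((congrArg t.map
          (kernel.lift_ι Q.ε (Q.d 0) Q.w₀).symm).trans (t.map_comp _ _)) }
    haveI : Epi φ.τ₁ := inferInstanceAs (Epi (𝟙 _))
    haveI : IsIso φ.τ₂ := inferInstanceAs (IsIso (𝟙 _))
    haveI : Mono φ.τ₃ := inferInstanceAs (Mono (t.map (kernel.ι Q.ε)))
    exact (ShortComplex.exact_iff_of_epi_of_isIso_of_mono φ).1 h₁
  | succ n ih =>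
    intro X Q hX hP h
    exact ih Q.shift (ModTensor.isFlat_X₁ O Q.ses Q.ses_shortExact (hP 0) hX)
      (fun j => hP (j + 1)) h

variable {O} in
/-- `ℋom_O(F, G)` is totally acyclic for injective `G`. -/
theorem isTotallyAcyclic_sheafHom (F G : ModSite.Mod O) [ModSite.HasSheafHom F] [Injective G] :
    CohCx.IsTotallyAcyclic (ModSite.toAb ((ModSite.sheafHom F).obj G)) := by
  refine isTotallyAcyclic_of_cechExact ?_
  intro K' K f hf n φ hφ
  let R := ModSite.ringSh O
  let t := (ModSite.tensorBi O).flip.obj F
  let H := (ModSite.sheafHom F).obj G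
  let adj := ModSite.sheafHomAdj F
  haveI : (ModSite.sheafHom F).Additive := inferInstance
  haveI : t.Additive := inferInstance
  obtain ⟨φ', hφ'⟩ := (toFreeMod_bijective ((Arrow.mk f).cechNerve.obj (op ⦋n + 1⦌)) H).2 φ
  subst hφ'
  have h0 : (cechMod R f).d (n + 2) (n + 1) ≫ φ' = 0 := by
    apply (toFreeMod_bijective ((Arrow.mk f).cechNerve.obj (op ⦋n + 2⦌)) H).1
    exact ((cechToMod_d f (n + 1) H φ').symm.trans hφ).trans
      ((congrArg (toFreeMod R _ ≫ ·) (Functor.map_zero (SheafOfModules.toSheaf R) _ _)).trans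
        comp_zero).symm
  let χ : t.obj ((cechMod R f).X (n + 1)) ⟶ G := (adj.homEquiv _ _).symm φ'
  have hχ : t.map ((cechMod R f).d (n + 2) (n + 1)) ≫ χ = 0 :=
    (adj.homEquiv_naturality_left_symm _ φ').symm.trans
      ((congrArg (adj.homEquiv _ G).symm h0).trans (adj.homAddEquiv _ G).symm.map_zero)
  haveI := quasiIso_cechModπ R f
  have hex := exact_tensor_seqResolution O F n (seqResolution (cechModπ R f))
    (isFlat_freeMod O K) (fun j => isFlat_freeMod O _)
    ((t.map_comp _ _).symm.trans ((congrArg t.map ((cechMod R f).d_comp_d (n + 2) (n + 1) n)).trans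
      (t.map_zero _ _)))
  let ψ : t.obj ((cechMod R f).X n) ⟶ G := hex.descToInjective χ hχ
  have hψ : t.map ((cechMod R f).d (n + 1) n) ≫ ψ = χ := hex.comp_descToInjective χ hχ
  refine ⟨toFreeMod R _ ≫ (SheafOfModules.toSheaf R).map (adj.homEquiv _ _ ψ),
    (cechToMod_d f n H _).trans ?_⟩
  refine congrArg (fun z => toFreeMod R _ ≫ (SheafOfModules.toSheaf R).map z) ?_
  exact (adj.homEquiv_naturality_left _ ψ).symm.trans
    ((congrArg (adj.homEquiv _ G) hψ).trans (Equiv.apply_symm_apply _ _))

end Groth.Agent.SiteBase
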