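import Groth.Agent.SiteBase.OpenQuot
import Groth.Agent.SpSeqLib.Acyclic

/-!
# Totally acyclic modules are acyclic for sections with supports
-/

set_option linter.style.haveILetI false
set_option linter.unusedSectionVars false

universe u


open CategoryTheory Limits Opposite Abelian

noncomputable section

namespace Groth.Agent.SiteBase.OpenQuot

variable {C : Type u} [SmallCategory C] {J : GrothendieckTopology C} {O : Sheaf J CommRingCat.{u}}

theorem isTotallyAcyclic_of_iso {M N : ModSite.Mod O} (e : M ≅ N)
    (h : CohCx.IsTotallyAcyclic (ModSite.toAb M)) : CohCx.IsTotallyAcyclic (ModSite.toAb N) := by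
  intro K p
  let j := (SheafOfModules.toSheaf (ModSite.ringSh O)).mapIso e
  haveI := h K p
  refine Function.Injective.subsingleton
    (f := fun x => x.comp (Ext.mk₀ j.inv) (add_zero (p + 1))) fun x y hxy => ?_
  simpa using congrArg (fun z => Ext.comp z (Ext.mk₀ j.hom) (add_zero (p + 1))) hxy

/-- Quotients of injective modules by totally acyclic ones are totally acyclic. -/
theorem isTotallyAcyclic_quotient {T : ShortComplex (ModSite.Mod O)} (hT : T.ShortExact)
    [Injective T.X₂] (h : CohCx.IsTotallyAcyclic (ModSite.toAb T.X₁)) :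
    CohCx.IsTotallyAcyclic (ModSite.toAb T.X₃) := by
  intro K p
  have hS := hT.map_of_exact (SheafOfModules.toSheaf (ModSite.ringSh O))
  refine subsingleton_of_forall_eq 0 fun x => ?_
  obtain ⟨y, rfl⟩ := Ext.covariant_sequence_exact₃ _ hS x (n₁ := p + 1 + 1) rfl
    (Subsingleton.elim (h := h K (p + 1)) _ _)
  exact (congrArg (fun y => Ext.comp y _ (add_zero (p + 1))) (Subsingleton.elim
    (h := isTotallyAcyclic_toSheaf_injective T.X₂ K p) y 0)).trans (Ext.zero_comp _ _ _ _ _)

variable [HasExt.{u} (ModSite.Mod O)]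

theorem subsingleton_ext_freeMod {M : ModSite.Mod O} (hM : CohCx.IsTotallyAcyclic (ModSite.toAb M))
    (K : Sheaf J (Type u)) (n : ℕ) :
    Subsingleton (Ext.{u} ((freeMod (ModSite.ringSh O)).obj K) M (n + 1)) :=
  haveI : EnoughInjectives (ModSite.Mod O) := enoughInjectives_sheafOfModules (ModSite.ringSh O)
  haveI : Subsingleton (Ext.{u} ((freeShFun J).obj K)
    ((SheafOfModules.toSheaf (ModSite.ringSh O)).obj M) (n + 1)) := hM K n
  (extUnitEquiv (G := SheafOfModules.toSheaf (ModSite.ringSh O)) (X := (freeShFun J).obj K)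
    (toFreeMod (ModSite.ringSh O) K) (fun F => toFreeMod_bijective K F)
    (fun I _ m => isTotallyAcyclic_toSheaf_injective I K m) M (n + 1)).toEquiv.subsingleton

variable (U : C)

variable (J) in
/-- The part of a sheaf of sets lying over the open. -/
abbrev openPart (K : Sheaf J (Type u)) : Sheaf J (Type u) :=
  pullback (toPt J K) (Sheaf.imageι (toPt J (shYoneda J U)))

variable (J) in
/-- Its inclusion. -/
abbrev openPartι (K : Sheaf J (Type u)) : openPart J U K ⟶ K :=
  pullback.fst (toPt J K) (Sheaf.imageι (toPt J (shYoneda J U)))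

theorem exists_openPart {K : Sheaf J (Type u)} {W : C} (g : W ⟶ U) (k : K.obj.obj (op W)) :
    ∃ l, (openPartι J U K).hom.app (op W) l = k := by
  let a := (shYonedaEquiv W K).symm k
  let b := (shYonedaEquiv W (openSh J U)).symm (nonempty_openSh g).some
  let c : shYoneda J W ⟶ openPart J U K := pullback.lift a b ((isTerminalPt J).hom_ext _ _)
  refine ⟨shYonedaEquiv W _ c, ?_⟩
  rw [← shYonedaEquiv_comp, pullback.lift_fst]
  exact Equiv.apply_symm_apply _ _

omit [HasExt.{u} (ModSite.Mod O)] in
theorem freeMod_openPart_comp_eq_zero_iff (K : Sheaf J (Type u)) {N : ModSite.Mod O}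
    (φ : (freeMod (ModSite.ringSh O)).obj K ⟶ N) :
    (freeMod (ModSite.ringSh O)).map (openPartι J U K) ≫ φ = 0 ↔
      (ModSite.restr O U).map φ = 0 := by
  let R := ModSite.ringSh O
  let adjC := (PresheafOfModules.freeAdjunction R.obj).comp
    (PresheafOfModules.sheafificationAdjunction (𝟙 R.obj))
  let E : ∀ {L : Sheaf J (Type u)} (_ : (freeMod R).obj L ⟶ N) (W : C),
      L.obj.obj (op W) → (ModSite.toAb N).obj.obj (op W) := fun {L} f W k =>
    ((SheafOfModules.toSheaf R).map f).hom.app (op W) ((freeModUnit R L).app (op W) k)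
  have hE : ∀ {L : Sheaf J (Type u)} (f : (freeMod R).obj L ⟶ N) (W : C) (k : L.obj.obj (op W)),
      (adjC.homEquiv L.obj N f).app (op W) k = E f W k := fun {L} f W k =>
    ConcreteCategory.congr_hom (congr_app (adjC.homEquiv_unit L.obj N f) (op W)) k
  have hnat : ∀ (W : C) (l : (openPart J U K).obj.obj (op W)),
      E ((freeMod R).map (openPartι J U K) ≫ φ) W l = E φ W ((openPartι J U K).hom.app (op W) l) :=
    fun W l => (hE _ W l).symm.trans ((ConcreteCategory.congr_hom (congr_app
      (adjC.homEquiv_naturality_left (openPartι J U K).hom φ) (op W)) l).trans (hE φ W _))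
  have h0 : ∀ (W : C) (l : (openPart J U K).obj.obj (op W)),
      E (0 : (freeMod R).obj (openPart J U K) ⟶ N) W l = 0 := fun W l =>
    congrArg (fun (f : ModSite.toAb ((freeMod R).obj (openPart J U K)) ⟶ ModSite.toAb N) =>
      f.hom.app (op W) ((freeModUnit R (openPart J U K)).app (op W) l))
      (Functor.map_zero (SheafOfModules.toSheaf R) _ _)
  have h1 : (freeMod R).map (openPartι J U K) ≫ φ = 0 ↔
      ∀ (W : C) (l : (openPart J U K).obj.obj (op W)),
        E φ W ((openPartι J U K).hom.app (op W) l) = 0 := by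
    constructor
    · intro h W l
      rw [← hnat, h, h0]
    · intro h
      apply (adjC.homEquiv (openPart J U K).obj N).injective
      ext W l
      refine (hE _ W.unop l).trans (Eq.trans ?_ (hE _ W.unop l).symm)
      rw [hnat, h, h0]
  rw [h1]
  constructor
  · intro h
    apply (SheafOfModules.toSheaf _).map_injective
    ext Y m
    let W : C := (unop Y).left
    let g : W ⟶ U := (unop Y).hom
    let F := ModSite.toAb ((freeMod R).obj K)
    show ((SheafOfModules.toSheaf R).map φ).hom.app (op W) m = 0
    haveI : Presheaf.IsLocallySurjective J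
        ((PresheafOfModules.toPresheaf _).map (ModTensor.shUnit O
          ((PresheafOfModules.free (O.obj ⋙ forget₂ CommRingCat RingCat)).obj K.obj))) :=
      ((J.W_iff_isLocallyBijective _).1 (ModTensor.W_shUnit O _)).2
    refine ((isSheaf_iff_isSheaf_of_type J _).1
      ((sheafCompose J (forget AddCommGrpCat.{u})).obj (ModSite.toAb N)).2 _
        (Presheaf.imageSieve_mem J ((PresheafOfModules.toPresheaf _).map (ModTensor.shUnit O
          ((PresheafOfModules.free (O.obj ⋙ forget₂ CommRingCat RingCat)).obj K.obj)))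
          (U := op W) m)).isSeparatedFor.ext fun W' i hi => ?_
    obtain ⟨t, ht⟩ := hi
    refine (NatTrans.naturality_apply ((SheafOfModules.toSheaf R).map φ).hom i.op m).symm.trans ?_
    refine Eq.trans ?_ (map_zero ((ModSite.toAb N).obj.map i.op).hom).symm
    refine (congrArg (((SheafOfModules.toSheaf R).map φ).hom.app (op W')) ht.symm).trans ?_
    change K.obj.obj (op W') →₀ O.obj.obj (op W') at t
    let L : (K.obj.obj (op W') →₀ O.obj.obj (op W')) →ₗ[O.obj.obj (op W')]
        (ModTensor.pre O ((ModTensor.shF O).obj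
          ((PresheafOfModules.free (O.obj ⋙ forget₂ CommRingCat RingCat)).obj K.obj))).obj (op W') :=
      ModTensor.lin (ModTensor.shUnit O
        ((PresheafOfModules.free (O.obj ⋙ forget₂ CommRingCat RingCat)).obj K.obj)) (op W')
    show ((SheafOfModules.toSheaf R).map φ).hom.app (op W') (L t) = 0
    clear ht
    induction t using Finsupp.induction_linear with
    | zero =>
      exact (congrArg (((SheafOfModules.toSheaf R).map φ).hom.app (op W'))
        (map_zero L)).trans (map_zero _)
    | add x y hx hy =>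
      refine (congrArg (((SheafOfModules.toSheaf R).map φ).hom.app (op W'))
        (map_add L x y)).trans ?_
      refine (map_add (((SheafOfModules.toSheaf R).map φ).hom.app (op W')).hom _ _).trans ?_
      exact (congrArg₂ (· + ·) hx hy).trans (add_zero _)
    | single k r =>
      obtain ⟨l, rfl⟩ := exists_openPart U (i ≫ g) k
      have hl := h W' l
      let M := (ModTensor.lin ((ModTensor.preFunctor O).map φ) (op W')).comp L
      show M (Finsupp.single _ r) = 0
      have hl' : M (Finsupp.single ((openPartι J U K).hom.app (op W') l) (1 : O.obj.obj (op W'))) = 0 := hl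
      calc M (Finsupp.single _ r) = M (r • Finsupp.single _ 1) :=
            congrArg M (Finsupp.smul_single_one _ r).symm
        _ = r • M (Finsupp.single _ 1) := M.map_smul r _
        _ = r • M 0 := congrArg (r • ·) (hl'.trans M.map_zero.symm)
        _ = M (r • 0) := (M.map_smul r 0).symm
        _ = 0 := (congrArg M (smul_zero r)).trans M.map_zero
  · intro h W l
    obtain ⟨S, hS, hSU⟩ := sieve_of_openSh ((pullback.snd (toPt J K)
      (Sheaf.imageι (toPt J (shYoneda J U)))).hom.app (op W) l)
    refine ((isSheaf_iff_isSheaf_of_type J _).1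
      ((sheafCompose J (forget AddCommGrpCat.{u})).obj (ModSite.toAb N)).2 S hS).isSeparatedFor.ext
      fun W' i hi => ?_
    obtain ⟨g⟩ := hSU i hi
    refine (NatTrans.naturality_apply ((SheafOfModules.toSheaf R).map φ).hom i.op _).symm.trans ?_
    refine Eq.trans ?_ (map_zero ((ModSite.toAb N).obj.map i.op).hom).symm
    exact congrArg (fun ψ : (ModSite.restr O U).obj ((freeMod R).obj K) ⟶ (ModSite.restr O U).obj N =>
      (ψ.val.app (op (Over.mk g))).hom ((ModSite.toAb ((freeMod R).obj K)).obj.map i.op
        ((freeModUnit R K).app (op W) ((openPartι J U K).hom.app (op W) l)))) h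

omit [HasExt.{u} (ModSite.Mod O)] in
theorem mono_freeMod_map {K L : Sheaf J (Type u)} (ι : K ⟶ L) [Mono ι] :
    Mono ((freeMod (ModSite.ringSh O)).map ι) := by
  let R := ModSite.ringSh O
  haveI : Mono ((sheafToPresheaf J (Type u)).map ι) := inferInstance
  haveI : Mono ((PresheafOfModules.free R.obj).map ι.hom) :=
    PresheafOfModules.mono_of_injective fun {W} => by
      haveI : Mono (ι.hom.app W) :=
        (NatTrans.mono_iff_mono_app ((sheafToPresheaf J (Type u)).map ι)).1 inferInstance W
      exact Finsupp.mapDomain_injective ((mono_iff_injective _).1 inferInstance)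
  haveI : PreservesFiniteLimits (PresheafOfModules.sheafification.{u} (𝟙 R.obj)) := inferInstance
  exact (inferInstance : Mono ((PresheafOfModules.sheafification (𝟙 R.obj)).map
    ((PresheafOfModules.free R.obj).map ι.hom)))

/-- `Ext¹(O[K]/O[K]_U, M) = 0` for totally acyclic `M`. -/
theorem subsingleton_ext_quotOn_freeMod {M : ModSite.Mod O}
    (hM : CohCx.IsTotallyAcyclic (ModSite.toAb M)) (K : Sheaf J (Type u)) :
    Subsingleton (Ext.{u} ((ModSite.quotOn O U).obj ((freeMod (ModSite.ringSh O)).obj K)) M 1) := by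
  let R := ModSite.ringSh O
  let X := (freeMod R).obj K
  let c := (ModSite.extZeroAdj O U).counit.app X
  let ι' := (freeMod R).map (openPartι J U K)
  have key : ∀ {N : ModSite.Mod O} (φ : X ⟶ N), ι' ≫ φ = 0 ↔ c ≫ φ = 0 := fun φ =>
    (freeMod_openPart_comp_eq_zero_iff U K φ).trans (ExtSupp.mem_homZ_iff U φ)
  let S : ShortComplex (ModSite.Mod O) :=
    ShortComplex.mk ι' (cokernel.π c) ((key _).2 (cokernel.condition c))
  have hS : S.ShortExact :=
    { exact := ShortComplex.exact_of_g_is_cokernel _ (CokernelCofork.IsColimit.ofπ _ _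
        (fun a ha => cokernel.desc c a ((key a).1 ha)) (fun a ha => cokernel.π_desc _ _ _)
        (fun a ha b hb => coequalizer.hom_ext (hb.trans (cokernel.π_desc _ _ _).symm)))
      mono_f := mono_freeMod_map _
      epi_g := inferInstanceAs (Epi (cokernel.π c)) }
  show Subsingleton (Ext.{u} S.X₃ M 1)
  refine subsingleton_of_forall_eq 0 fun x => ?_
  obtain ⟨y, rfl⟩ := Ext.contravariant_sequence_exact₃ hS M x
    (Subsingleton.elim (α := Ext.{u} X M 1) (h := subsingleton_ext_freeMod hM K 0) _ _) (add_zero 1)
  obtain ⟨s, rfl⟩ := (Ext.mk₀_bijective _ _).2 y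
  obtain ⟨t, ht⟩ := restrict_surjective (ModSite.toAb M) hM (openPartι J U K)
    (toFreeMod R (openPart J U K) ≫ (SheafOfModules.toSheaf R).map s)
  obtain ⟨τ, hτ⟩ := (toFreeMod_bijective K M).2 t
  have e : ι' ≫ τ = s := by
    apply (toFreeMod_bijective (openPart J U K) M).1
    refine Eq.trans ?_ ht
    rw [← hτ]
    show toFreeMod R (openPart J U K) ≫ (SheafOfModules.toSheaf R).map (ι' ≫ τ) = _
    rw [Functor.map_comp, ← Category.assoc, ← toFreeMod_naturality, Category.assoc]
  rw [← e, ← Ext.mk₀_comp_mk₀, ← Ext.comp_assoc_of_second_deg_zero]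
  exact (congrArg (fun z => Ext.comp z (Ext.mk₀ τ) (add_zero 1)) hS.extClass_comp).trans (by simp)

/-- The generator of the sheaf of sets of an object. -/
abbrev genSec (W : C) : (shYoneda J W).obj.obj (op W) :=
  (CategoryTheory.toSheafify J (yoneda.obj W)).app (op W) (𝟙 W)

omit [HasExt.{u} (ModSite.Mod O)] in
theorem shYonedaEquiv_apply (W : C) {F : Sheaf J (Type u)} (f : shYoneda J W ⟶ F) :
    shYonedaEquiv W F f = f.hom.app (op W) (genSec W) := by
  simp only [shYonedaEquiv, Equiv.trans_apply, Adjunction.homEquiv_unit]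
  rfl

omit [HasExt.{u} (ModSite.Mod O)] in
/-- Sections are maps from free modules. -/
theorem exists_map_freeMod (N : ModSite.Mod O) (W : C) (s : (ModSite.toAb N).obj.obj (op W)) :
    ∃ σ : (freeMod (ModSite.ringSh O)).obj (shYoneda J W) ⟶ N, ∀ {Z : ModSite.Mod O} (c : N ⟶ Z),
      ((SheafOfModules.toSheaf (ModSite.ringSh O)).map (σ ≫ c)).hom.app (op W)
        ((freeModUnit (ModSite.ringSh O) (shYoneda J W)).app (op W) (genSec W)) =
          ((SheafOfModules.toSheaf (ModSite.ringSh O)).map c).hom.app (op W) s := by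
  let R := ModSite.ringSh O
  let adjC := (PresheafOfModules.freeAdjunction R.obj).comp
    (PresheafOfModules.sheafificationAdjunction (𝟙 R.obj))
  let Fs : Sheaf J (Type u) := (sheafCompose J (forget AddCommGrpCat.{u})).obj (ModSite.toAb N)
  let ss : shYoneda J W ⟶ Fs := (shYonedaEquiv W Fs).symm s
  have hk : ss.hom.app (op W) (genSec W) = s :=
    (shYonedaEquiv_apply W ss).symm.trans (Equiv.apply_symm_apply (shYonedaEquiv W Fs) s)
  let σ : (freeMod R).obj (shYoneda J W) ⟶ N := (adjC.homEquiv (shYoneda J W).obj N).symm ss.hom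
  have h1 : ((SheafOfModules.toSheaf R).map σ).hom.app (op W)
      ((freeModUnit R (shYoneda J W)).app (op W) (genSec W)) = s := by
    refine Eq.trans ?_ hk
    exact ConcreteCategory.congr_hom (congr_app ((adjC.homEquiv_unit (shYoneda J W).obj N σ).symm.trans
      (Equiv.apply_symm_apply _ ss.hom)) (op W)) (genSec W)
  refine ⟨σ, fun c => ?_⟩
  refine Eq.trans (congrArg (fun f : ModSite.toAb ((freeMod R).obj (shYoneda J W)) ⟶ ModSite.toAb _ =>
    f.hom.app (op W) ((freeModUnit R (shYoneda J W)).app (op W) (genSec W)))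
    ((SheafOfModules.toSheaf R).map_comp σ c)) ?_
  exact congrArg (((SheafOfModules.toSheaf R).map c).hom.app (op W)) h1

variable [ModSite.HasPushOver O U]

/-- Sections with supports are exact on sequences starting with a totally acyclic module. -/
theorem epi_sectOn_map {T : ShortComplex (ModSite.Mod O)} (hT : T.ShortExact)
    (h : CohCx.IsTotallyAcyclic (ModSite.toAb T.X₁)) : Epi ((ModSite.sectOn O U).map T.g) := by
  haveI : (ModSite.quotOn O U).Additive := (quotSectAdj O U).left_adjoint_additive
  refine ⟨fun {Z} a b hab => ?_⟩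
  apply SheafOfModules.hom_ext
  apply PresheafOfModules.hom_ext
  intro W
  ext s
  let R := ModSite.ringSh O
  let K : Sheaf J (Type u) := shYoneda J W.unop
  obtain ⟨σ, hs⟩ := exists_map_freeMod ((ModSite.sectOn O U).obj T.X₃) W.unop s
  obtain ⟨x, hx⟩ := Ext.covariant_sequence_exact₃
    ((ModSite.quotOn O U).obj ((freeMod R).obj K)) hT
    (Ext.mk₀ (((quotSectAdj O U).homEquiv _ _).symm σ)) (zero_add 1)
    (Subsingleton.elim (h := subsingleton_ext_quotOn_freeMod U h K) _ _)
  obtain ⟨l, rfl⟩ := (Ext.mk₀_bijective _ _).2 x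
  rw [Ext.mk₀_comp_mk₀] at hx
  have e : (quotSectAdj O U).homEquiv _ _ l ≫ (ModSite.sectOn O U).map T.g = σ := by
    rw [← Adjunction.homEquiv_naturality_right, (Ext.mk₀_bijective _ _).1 hx, Equiv.apply_symm_apply]
  have e' : σ ≫ a = σ ≫ b := by rw [← e, Category.assoc, hab, Category.assoc]
  exact (hs a).symm.trans ((congrArg (fun z : (freeMod R).obj K ⟶ Z =>
    ((SheafOfModules.toSheaf R).map z).hom.app W ((freeModUnit R K).app W (genSec W.unop))) e').trans
      (hs b))

/-- Totally acyclic modules are acyclic for sections with supports. -/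
theorem isAcyclicFor_sectOn [EnoughInjectives (ModSite.Mod O)] {M : ModSite.Mod O}
    (hM : CohCx.IsTotallyAcyclic (ModSite.toAb M)) :
    SpSeqLib.IsAcyclicFor (ModSite.sectOn O U) M := by
  haveI : (ModSite.sectOn O U).IsRightAdjoint := (quotSectAdj O U).isRightAdjoint
  haveI : PreservesFiniteLimits (ModSite.sectOn O U) :=
    haveI : PreservesLimitsOfSize.{0, 0} (ModSite.sectOn O U) :=
      (quotSectAdj O U).rightAdjoint_preservesLimits
    ⟨fun _ _ _ => inferInstance⟩
  exact SpSeqLib.isAcyclicFor_of_class (ModSite.sectOn O U)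
    (fun N => CohCx.IsTotallyAcyclic (ModSite.toAb N)) (fun e => isTotallyAcyclic_of_iso e)
    (fun T hT hI h => haveI := hI; isTotallyAcyclic_quotient hT h)
    (fun T hT _ h => epi_sectOn_map U hT h) hM

end Groth.Agent.SiteBase.OpenQuot
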