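import Groth.Agent.SiteBase.Projection
import Groth.Agent.SiteBase.OpenQuot
import Groth.Prelude.Def_ModSite2

/-!
# Restriction of sections with supports
-/

set_option linter.style.haveILetI false
set_option linter.unusedSectionVars false

universe u

open CategoryTheory Limits Opposite

noncomputable section

namespace Groth.Agent.SiteBase.SectRestr

open Groth.Agent.SiteBase.ExtZeroPre Groth.Agent.ModTensor

attribute [local instance] ExtZeroPre.decEqHom

variable {C : Type u} [SmallCategory C] {J : GrothendieckTopology C} (O : Sheaf J CommRingCat.{u})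

/-- A map restricts to zero on `U` iff it is zero on every object mapping to `U`. -/
theorem restr_map_eq_zero_iff (U : C) {A N : ModSite.Mod O} (φ : A ⟶ N) :
    (ModSite.restr O U).map φ = 0 ↔ ∀ (V : C) (_ : V ⟶ U) (s : A.val.obj (op V)),
      φ.val.app (op V) s = 0 := by
  refine ⟨fun h V g s => ?_, fun h => ?_⟩
  · exact congrArg (fun k : (ModSite.restr O U).obj A ⟶ (ModSite.restr O U).obj N =>
      k.val.app (op (Over.mk g)) s) h
  · apply SheafOfModules.hom_ext
    apply PresheafOfModules.hom_ext
    intro Y
    ext s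
    exact h Y.unop.left Y.unop.hom s

variable (X : C)

/-- The sheafified extension by zero has the expected unit. -/
theorem jShAdj_unit_apply (A : ModSite.Mod (O.over X)) (V : C) (f : V ⟶ X)
    (x : A.val.obj (op (Over.mk f))) :
    ((jShAdj O X).unit.app A).val.app (op (Over.mk f)) x =
      (shUnit O ((jC O.obj X).obj ((preU O X).obj A))).app (op V)
        (ι (R := (ModSite.ringSh O).obj) A.val V f x) := by
  have h := congrArg (fun k => k.app (op (Over.mk f)) x)
    (Adjunction.map_restrictFullyFaithful_unit_app
      ((jAdj (ModSite.ringSh O).obj X).comp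
        (PresheafOfModules.sheafificationAdjunction (𝟙 (ModSite.ringSh O).obj)))
      (iC := SheafOfModules.forget (ModSite.ringSh (O.over X))) (iD := 𝟭 _)
      (L := jSh O X) (R := ModSite.restr O X)
      (SheafOfModules.fullyFaithfulForget _) (Functor.FullyFaithful.id _) (Iso.refl _)
      (restrForgetIso O X) A)
  exact h.trans rfl

/-- If a map to a restriction vanishes over `U`, so does its transpose. -/
theorem transpose_eq_zero (U : C) {A : ModSite.Mod (O.over X)} {N : ModSite.Mod O}
    (φ : (ModSite.extZero O X).obj A ⟶ N)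
    (h : ∀ (V : C) (_ : V ⟶ U) (f : V ⟶ X) (x : A.val.obj (op (Over.mk f))),
      ((ModSite.extZeroAdj O X).homEquiv A N φ).val.app (op (Over.mk f)) x = 0) :
    (ModSite.restr O U).map φ = 0 := by
  let φ₂ : (jSh O X).obj A ⟶ N := (extZeroIso O X).inv.app A ≫ φ
  let P := (jC O.obj X).obj ((preU O X).obj A)
  have hu : (ModSite.extZeroAdj O X).unit.app A ≫ (ModSite.restr O X).map φ =
      (jShAdj O X).unit.app A ≫ (ModSite.restr O X).map φ₂ := by
    rw [← Adjunction.unit_leftAdjointUniq_hom_app (ModSite.extZeroAdj O X) (jShAdj O X),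
      Category.assoc, ← Functor.map_comp]
    congr 2
    simp [φ₂, extZeroIso]
  suffices h2 : (ModSite.restr O U).map φ₂ = 0 by
    have e : φ = (extZeroIso O X).hom.app A ≫ φ₂ := by simp [φ₂]
    rw [e, Functor.map_comp, h2, comp_zero]
  rw [restr_map_eq_zero_iff]
  intro V g s
  have hP : ∀ (W : C) (_ : W ⟶ U) (t : (jObj (R := (ModSite.ringSh O).obj) A.val).obj (op W)),
      φ₂.val.app (op W) ((shUnit O P).app (op W) t) = 0 := by
    intro W g' t
    let k : (jObj (R := (ModSite.ringSh O).obj) A.val).obj (op W) →+ N.val.obj (op W) :=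
      (φ₂.val.app (op W)).hom.toAddMonoidHom.comp ((shUnit O P).app (op W)).hom.toAddMonoidHom
    suffices hk : k = 0 from DFunLike.congr_fun hk t
    refine DirectSum.addHom_ext fun f x => ?_
    have hx := h W g' f x
    rw [(ModSite.extZeroAdj O X).homEquiv_unit, hu] at hx
    refine Eq.trans ?_ hx
    exact congrArg (φ₂.val.app (op W)) (jShAdj_unit_apply O X A W f x).symm
  haveI := ((J.W_iff_isLocallyBijective _).1 (W_shUnit O P)).2
  refine ((isSheaf_iff_isSheaf_of_type _ _).1
    ((sheafCompose J (forget AddCommGrpCat.{u})).obj (ModSite.toAb N)).property _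
      (Presheaf.imageSieve_mem J ((PresheafOfModules.toPresheaf _).map (shUnit O P))
        (U := op V) s)).isSeparatedFor.ext fun W q hq => ?_
  obtain ⟨t, ht⟩ := hq
  show N.val.map q.op (φ₂.val.app (op V) s) = N.val.map q.op 0
  rw [← PresheafOfModules.naturality_apply, map_zero]
  refine Eq.trans ?_ (hP W (q ≫ g) t)
  exact congrArg (φ₂.val.app (op W)) ht.symm

variable (U : C) [HasBinaryProducts C]
  [ModSite.HasPushOver (O.over X) (Over.mk (Limits.prod.snd : U ⨯ X ⟶ X))]

/-- The open over `X`. -/
abbrev openOver : Over X := Over.mk (Limits.prod.snd : U ⨯ X ⟶ X)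

theorem sectOnι_restr_zero (N : ModSite.Mod O) :
    (ModSite.restr O U).map ((ModSite.sectOnι O U).app N) = 0 :=
  (OpenQuot.comp_unit_eq_zero_iff O U _).1 (kernel.condition _)

theorem sectOnι'_restr_zero (M : ModSite.Mod (O.over X)) :
    (ModSite.restr (O.over X) (openOver X U)).map
      ((ModSite.sectOnι (O.over X) (openOver X U)).app M) = 0 :=
  (OpenQuot.comp_unit_eq_zero_iff (O.over X) (openOver X U) _).1 (kernel.condition _)

/-- The forward comparison. -/
def sectRestrHom (N : ModSite.Mod O) :
    (ModSite.restr O X).obj ((ModSite.sectOn O U).obj N) ⟶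
      (ModSite.sectOn (O.over X) (openOver X U)).obj ((ModSite.restr O X).obj N) :=
  kernel.lift _ ((ModSite.restr O X).map ((ModSite.sectOnι O U).app N)) (by
    refine (OpenQuot.comp_unit_eq_zero_iff (O.over X) (openOver X U) _).2
      ((restr_map_eq_zero_iff (O.over X) (openOver X U) _).2 fun Y g s => ?_)
    exact (restr_map_eq_zero_iff O U _).1 (sectOnι_restr_zero O U N) Y.left
      (g.left ≫ Limits.prod.fst) s)

theorem sectRestrHom_ι (N : ModSite.Mod O) :
    sectRestrHom O X U N ≫ (ModSite.sectOnι (O.over X) (openOver X U)).app _ =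
      (ModSite.restr O X).map ((ModSite.sectOnι O U).app N) :=
  kernel.lift_ι _ _ _

/-- The backward comparison. -/
def sectRestrInv (N : ModSite.Mod O) :
    (ModSite.sectOn (O.over X) (openOver X U)).obj ((ModSite.restr O X).obj N) ⟶
      (ModSite.restr O X).obj ((ModSite.sectOn O U).obj N) :=
  (ModSite.extZeroAdj O X).homEquiv _ _ (kernel.lift _
    (((ModSite.extZeroAdj O X).homEquiv _ _).symm
      ((ModSite.sectOnι (O.over X) (openOver X U)).app ((ModSite.restr O X).obj N))) (by
    refine (OpenQuot.comp_unit_eq_zero_iff O U _).2 (transpose_eq_zero O X U _ fun V g f x => ?_)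
    rw [Equiv.apply_symm_apply]
    exact (restr_map_eq_zero_iff (O.over X) (openOver X U) _).1
      (sectOnι'_restr_zero O X U _) (Over.mk f)
        (Over.homMk (prod.lift g f) (by exact prod.lift_snd g f) : Over.mk f ⟶ openOver X U) x))

theorem sectRestrInv_ι (N : ModSite.Mod O) :
    sectRestrInv O X U N ≫ (ModSite.restr O X).map ((ModSite.sectOnι O U).app N) =
      (ModSite.sectOnι (O.over X) (openOver X U)).app _ := by
  rw [sectRestrInv, ← (ModSite.extZeroAdj O X).homEquiv_naturality_right]
  erw [kernel.lift_ι]
  exact Equiv.apply_symm_apply _ _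

/-- Sections with supports commute with restriction. -/
def sectRestrIso : ModSite.sectOn O U ⋙ ModSite.restr O X ≅
    ModSite.restr O X ⋙ ModSite.sectOn (O.over X) (openOver X U) := by
  haveI hm : ∀ N, Mono ((ModSite.sectOnι O U).app N) := fun N =>
    inferInstanceAs (Mono (kernel.ι ((ModSite.restrPushOverAdj O U).unit.app N)))
  haveI hm' : ∀ M, Mono ((ModSite.sectOnι (O.over X) (openOver X U)).app M) := fun M =>
    inferInstanceAs (Mono (kernel.ι ((ModSite.restrPushOverAdj (O.over X) (openOver X U)).unit.app M)))
  haveI : ∀ N, Mono ((ModSite.restr O X).map ((ModSite.sectOnι O U).app N)) := fun N =>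
    inferInstance
  refine NatIso.ofComponents (fun N => ⟨sectRestrHom O X U N, sectRestrInv O X U N, ?_, ?_⟩) ?_
  · rw [← cancel_mono ((ModSite.restr O X).map ((ModSite.sectOnι O U).app N))]
    exact (Category.assoc _ _ _).trans ((congrArg _ (sectRestrInv_ι O X U N)).trans
      ((sectRestrHom_ι O X U N).trans (Category.id_comp _).symm))
  · rw [← cancel_mono ((ModSite.sectOnι (O.over X) (openOver X U)).app ((ModSite.restr O X).obj N))]
    exact (Category.assoc _ _ _).trans ((congrArg _ (sectRestrHom_ι O X U N)).trans
      ((sectRestrInv_ι O X U N).trans (Category.id_comp _).symm))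
  · intro N N' f
    refine (cancel_mono ((ModSite.sectOnι (O.over X) (openOver X U)).app
      ((ModSite.restr O X).obj N'))).1 ?_
    have n1 := (ModSite.sectOnι O U).naturality f
    have n2 := (ModSite.sectOnι (O.over X) (openOver X U)).naturality ((ModSite.restr O X).map f)
    refine ((Category.assoc _ _ _).trans (congrArg _ (sectRestrHom_ι O X U N'))).trans
      (Eq.trans ?_ ((Category.assoc _ _ _).trans ((congrArg _ n2).trans
        ((Category.assoc _ _ _).symm.trans (congrArg (· ≫ _) (sectRestrHom_ι O X U N))))).symm)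
    exact ((ModSite.restr O X).map_comp _ _).symm.trans
      ((congrArg (ModSite.restr O X).map n1).trans ((ModSite.restr O X).map_comp _ _))

end Groth.Agent.SiteBase.SectRestr
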