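import Groth.Agent.SiteBase.Resolution
import Mathlib.CategoryTheory.Sites.Abelian
import Mathlib.CategoryTheory.Adjunction.FullyFaithful

/-!
# Higher direct images are sheafified cohomology presheaves
-/

universe u

open CategoryTheory CategoryTheory.Limits Opposite

namespace Groth.Agent.SiteBase

variable {C D : Type u} [SmallCategory C] [SmallCategory D] (J : GrothendieckTopology C)
  (K : GrothendieckTopology D) (u : D ⥤ C)

/-- Restrict a presheaf along `u` and sheafify. -/
noncomputable abbrev resSheafify : (Cᵒᵖ ⥤ AddCommGrpCat.{u}) ⥤ Sheaf K AddCommGrpCat.{u} :=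
  (Functor.whiskeringLeft _ _ AddCommGrpCat.{u}).obj u.op ⋙ presheafToSheaf K AddCommGrpCat.{u}

instance additive_resSheafify : (resSheafify K u).Additive := by
  haveI : ((Functor.whiskeringLeft Dᵒᵖ Cᵒᵖ AddCommGrpCat.{u}).obj u.op).Additive :=
    { map_add := by intros; rfl }
  infer_instance

instance preservesHomology_resSheafify : (resSheafify K u).PreservesHomology :=
  inferInstance

variable [u.IsContinuous K J]

/-- The direct image computed on presheaves. -/
noncomputable def pushIso : CohSite.push J K u ≅ sheafToPresheaf J AddCommGrpCat.{u} ⋙ resSheafify K u :=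
  (Functor.rightUnitor _).symm ≪≫
    Functor.isoWhiskerLeft _ (asIso (sheafificationAdjunction K AddCommGrpCat.{u}).counit).symm ≪≫
      NatIso.ofComponents (fun _ => Iso.refl _)
        (fun f => (Category.comp_id _).trans (Category.id_comp _).symm)

/-- `R^n u_* F` is the sheaf associated to `V ↦ H^n(u V, F)`. -/
noncomputable def rpushIso (F : Sheaf J AddCommGrpCat.{u}) (n : ℕ) :
    (CohSite.Rpush J K u n).obj F ≅
      (presheafToSheaf K AddCommGrpCat.{u}).obj (u.op ⋙ F.cohomologyPresheaf n) :=
  let R : InjectiveResolution F := injectiveResolution F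
  R.isoRightDerivedObj (CohSite.push J K u) n ≪≫
    (HomologicalComplex.homologyFunctor _ _ n).mapIso
      ((NatIso.mapHomologicalComplex (pushIso J K u) (ComplexShape.up ℕ)).app R.cocomplex) ≪≫
    ((presheafCx R).sc n).mapHomologyIso (resSheafify K u) ≪≫
    (resSheafify K u).mapIso (homologyPresheafIso R n)

end Groth.Agent.SiteBase
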