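import Groth.Agent.SiteBase.Basic
import Groth.Agent.SiteBase.PullbackAb
import Mathlib.CategoryTheory.Abelian.Injective.Ext
import Mathlib.CategoryTheory.Abelian.RightDerived
import Mathlib.Algebra.Homology.ShortComplex.Ab

/-!
# The cohomology presheaves computed by an injective resolution
-/

universe u

open CategoryTheory CategoryTheory.Limits Opposite Abelian

namespace Groth.Agent.SiteBase

variable {C : Type u} [SmallCategory C] {J : GrothendieckTopology C}

/-- The map of free sheaves induced by a morphism of objects. -/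
noncomputable abbrev freeAbMap {U V : C} (f : V ⟶ U) : freeAb J V ⟶ freeAb J U :=
  (yoneda ⋙ (Functor.whiskeringRight _ _ _).obj AddCommGrpCat.free ⋙ presheafToSheaf _ _).map f

theorem secEquiv_map {U V : C} (f : V ⟶ U) {F : Sheaf J AddCommGrpCat.{u}} (φ : freeAb J U ⟶ F) :
    secEquiv V F (freeAbMap f ≫ φ) = F.obj.map f.op (secEquiv U F φ) := by
  simp only [secEquiv, Equiv.trans_apply, freeAbMap, Functor.comp_map]
  erw [Adjunction.homEquiv_naturality_left]
  erw [Adjunction.homEquiv_naturality_left]
  exact (yonedaEquiv_naturality (F := F.obj ⋙ forget AddCommGrpCat) _ f).symm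

theorem secEquiv_symm_map {U V : C} (f : V ⟶ U) {F : Sheaf J AddCommGrpCat.{u}}
    (s : F.obj.obj (op U)) :
    freeAbMap f ≫ (secEquiv U F).symm s = (secEquiv V F).symm (F.obj.map f.op s) := by
  apply (secEquiv V F).injective
  rw [secEquiv_map, Equiv.apply_symm_apply, Equiv.apply_symm_apply]

theorem secEquiv_symm_add (U : C) (F : Sheaf J AddCommGrpCat.{u}) (a b : F.obj.obj (op U)) :
    (secEquiv U F).symm (a + b) = (secEquiv U F).symm a + (secEquiv U F).symm b := by
  haveI : HasFiniteBiproducts (Sheaf J AddCommGrpCat.{u}) := Abelian.hasFiniteBiproducts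
  haveI := evA_additive J (op U)
  exact map_add_of_natural (evA J (op U)) (preadditiveCoyoneda.obj (op (freeAb J U)))
    (fun F s => (secEquiv U F).symm s) (fun f s => (secEquiv_symm_comp U s f).symm) F a b

theorem secEquiv_symm_zero (U : C) (F : Sheaf J AddCommGrpCat.{u}) : (secEquiv U F).symm 0 = 0 := by
  have h := secEquiv_symm_add U F 0 0
  rw [add_zero] at h
  exact left_eq_add.1 h

theorem secEquiv_zero (U : C) (F : Sheaf J AddCommGrpCat.{u}) : secEquiv U F 0 = 0 := by
  rw [← secEquiv_symm_zero U F, Equiv.apply_symm_apply]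

variable {F : Sheaf J AddCommGrpCat.{u}} (R : InjectiveResolution F)

/-- The complex of presheaves underlying an injective resolution. -/
noncomputable abbrev presheafCx : CochainComplex (Cᵒᵖ ⥤ AddCommGrpCat.{u}) ℕ :=
  ((sheafToPresheaf J AddCommGrpCat.{u}).mapHomologicalComplex _).obj R.cocomplex

/-- Sections of cocycles. -/
noncomputable abbrev cycleSec (n : ℕ) (U : C) (z : ((presheafCx R).cycles n).obj (op U)) :
    (R.cocomplex.X n).obj.obj (op U) :=
  ((presheafCx R).iCycles n).app (op U) z

theorem cycleSec_d (n : ℕ) (U : C) (z : ((presheafCx R).cycles n).obj (op U)) (m : ℕ) :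
    (R.cocomplex.d n m).hom.app (op U) (cycleSec R n U z) = 0 := by
  have h := ConcreteCategory.congr_hom (congr_app ((presheafCx R).iCycles_d n m) (op U)) z
  simpa using! h

theorem cycleSec_comp_d (n : ℕ) (U : C) (z : ((presheafCx R).cycles n).obj (op U)) :
    (secEquiv U _).symm (cycleSec R n U z) ≫ R.cocomplex.d n (n + 1) = 0 := by
  rw [secEquiv_symm_comp]
  apply (secEquiv U _).injective
  rw [Equiv.apply_symm_apply]
  exact (cycleSec_d R n U z (n + 1)).trans (secEquiv_zero U _).symm

/-- The class of a cocycle. -/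
noncomputable def cycleClass (n : ℕ) (U : C) (z : ((presheafCx R).cycles n).obj (op U)) :
    CohSite.HU F n U :=
  R.extMk ((secEquiv U _).symm (cycleSec R n U z)) (n + 1) rfl (cycleSec_comp_d R n U z)

theorem extMk_congr {X : Sheaf J AddCommGrpCat.{u}} {n : ℕ} {f g : X ⟶ R.cocomplex.X n} (m : ℕ)
    (hm : n + 1 = m) (hf : f ≫ R.cocomplex.d n m = 0) (hg : g ≫ R.cocomplex.d n m = 0) (h : f = g) :
    R.extMk f m hm hf = R.extMk g m hm hg := by subst h; rfl

theorem cycleClass_add (n : ℕ) (U : C) (a b : ((presheafCx R).cycles n).obj (op U)) :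
    cycleClass R n U (a + b) = cycleClass R n U a + cycleClass R n U b := by
  simp only [cycleClass]
  refine Eq.trans ?_ (R.add_extMk _ _ _ _ _ _).symm
  exact extMk_congr R _ _ _ _ (by
    show (secEquiv _ _).symm (((presheafCx R).iCycles n).app (op U) (a + b)) = _
    rw [map_add]
    exact secEquiv_symm_add U _ (cycleSec R n U a) (cycleSec R n U b))

/-- The map from cocycles to cohomology. -/
noncomputable def cyclesToHU (n : ℕ) : (presheafCx R).cycles n ⟶ F.cohomologyPresheaf n where
  app U := AddCommGrpCat.ofHom (AddMonoidHom.mk' (cycleClass R n U.unop) (cycleClass_add R n U.unop))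
  naturality U V f := by
    ext z
    show cycleClass R n V.unop (((presheafCx R).cycles n).map f z) =
      (Ext.mk₀ (freeAbMap f.unop)).comp (cycleClass R n U.unop z) (zero_add n)
    simp only [cycleClass, InjectiveResolution.mk₀_comp_extMk]
    refine extMk_congr R _ _ _ _ ?_
    rw [secEquiv_symm_map]
    exact congr_arg _ (NatTrans.naturality_apply ((presheafCx R).iCycles n) f z)

theorem exists_cycle (n : ℕ) (U : C) (s : (R.cocomplex.X n).obj.obj (op U))
    (h : (R.cocomplex.d n (n + 1)).hom.app (op U) s = 0) : ∃ z, cycleSec R n U z = s := by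
  have hk := isLimitForkMapOfIsLimit' ((evaluation Cᵒᵖ AddCommGrpCat.{u}).obj (op U)) _
    ((presheafCx R).cyclesIsKernel n (n + 1) (CochainComplex.next ℕ n))
  exact (ShortComplex.ab_exact_iff _).1 (ShortComplex.exact_of_f_is_kernel (ShortComplex.mk
    (((presheafCx R).iCycles n).app (op U)) (((presheafCx R).d n (n + 1)).app (op U))
    (congr_app ((presheafCx R).iCycles_d n (n + 1)) (op U))) hk) s h

theorem cyclesToHU_surjective (n : ℕ) (U : C) (x : CohSite.HU F n U) :
    ∃ z, (cyclesToHU R n).app (op U) z = x := by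
  obtain ⟨f, hf, rfl⟩ := R.extMk_surjective (x : Ext.{u} (freeAb J U) F n) (n + 1) rfl
  have h0 : (R.cocomplex.d n (n + 1)).hom.app (op U) (secEquiv U _ f) = 0 := by
    rw [← secEquiv_comp, hf, secEquiv_zero]
  obtain ⟨z, hz⟩ := exists_cycle R n U _ h0
  exact ⟨z, extMk_congr R _ _ (cycleSec_comp_d R n U z) hf (by
    show (secEquiv U _).symm (cycleSec R n U z) = f
    rw [hz, Equiv.symm_apply_apply])⟩

theorem eq_zero_of_extMk_zero {X : Sheaf J AddCommGrpCat.{u}} (f : X ⟶ R.cocomplex.X 0)
    (hf : f ≫ R.cocomplex.d 0 1 = 0) (h : R.extMk f 1 rfl hf = 0) : f = 0 := by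
  rw [← R.extEquivCohomologyClass.apply_eq_iff_eq, InjectiveResolution.extEquivCohomologyClass_extMk,
    InjectiveResolution.extEquivCohomologyClass_zero,
    CochainComplex.HomComplex.CohomologyClass.mk_eq_zero_iff,
    CochainComplex.HomComplex.Cocycle.fromSingleMk_mem_coboundaries_iff _ _ _ _ _ (-1 : ℤ) (by simp)] at h
  obtain ⟨g, hg⟩ := h
  have hz : IsZero (R.cochainComplex.X (-1)) :=
    CochainComplex.isZero_of_isStrictlyGE R.cochainComplex 0 (-1) (by lia)
  rw [hz.eq_of_tgt g 0, zero_comp] at hg
  rw [← cancel_mono (R.cochainComplexXIso 0 0 rfl).inv, zero_comp]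
  exact hg.symm

theorem cyclesToHU_eq_zero_iff (n : ℕ) (U : C) (z : ((presheafCx R).cycles n).obj (op U)) :
    (cyclesToHU R n).app (op U) z = 0 ↔
      ∃ s, ((presheafCx R).toCycles ((ComplexShape.up ℕ).prev n) n).app (op U) s = z := by
  have hinj : Function.Injective (cycleSec R n U) := by
    haveI : Mono (((presheafCx R).iCycles n).app (op U)) := (NatTrans.mono_iff_mono_app _).1 inferInstance (op U)
    exact (AddCommGrpCat.mono_iff_injective _).1 inferInstance
  constructor
  · intro h
    rcases n with _ | p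
    · refine ⟨0, hinj ?_⟩
      rw [map_zero]
      have := eq_zero_of_extMk_zero R _ (cycleSec_comp_d R 0 U z) h
      rw [← secEquiv_symm_zero U] at this
      rw [(secEquiv U _).symm.injective this]
      exact map_zero (((presheafCx R).iCycles 0).app (op U)).hom
    · obtain ⟨g, hg⟩ := (R.extMk_eq_zero_iff _ (p + 1 + 1) rfl (cycleSec_comp_d R (p + 1) U z) p rfl).1 h
      rw [CochainComplex.prev_nat_succ]
      refine ⟨secEquiv U _ g, hinj ?_⟩
      show (((presheafCx R).toCycles p (p + 1)).app (op U) ≫ ((presheafCx R).iCycles (p + 1)).app (op U)) _ = _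
      rw [← NatTrans.comp_app, HomologicalComplex.toCycles_i]
      show (R.cocomplex.d p (p + 1)).hom.app (op U) _ = _
      rw [← secEquiv_comp, hg, Equiv.apply_symm_apply]
  · rintro ⟨s, rfl⟩
    have hd : cycleSec R n U (((presheafCx R).toCycles ((ComplexShape.up ℕ).prev n) n).app (op U) s) =
        (R.cocomplex.d ((ComplexShape.up ℕ).prev n) n).hom.app (op U) s := by
      show (((presheafCx R).toCycles _ n).app (op U) ≫ ((presheafCx R).iCycles n).app (op U)) _ = _
      rw [← NatTrans.comp_app, HomologicalComplex.toCycles_i]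
      rfl
    rcases n with _ | p
    · show cycleClass R 0 U _ = 0
      refine (extMk_congr R _ _ _ (by simp) ?_).trans (R.extMk_zero 1 rfl)
      rw [hd, R.cocomplex.shape _ _ (by simp)]
      exact secEquiv_symm_zero _ _
    · show cycleClass R (p + 1) U _ = 0
      refine (R.extMk_eq_zero_iff _ (p + 1 + 1) rfl (cycleSec_comp_d R (p + 1) U _) p rfl).2 ?_
      revert s
      rw [CochainComplex.prev_nat_succ]
      intro s hd
      exact ⟨(secEquiv U _).symm s, by rw [secEquiv_symm_comp, hd]⟩

/-- The cohomology presheaves are the homology of an injective resolution as presheaves. -/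
noncomputable def homologyPresheafIso (n : ℕ) :
    (presheafCx R).homology n ≅ F.cohomologyPresheaf n :=
  have hw : (presheafCx R).toCycles ((ComplexShape.up ℕ).prev n) n ≫ cyclesToHU R n = 0 := by
    ext U s
    exact (cyclesToHU_eq_zero_iff R n U.unop _).2 ⟨s, rfl⟩
  haveI : Epi (cyclesToHU R n) := by
    rw [NatTrans.epi_iff_epi_app]
    intro U
    exact (AddCommGrpCat.epi_iff_surjective _).2 fun x => cyclesToHU_surjective R n U.unop x
  have hex : (ShortComplex.mk _ _ hw).Exact := by
    rw [ShortComplex.exact_iff_isZero_homology, Functor.isZero_iff]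
    intro U
    refine IsZero.of_iso ?_ (ShortComplex.mapHomologyIso _ ((evaluation Cᵒᵖ AddCommGrpCat.{u}).obj U)).symm
    rw [← ShortComplex.exact_iff_isZero_homology, ShortComplex.ab_exact_iff]
    exact fun z hz => (cyclesToHU_eq_zero_iff R n U.unop z).1 hz
  IsColimit.coconePointUniqueUpToIso
    ((presheafCx R).homologyIsCokernel _ n rfl) hex.gIsCokernel

end Groth.Agent.SiteBase
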