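import Groth.Agent.SiteBase.FamilyCartan
import Groth.Prelude.Def_CohSite

/-!
# Čech complexes and functors preserving fibre products
-/

universe u

open CategoryTheory Limits Opposite Simplicial AlgebraicTopology

noncomputable section

namespace Groth.Agent.SiteBase

variable {C D : Type u} [SmallCategory C] [SmallCategory D] [HasPullbacks C]
  (u : C ⥤ D) [PreservesLimitsOfShape WalkingCospan u] {U : C}

theorem preservesFiniteProducts_post : PreservesFiniteProducts (Over.post u (X := U)) := by
  haveI : PreservesLimitsOfShape (WidePullbackShape WalkingPair) u :=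
    inferInstanceAs (PreservesLimitsOfShape WalkingCospan u)
  haveI : PreservesLimitsOfShape (Discrete WalkingPair) (Over.post u (X := U)) := inferInstance
  haveI : PreservesLimit (Functor.empty.{0} (Over U)) (Over.post u (X := U)) := by
    have h : IsTerminal ((Over.post u).obj (Over.mk (𝟙 U))) :=
      Over.mkIdTerminal.ofIso (Over.isoMk (Iso.refl _) ((Category.id_comp _).trans (u.map_id U)))
    exact preservesLimit_of_preserves_limit_cone Over.mkIdTerminal
      ((isLimitMapConeEmptyConeEquiv _ _).symm h)
  haveI : PreservesLimitsOfShape (Discrete.{0} PEmpty) (Over.post u (X := U)) :=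
    preservesLimitsOfShape_pempty_of_preservesTerminal _
  exact PreservesFiniteProducts.of_preserves_binary_and_terminal _

/-- The functor on formal coproducts induced by a functor on slices. -/
def fcPost : FormalCoproduct.{u} (Over U) ⥤ FormalCoproduct.{u} (Over (u.obj U)) where
  obj X := ⟨X.I, fun i => (Over.post u).obj (X.obj i)⟩
  map g := ⟨g.f, fun i => (Over.post u).map (g.φ i)⟩
  map_id X := by ext <;> simp <;> rfl
  map_comp f g := by ext <;> simp <;> rfl

variable [HasPullbacks D] {ι : Type u} (Y : ι → Over U)

/-- The image of a family. -/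
abbrev postFam : ι → Over (u.obj U) := fun i => (Over.post u).obj (Y i)

/-- The Čech object of the image is the image of the Čech object. -/
def cechPostIso : (FormalCoproduct.mk ι Y).cech ⋙ fcPost u ≅
    (FormalCoproduct.mk ι (postFam u Y)).cech :=
  haveI := preservesFiniteProducts_post u (U := U)
  NatIso.ofComponents
    (fun n => FormalCoproduct.isoOfComponents (Equiv.refl _) fun a =>
      PreservesProduct.iso (Over.post u) (fun k => Y (a k)))
    (by
      intro m n g
      refine FormalCoproduct.hom_ext rfl fun a => ?_
      refine (Category.comp_id _).trans ?_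
      refine Pi.hom_ext _ _ fun k => ?_
      let σ : ToType n.unop → ToType m.unop := g.unop.toOrderHom.toFun
      change ((Over.post u).map (Pi.lift fun x => Pi.π (fun l => Y (a l)) (σ x)) ≫
          piComparison (Over.post u) (fun x => Y (a (σ x)))) ≫
            Pi.π (fun x => (Over.post u).obj (Y (a (σ x)))) k =
        (piComparison (Over.post u) (fun l => Y (a l)) ≫
          Pi.lift fun x => Pi.π (fun l => (Over.post u).obj (Y (a l))) (σ x)) ≫
            Pi.π (fun x => (Over.post u).obj (Y (a (σ x)))) k
      rw [Category.assoc, Category.assoc, piComparison_comp_π, Pi.lift_π, piComparison_comp_π,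
        ← Functor.map_comp, Pi.lift_π])

/-- Čech complexes of direct images. -/
def famCxPostIso (P : Dᵒᵖ ⥤ AddCommGrpCat.{u}) :
    (cechComplexFunctor Y).obj ((Over.forget U).op ⋙ u.op ⋙ P) ≅
      (cechComplexFunctor (postFam u Y)).obj ((Over.forget (u.obj U)).op ⋙ P) :=
  let e : ((FormalCoproduct.mk ι Y).cech ⋙ fcPost u).rightOp ≅
      (FormalCoproduct.mk ι (postFam u Y)).cech.rightOp :=
    NatIso.ofComponents (fun n => ((cechPostIso u Y).symm.app (op n)).op)
      (fun f => Quiver.Hom.unop_inj ((cechPostIso u Y).inv.naturality f.op).symm)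
  (alternatingCofaceMapComplex AddCommGrpCat.{u}).mapIso
    (Functor.isoWhiskerRight e ((FormalCoproduct.evalOp.{u} (Over (u.obj U)) AddCommGrpCat.{u}).obj
      ((Over.forget (u.obj U)).op ⋙ P)))

variable (J : GrothendieckTopology C) (K : GrothendieckTopology D)

theorem postFam_cover (hu : CoverPreserving J K u)
    (hY : Sieve.ofArrows (fun i => (Y i).left) (fun i => (Y i).hom) ∈ J U) :
    Sieve.ofArrows (fun i => (postFam u Y i).left) (fun i => (postFam u Y i).hom) ∈
      K (u.obj U) := by
  refine K.superset_covering ?_ (hu.cover_preserve hY)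
  rintro W g ⟨Z, f, h, hf, rfl⟩
  obtain ⟨i, a, rfl⟩ := Sieve.ofArrows.exists hf
  rw [Functor.map_comp, ← Category.assoc]
  exact Sieve.downward_closed _
    (Sieve.ofArrows_mk (fun i => (postFam u Y i).left) (fun i => (postFam u Y i).hom) i) _

theorem subsingleton_HU_push_injective [u.IsContinuous J K] (hu : CoverPreserving J K u)
    (I : Sheaf K AddCommGrpCat.{u}) [Injective I] (U : C) (p : ℕ) :
    Subsingleton (CohSite.HU ((CohSite.push K J u).obj I) (p + 1) U) := by
  refine subsingleton_HU_cartan Set.univ
    (fun V κ Z => Sieve.ofArrows (fun i => (Z i).left) (fun i => (Z i).hom) ∈ J V)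
    (fun V κ Z hZ => ⟨trivial, hZ, fun _ _ => trivial⟩) (fun V _ T hT => ?_) _
    (fun V κ Z hZ n => ?_) p U trivial
  · refine ⟨Σ W : C, {f : W ⟶ V // T f}, fun z => Over.mk z.2.1, ?_, fun z => z.2.2⟩
    refine J.superset_covering (fun W f hf => ?_) hT
    exact Sieve.ofArrows_mk (fun z : Σ W : C, {f : W ⟶ V // T f} => z.1) (fun z => z.2.1) ⟨W, f, hf⟩
  · exact IsZero.of_iso (isZero_cech_injective (postFam u Z) I (postFam_cover u Z J K hu hZ) n)
      ((HomologicalComplex.homologyFunctor _ _ (n + 1)).mapIso (famCxPostIso u Z I.obj))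

end Groth.Agent.SiteBase
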