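import Groth.Agent.SiteBase.FamilyCechPost
import Groth.Agent.SiteBase.Resolution

/-!
# Cohomology and direct image along a continuous cocontinuous functor
-/

universe u

open CategoryTheory Limits Opposite Abelian

noncomputable section

namespace Groth.Agent.SiteBase

section

variable {C : Type u} [SmallCategory C] {J : GrothendieckTopology C} (U : C)

/-- Sections as degree zero cohomology. -/
def secAddEquiv (F : Sheaf J AddCommGrpCat.{u}) : (F.obj.obj (op U) : Type u) ≃+ CohSite.HU F 0 U :=
  ({ (secEquiv U F).symm with map_add' := secEquiv_symm_add U F } :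
    (F.obj.obj (op U) : Type u) ≃+ (freeAb J U ⟶ F)).trans Ext.addEquiv₀.symm

theorem secAddEquiv_apply (F : Sheaf J AddCommGrpCat.{u}) (s : F.obj.obj (op U)) :
    secAddEquiv U F s = Ext.mk₀ ((secEquiv U F).symm s) := rfl

variable {S : ShortComplex (Sheaf J AddCommGrpCat.{u})} (hS : S.ShortExact)

/-- The coboundary on sections. -/
def secδ : (S.X₃.obj.obj (op U) : Type u) →+ CohSite.HU S.X₁ 1 U :=
  (hS.extClass.postcomp (freeAb J U) (zero_add 1)).comp (secAddEquiv U S.X₃).toAddMonoidHom

theorem secδ_surjective (h : Subsingleton (CohSite.HU S.X₂ 1 U)) :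
    Function.Surjective (secδ U hS) := by
  intro x
  obtain ⟨x₃, rfl⟩ := Ext.covariant_sequence_exact₁ _ hS x
    (Subsingleton.elim (h := h) _ _) (zero_add 1)
  obtain ⟨s, rfl⟩ := (secAddEquiv U S.X₃).surjective x₃
  exact ⟨s, rfl⟩

theorem secδ_eq_zero_iff (s : S.X₃.obj.obj (op U)) :
    secδ U hS s = 0 ↔ s ∈ Set.range (S.g.hom.app (op U)) := by
  constructor
  · intro h
    obtain ⟨x₂, hx⟩ := Ext.covariant_sequence_exact₃ _ hS (secAddEquiv U S.X₃ s) (zero_add 1) h
    obtain ⟨t, rfl⟩ := (secAddEquiv U S.X₂).surjective x₂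
    refine ⟨t, (secAddEquiv U S.X₃).injective ?_⟩
    rw [← hx, secAddEquiv_apply, secAddEquiv_apply, Ext.mk₀_comp_mk₀, secEquiv_symm_comp]
  · rintro ⟨t, rfl⟩
    change (secAddEquiv U S.X₃ (S.g.hom.app (op U) t)).comp hS.extClass (zero_add 1) = 0
    rw [secAddEquiv_apply, ← secEquiv_symm_comp, ← Ext.mk₀_comp_mk₀,
      Ext.comp_assoc_of_second_deg_zero, ShortComplex.ShortExact.comp_extClass, Ext.comp_zero]

theorem bijective_ext_shift (n : ℕ) (h0 : Subsingleton (CohSite.HU S.X₂ (n + 1) U))
    (h1 : Subsingleton (CohSite.HU S.X₂ (n + 1 + 1) U)) :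
    Function.Bijective (hS.extClass.postcomp (freeAb J U) rfl :
      CohSite.HU S.X₃ (n + 1) U →+ CohSite.HU S.X₁ (n + 1 + 1) U) := by
  constructor
  · rw [injective_iff_map_eq_zero]
    intro x hx
    obtain ⟨x₂, rfl⟩ := Ext.covariant_sequence_exact₃ _ hS x rfl hx
    rw [Subsingleton.elim (α := Ext (freeAb J U) S.X₂ (n + 1)) (h := h0) x₂ 0, Ext.zero_comp]
  · intro x
    exact Ext.covariant_sequence_exact₁ _ hS x (Subsingleton.elim (h := h1) _ _) rfl

end

variable {C D : Type u} [SmallCategory C] [SmallCategory D] [HasPullbacks C]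
  (J : GrothendieckTopology C) (K : GrothendieckTopology D) (u : C ⥤ D)
  [u.IsContinuous J K] [u.IsCocontinuous J K]

omit [HasPullbacks C] in
theorem push_shortExact {S : ShortComplex (Sheaf K AddCommGrpCat.{u})} (hS : S.ShortExact) :
    ∃ S' : ShortComplex (Sheaf J AddCommGrpCat.{u}), S'.ShortExact ∧
      S' = ShortComplex.mk ((CohSite.push K J u).map S.f) ((CohSite.push K J u).map S.g)
        (by rw [← Functor.map_comp, S.zero]; rfl) := by
  haveI := hS.mono_f
  haveI := hS.epi_g
  refine ⟨_, ?_, rfl⟩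
  haveI : Presheaf.IsLocallySurjective K S.g.hom :=
    (Sheaf.isLocallySurjective_iff_epi' AddCommGrpCat.{u} S.g).2 inferInstance
  haveI : Sheaf.IsLocallySurjective ((CohSite.push K J u).map S.g) := by
    refine ⟨fun {V} s => ?_⟩
    refine J.superset_covering ?_ (u.cover_lift J K (Presheaf.imageSieve_mem K S.g.hom
      (U := op (u.obj V)) s))
    rintro W f ⟨t, ht⟩
    exact ⟨t, ht⟩
  haveI : (CohSite.push K J u).Additive := ⟨rfl⟩
  have hinj : ∀ W, Function.Injective (S.f.hom.app W) := fun W => by
    haveI : Mono S.f.hom := inferInstanceAs (Mono ((sheafToPresheaf _ _).map S.f))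
    exact (AddCommGrpCat.mono_iff_injective _).1 ((NatTrans.mono_iff_mono_app _).1 inferInstance W)
  haveI : Mono ((sheafToPresheaf _ _).map ((CohSite.push K J u).map S.f)) := by
    rw [NatTrans.mono_iff_mono_app]
    intro W
    exact (AddCommGrpCat.mono_iff_injective _).2 (hinj (u.op.obj W))
  haveI hm : Mono ((CohSite.push K J u).map S.f) :=
    (sheafToPresheaf _ _).mono_of_mono_map inferInstance
  refine { exact := ?_, mono_f := hm, epi_g := Sheaf.epi_of_isLocallySurjective _ }
  refine ShortComplex.exact_of_f_is_kernel _ (KernelFork.IsLimit.ofι' _ _ fun {T} a ha => ?_)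
  have hex : ∀ W, Function.Exact (S.f.hom.app W) (S.g.hom.app W) := fun W => by
    haveI : PreservesLimitsOfSize.{0, 0} (sheafToPresheaf K AddCommGrpCat.{u} ⋙
      (evaluation Dᵒᵖ AddCommGrpCat.{u}).obj W) := inferInstance
    haveI : Mono ((sheafToPresheaf K AddCommGrpCat.{u} ⋙
      (evaluation Dᵒᵖ AddCommGrpCat.{u}).obj W).map S.f) := inferInstance
    exact (ShortComplex.ab_exact_iff_function_exact _).1
      (ShortComplex.exact_of_f_is_kernel (S.map (sheafToPresheaf K AddCommGrpCat.{u} ⋙
        (evaluation Dᵒᵖ AddCommGrpCat.{u}).obj W)) (KernelFork.mapIsLimit _ hS.fIsKernel (sheafToPresheaf K AddCommGrpCat.{u} ⋙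
          (evaluation Dᵒᵖ AddCommGrpCat.{u}).obj W)))
  have ex : ∀ W, ∀ x, ∃ y, S.f.hom.app (u.op.obj W) y = a.hom.app W x := fun W x =>
    (hex (u.op.obj W) _).1 (ConcreteCategory.congr_hom (congr_app (congrArg (·.hom) ha) W) x)
  choose y hy using ex
  refine ⟨⟨{ app := fun W => AddCommGrpCat.ofHom (AddMonoidHom.mk' (y W) fun x x' =>
              hinj (u.op.obj W) (by rw [map_add, hy, hy, hy, map_add]; rfl))
             naturality := fun W W' i => by
              ext x
              refine hinj (u.op.obj W') ?_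
              refine (hy W' _).trans ?_
              refine (NatTrans.naturality_apply a.hom i x).trans ?_
              refine Eq.trans ?_ (NatTrans.naturality_apply S.f.hom (u.op.map i) (y W x)).symm
              exact congrArg _ (hy W x).symm }⟩, ?_⟩
  ext1
  ext W x
  exact hy W x

variable [PreservesLimitsOfShape WalkingCospan u] (hu : CoverPreserving J K u)

include hu in
theorem nonempty_HU_push : ∀ (p : ℕ) (F : Sheaf K AddCommGrpCat.{u}) (U : C),
    Nonempty (CohSite.HU ((CohSite.push K J u).obj F) p U ≃+ CohSite.HU F p (u.obj U)) := by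
  intro p
  induction p with
  | zero =>
    intro F U
    exact ⟨(secAddEquiv U _).symm.trans (secAddEquiv (u.obj U) F)⟩
  | succ p ih =>
    intro F U
    obtain ⟨S, hS, rfl, hI⟩ := exists_injective_presentation F
    haveI := hI
    obtain ⟨S', hS', rfl⟩ := push_shortExact J K u hS
    have hac := fun n => subsingleton_HU_push_injective' u J hu S.X₂ U n
    cases p with
    | zero =>
      have h1 := secδ_surjective U hS' (hac 0)
      have h2 := secδ_surjective (u.obj U) hS (subsingleton_of_injective _ _ 0)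
      have e : (secδ U hS').ker = (secδ (u.obj U) hS).ker := by
        ext s
        exact (secδ_eq_zero_iff U hS' s).trans (secδ_eq_zero_iff (u.obj U) hS s).symm
      exact ⟨((QuotientAddGroup.quotientKerEquivOfSurjective _ h1).symm.trans
        (QuotientAddGroup.quotientAddEquivOfEq e)).trans
          (QuotientAddGroup.quotientKerEquivOfSurjective _ h2)⟩
    | succ n =>
      obtain ⟨e⟩ := ih S.X₃ U
      exact ⟨((AddEquiv.ofBijective _ (bijective_ext_shift U hS' n (hac n) (hac (n + 1)))).symm.trans
        e).trans (AddEquiv.ofBijective _ (bijective_ext_shift (u.obj U) hS n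
          (subsingleton_of_injective _ _ n) (subsingleton_of_injective _ _ (n + 1))))⟩

end Groth.Agent.SiteBase
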