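import Groth.Agent.SiteBase.SectRestr

/-!
# Sections with supports and change of rings
-/

set_option linter.style.haveILetI false
set_option linter.unusedSectionVars false

universe u

open CategoryTheory Limits Opposite

noncomputable section

namespace Groth.Agent.SiteBase.SectScalars

variable {C : Type u} [SmallCategory C] {J : GrothendieckTopology C}
  {O O' : Sheaf J CommRingCat.{u}} (φ : O ⟶ O') (U : C)
  [ModSite.HasPushOver O U] [ModSite.HasPushOver O' U]

/-- The map of sheaves of rings. -/
abbrev ringMap : ModSite.ringSh O ⟶ ModSite.ringSh O' :=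
  (sheafCompose J (forget₂ CommRingCat.{u} RingCat.{u})).map φ

/-- Change of rings. -/
abbrev res : ModSite.Mod O' ⥤ ModSite.Mod O := SheafOfModules.restrictScalars (ringMap φ)

/-- The map out of `Γ_Z` over the small ring. -/
def hom (N : ModSite.Mod O') :
    (res φ).obj ((ModSite.sectOn O' U).obj N) ⟶ (ModSite.sectOn O U).obj ((res φ).obj N) :=
  kernel.lift _ ((res φ).map ((ModSite.sectOnι O' U).app N)) (by
    refine (OpenQuot.comp_unit_eq_zero_iff O U _).2
      ((SectRestr.restr_map_eq_zero_iff O U _).2 fun V g s => ?_)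
    exact (SectRestr.restr_map_eq_zero_iff O' U _).1
      ((OpenQuot.comp_unit_eq_zero_iff O' U _).1 (kernel.condition _)) V g s)

theorem hom_ι (N : ModSite.Mod O') :
    hom φ U N ≫ (ModSite.sectOnι O U).app ((res φ).obj N) =
      (res φ).map ((ModSite.sectOnι O' U).app N) :=
  kernel.lift_ι _ _ _

/-- Sections killed by the restriction to `U`, in elements. -/
theorem exists_lift {O : Sheaf J CommRingCat.{u}} [ModSite.HasPushOver O U] (N : ModSite.Mod O)
    (W : C) (s : N.val.obj (op W))
    (hs : ∀ (V : C) (q : V ⟶ W) (_ : V ⟶ U), N.val.map q.op s = 0) :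
    ∃ t, ((ModSite.sectOnι O U).app N).val.app (op W) t = s := by
  let σ := (FreeOn.freeOnEquiv O W N).symm s
  have hσ : (ModSite.restr O U).map σ = 0 := by
    refine SectRestr.transpose_eq_zero O W U σ fun V g f x => ?_
    let τ := (ModSite.extZeroAdj O W).homEquiv _ N σ
    let one : ((O.over W).obj.obj (op (Over.mk (𝟙 W))) : Type u) := 1
    have h1 : τ.val.app (op (Over.mk (𝟙 W))) one = s :=
      Equiv.apply_symm_apply (FreeOn.freeOnEquiv O W N) s
    let k : Over.mk f ⟶ Over.mk (𝟙 W) := Over.homMk f (by simp)
    have h2 : τ.val.app (op (Over.mk f))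
        (1 : ((O.over W).obj.obj (op (Over.mk f)) : Type u)) = 0 := by
      refine Eq.trans ?_ ((congrArg (N.val.map f.op) h1).trans (hs V f g))
      refine Eq.trans ?_ (PresheafOfModules.naturality_apply τ.val k.op one)
      exact congrArg (τ.val.app (op (Over.mk f))) (map_one ((O.over W).obj.map k.op).hom).symm
    let x' : ((ModSite.ringSh (O.over W)).obj.obj (op (Over.mk f)) : Type u) := x
    let o : (SheafOfModules.unit (ModSite.ringSh (O.over W))).val.obj (op (Over.mk f)) :=
      (1 : ((ModSite.ringSh (O.over W)).obj.obj (op (Over.mk f)) : Type u))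
    have e : x = x' • o := (mul_one x').symm
    show τ.val.app (op (Over.mk f)) x = 0
    rw [e]
    exact ((τ.val.app (op (Over.mk f))).hom.map_smul x' o).trans
      ((congrArg (x' • ·) h2).trans (smul_zero x'))
  let ℓ := kernel.lift _ σ ((OpenQuot.comp_unit_eq_zero_iff O U _).2 hσ)
  have hℓ : ℓ ≫ (ModSite.sectOnι O U).app N = σ := kernel.lift_ι _ _ _
  refine ⟨FreeOn.freeOnEquiv O W _ ℓ, ?_⟩
  exact (FreeOn.freeOnEquiv_comp O W ℓ ((ModSite.sectOnι O U).app N)).symm.trans
    ((congrArg (FreeOn.freeOnEquiv O W N) hℓ).trans (Equiv.apply_symm_apply _ s))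

theorem bijective_hom (N : ModSite.Mod O') (W : C) :
    Function.Bijective ((hom φ U N).val.app (op W)) := by
  haveI hm : Mono ((ModSite.sectOnι O' U).app N) :=
    inferInstanceAs (Mono (kernel.ι ((ModSite.restrPushOverAdj O' U).unit.app N)))
  haveI hm' : Mono ((ModSite.sectOnι O U).app ((res φ).obj N)) :=
    inferInstanceAs (Mono (kernel.ι ((ModSite.restrPushOverAdj O U).unit.app ((res φ).obj N))))
  haveI : Mono ((SheafOfModules.forget _).map ((ModSite.sectOnι O' U).app N)) := inferInstance
  haveI : Mono ((SheafOfModules.forget _).map ((ModSite.sectOnι O U).app ((res φ).obj N))) :=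
    inferInstance
  have i' := PresheafOfModules.injective_of_mono
    ((SheafOfModules.forget _).map ((ModSite.sectOnι O' U).app N)) (op W)
  have i := PresheafOfModules.injective_of_mono
    ((SheafOfModules.forget _).map ((ModSite.sectOnι O U).app ((res φ).obj N))) (op W)
  have e : ∀ t, ((ModSite.sectOnι O U).app ((res φ).obj N)).val.app (op W)
      ((hom φ U N).val.app (op W) t) = ((ModSite.sectOnι O' U).app N).val.app (op W) t := fun t =>
    congrArg (fun k : (res φ).obj ((ModSite.sectOn O' U).obj N) ⟶ (res φ).obj N =>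
      k.val.app (op W) t) (hom_ι φ U N)
  refine ⟨fun a b hab => i' ?_, fun t => ?_⟩
  · exact (e a).symm.trans ((congrArg _ hab).trans (e b))
  · obtain ⟨t', ht'⟩ := exists_lift U N W
      (((ModSite.sectOnι O U).app ((res φ).obj N)).val.app (op W) t) fun V q g => by
        refine (PresheafOfModules.naturality_apply ((ModSite.sectOnι O U).app ((res φ).obj N)).val
          q.op t).symm.trans ?_
        exact (SectRestr.restr_map_eq_zero_iff O U _).1
          ((OpenQuot.comp_unit_eq_zero_iff O U _).1 (kernel.condition _)) V g _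
    exact ⟨t', i ((e t').trans ht')⟩

/-- Sections with supports commute with change of rings. -/
def sectScalarsIso : ModSite.sectOn O' U ⋙ res φ ≅ res φ ⋙ ModSite.sectOn O U := by
  haveI : ∀ N, IsIso (hom φ U N) := fun N => by
    haveI : ∀ X, IsIso ((hom φ U N).val.app X) := fun X =>
      (ConcreteCategory.isIso_iff_bijective _).2 (bijective_hom φ U N X.unop)
    haveI : IsIso ((SheafOfModules.forget _).map (hom φ U N)) :=
      (PresheafOfModules.isoMk (fun X => asIso ((hom φ U N).val.app X))
        (fun X Y f => (hom φ U N).val.naturality f)).isIso_hom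
    exact isIso_of_reflects_iso _ (SheafOfModules.forget _)
  refine NatIso.ofComponents (fun N => asIso (hom φ U N)) fun {N N'} f => ?_
  haveI hm : Mono ((ModSite.sectOnι O U).app ((res φ).obj N')) :=
    inferInstanceAs (Mono (kernel.ι ((ModSite.restrPushOverAdj O U).unit.app ((res φ).obj N'))))
  refine (cancel_mono ((ModSite.sectOnι O U).app ((res φ).obj N'))).1 ?_
  have n1 := (ModSite.sectOnι O' U).naturality f
  have n2 := (ModSite.sectOnι O U).naturality ((res φ).map f)
  refine ((Category.assoc _ _ _).trans (congrArg _ (hom_ι φ U N'))).trans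
    (Eq.trans ?_ ((Category.assoc _ _ _).trans ((congrArg _ n2).trans
      ((Category.assoc _ _ _).symm.trans (congrArg (· ≫ _) (hom_ι φ U N))))).symm)
  exact ((res φ).map_comp _ _).symm.trans ((congrArg (res φ).map n1).trans ((res φ).map_comp _ _))

end Groth.Agent.SiteBase.SectScalars
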