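import Mathlib

/-!
# Extension by zero of presheaves of modules from a slice category
-/

set_option linter.style.haveILetI false
set_option linter.unusedSectionVars false

universe u

open CategoryTheory Limits Opposite DirectSum

noncomputable section

namespace Groth.Agent.SiteBase.ExtZeroPre

open scoped Classical in
/-- Decidable equality of morphisms. -/
local instance decEqHom {C : Type u} [SmallCategory C] (V W : C) : DecidableEq (V ⟶ W) :=
  fun a b => Classical.propDecidable (a = b)

variable {C : Type u} [SmallCategory C] {R : Cᵒᵖ ⥤ RingCat.{u}} {U : C}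

/-- The rings over `U`. -/
abbrev overR (R : Cᵒᵖ ⥤ RingCat.{u}) (U : C) : (Over U)ᵒᵖ ⥤ RingCat.{u} := (Over.forget U).op ⋙ R

variable (G : PresheafOfModules.{u} (overR R U))

/-- The value of `G` at a morphism `V ⟶ U`, as a module over the ring at `V`. -/
abbrev fib (V : C) (φ : V ⟶ U) : ModuleCat.{u} (R.obj (op V)) := G.obj (op (Over.mk φ))

/-- The sections of the extension by zero at `V`. -/
abbrev Sec (V : C) : Type u := ⨁ φ : V ⟶ U, fib G V φ

/-- The restriction maps of `G`, between fibres. -/
def gmap {V W : C} {φ : V ⟶ U} {ψ : W ⟶ U} (f : Over.mk ψ ⟶ Over.mk φ) :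
    fib G V φ →+ fib G W ψ :=
  (G.presheaf.map f.op).hom

theorem gmap_smul {V W : C} {φ : V ⟶ U} {ψ : W ⟶ U} (f : Over.mk ψ ⟶ Over.mk φ)
    (r : R.obj (op V)) (x : fib G V φ) : gmap G f (r • x) = R.map f.left.op r • gmap G f x :=
  PresheafOfModules.map_smul G f.op r x

/-- The restriction of one summand. -/
def resOne {V W : C} (g : W ⟶ V) (φ : V ⟶ U) : fib G V φ →+ Sec G W :=
  (DirectSum.of (fun ψ : W ⟶ U => fib G W ψ) (g ≫ φ)).comp
    (gmap G (Over.homMk g : Over.mk (g ≫ φ) ⟶ Over.mk φ))

theorem resOne_apply {V W : C} (g : W ⟶ V) (φ : V ⟶ U) (x : fib G V φ) :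
    resOne G g φ x = DirectSum.of (fun ψ : W ⟶ U => fib G W ψ) (g ≫ φ)
      (gmap G (Over.homMk g : Over.mk (g ≫ φ) ⟶ Over.mk φ) x) :=
  rfl

theorem resOne_congr {V W : C} (φ : V ⟶ U) {φ₁ φ₂ : W ⟶ U} (h : φ₁ = φ₂)
    (f₁ : Over.mk φ₁ ⟶ Over.mk φ) (f₂ : Over.mk φ₂ ⟶ Over.mk φ) (hl : f₁.left = f₂.left)
    (x : fib G V φ) :
    DirectSum.of (fun ψ : W ⟶ U => fib G W ψ) φ₁ (gmap G f₁ x) =
      DirectSum.of (fun ψ : W ⟶ U => fib G W ψ) φ₂ (gmap G f₂ x) := by
  subst h
  rw [Over.OverMorphism.ext hl]

/-- The underlying presheaf of abelian groups. -/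
@[simps]
def jAb : Cᵒᵖ ⥤ AddCommGrpCat.{u} where
  obj X := AddCommGrpCat.of (Sec G X.unop)
  map {X Y} g := AddCommGrpCat.ofHom (DirectSum.toAddMonoid (resOne G g.unop))
  map_id X := by
    refine AddCommGrpCat.hom_ext (DirectSum.addHom_ext fun φ x => ?_)
    simp only [AddCommGrpCat.hom_ofHom, DirectSum.toAddMonoid_of, AddCommGrpCat.hom_id,
      AddMonoidHom.id_apply]
    refine (resOne_congr G φ (Category.id_comp φ) _ (𝟙 _) rfl x).trans (congrArg _ ?_)
    exact congr($(G.presheaf.map_id (op (Over.mk φ))) x)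
  map_comp {X Y Z} g h := by
    refine AddCommGrpCat.hom_ext (DirectSum.addHom_ext fun φ x => ?_)
    simp only [AddCommGrpCat.hom_ofHom, DirectSum.toAddMonoid_of, AddCommGrpCat.hom_comp,
      AddMonoidHom.coe_comp, Function.comp_apply]
    refine Eq.trans ?_ (DirectSum.toAddMonoid_of _ _ _).symm
    refine (resOne_congr G φ (Category.assoc h.unop g.unop φ) _
      ((Over.homMk h.unop : Over.mk (h.unop ≫ g.unop ≫ φ) ⟶ Over.mk (g.unop ≫ φ)) ≫
        Over.homMk g.unop) rfl x).trans ?_
    exact congrArg _ (PresheafOfModules.map_comp_apply G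
      (Over.homMk g.unop : Over.mk (g.unop ≫ φ) ⟶ Over.mk φ).op
      (Over.homMk h.unop : Over.mk (h.unop ≫ g.unop ≫ φ) ⟶ Over.mk (g.unop ≫ φ)).op x)

instance moduleJAb (X : Cᵒᵖ) : Module (R.obj X) ((jAb G).obj X) :=
  inferInstanceAs (Module (R.obj (op X.unop)) (Sec G X.unop))

theorem toAddMonoid_resOne_smul {V W : C} (g : W ⟶ V) (r : R.obj (op V)) (m : Sec G V) :
    DirectSum.toAddMonoid (resOne G g) (r • m) =
      R.map g.op r • DirectSum.toAddMonoid (resOne G g) m := by
  induction m using DirectSum.induction_on with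
  | zero => simp
  | add a b ha hb => simp only [smul_add, map_add, ha, hb]
  | of φ x =>
    rw [← DirectSum.of_smul, DirectSum.toAddMonoid_of, DirectSum.toAddMonoid_of, resOne_apply,
      resOne_apply, gmap_smul, DirectSum.of_smul]
    rfl

theorem jAb_map_smul ⦃X Y : Cᵒᵖ⦄ (g : X ⟶ Y) (r : R.obj X) (m : (jAb G).obj X) :
    (jAb G).map g (r • m) = R.map g r • (jAb G).map g m :=
  toAddMonoid_resOne_smul G g.unop r m

/-- The extension by zero of a presheaf of modules. -/
def jObj : PresheafOfModules.{u} R := PresheafOfModules.ofPresheaf (jAb G) (jAb_map_smul G)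

/-- The inclusion of a summand. -/
def ι (V : C) (φ : V ⟶ U) : fib G V φ →+ (jObj G).obj (op V) :=
  DirectSum.of (fun ψ : V ⟶ U => fib G V ψ) φ

theorem jObj_map_ι {V W : C} (g : W ⟶ V) (φ : V ⟶ U) {ψ : W ⟶ U}
    (f : Over.mk ψ ⟶ Over.mk φ) (hf : f.left = g) (x : fib G V φ) :
    (jObj G).map g.op (ι G V φ x) = ι G W ψ (gmap G f x) := by
  refine Eq.trans (DirectSum.toAddMonoid_of (resOne G g) φ x) ?_
  refine resOne_congr G φ ?_ _ f hf.symm x
  subst hf
  exact Over.w f

theorem ι_smul (V : C) (φ : V ⟶ U) (r : R.obj (op V)) (x : fib G V φ) :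
    ι G V φ (r • x) = r • ι G V φ x :=
  (DirectSum.of_smul (R := R.obj (op V)) (M := fun ψ : V ⟶ U => (fib G V ψ : Type u)) φ r x :)

variable {G}

/-- Maps out of the extension by zero are determined on summands. -/
theorem jObj_hom_ext {N : PresheafOfModules.{u} R} {a b : jObj G ⟶ N}
    (h : ∀ (V : C) (φ : V ⟶ U) (x : fib G V φ), a.app (op V) (ι G V φ x) = b.app (op V) (ι G V φ x)) :
    a = b := by
  refine PresheafOfModules.hom_ext fun X => ModuleCat.hom_ext ?_
  refine LinearMap.toAddMonoidHom_injective (DirectSum.addHom_ext fun φ x => ?_)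
  exact h X.unop φ x

variable (G) (N : PresheafOfModules.{u} R)

/-- The restriction of a presheaf of modules. -/
abbrev resPre : PresheafOfModules.{u} (overR R U) :=
  (PresheafOfModules.pushforward₀ (Over.forget U) R).obj N

/-- A map to a restriction gives maps on summands. -/
def descOne (β : G ⟶ resPre N) (V : C) (φ : V ⟶ U) : fib G V φ →+ N.obj (op V) :=
  (β.app (op (Over.mk φ))).hom.toAddMonoidHom

theorem toAddMonoid_descOne_smul (β : G ⟶ resPre N) (V : C) (r : R.obj (op V)) (m : Sec G V) :
    DirectSum.toAddMonoid (descOne G N β V) (r • m) =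
      r • DirectSum.toAddMonoid (descOne G N β V) m := by
  induction m using DirectSum.induction_on with
  | zero => simp
  | add a b ha hb => simp only [smul_add, map_add, ha, hb]
  | of φ x =>
    rw [← DirectSum.of_smul, DirectSum.toAddMonoid_of, DirectSum.toAddMonoid_of]
    exact (β.app (op (Over.mk φ))).hom.map_smul r x

/-- The map out of the extension by zero given by a map to the restriction. -/
def desc (β : G ⟶ resPre N) : jObj G ⟶ N :=
  PresheafOfModules.homMk
    { app := fun X => AddCommGrpCat.ofHom (DirectSum.toAddMonoid (descOne G N β X.unop))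
      naturality := fun X Y g => by
        refine AddCommGrpCat.hom_ext (DirectSum.addHom_ext fun φ x => ?_)
        change DirectSum.toAddMonoid (descOne G N β Y.unop)
            ((jObj G).map g.unop.op (ι G X.unop φ x)) =
          N.map g (DirectSum.toAddMonoid (descOne G N β X.unop) (ι G X.unop φ x))
        rw [jObj_map_ι G g.unop φ (Over.homMk g.unop : Over.mk (g.unop ≫ φ) ⟶ Over.mk φ) rfl x]
        erw [DirectSum.toAddMonoid_of, DirectSum.toAddMonoid_of]
        exact PresheafOfModules.naturality_apply β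
          (Over.homMk g.unop : Over.mk (g.unop ≫ φ) ⟶ Over.mk φ).op x }
    (fun X r m => toAddMonoid_descOne_smul G N β X.unop r m)

theorem desc_ι (β : G ⟶ resPre N) (V : C) (φ : V ⟶ U) (x : fib G V φ) :
    (desc G N β).app (op V) (ι G V φ x) = β.app (op (Over.mk φ)) x :=
  DirectSum.toAddMonoid_of (descOne G N β V) φ x

/-- The unit of the adjunction. -/
def unit : G ⟶ resPre (jObj G) where
  app Y := ModuleCat.ofHom
    { toFun := fun x => ι G Y.unop.left Y.unop.hom x
      map_add' := fun x y => map_add _ x y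
      map_smul' := fun r x => ι_smul G Y.unop.left Y.unop.hom r x }
  naturality {Y Z} f := ModuleCat.hom_ext (LinearMap.ext fun x =>
    (jObj_map_ι G f.unop.left Y.unop.hom f.unop rfl x).symm)

theorem unit_app (V : C) (φ : V ⟶ U) (x : fib G V φ) :
    (unit G).app (op (Over.mk φ)) x = ι G V φ x :=
  rfl

/-- Extension by zero is left adjoint to restriction. -/
def homEquiv : (jObj G ⟶ N) ≃ (G ⟶ resPre N) where
  toFun a := unit G ≫ (PresheafOfModules.pushforward₀ (Over.forget U) R).map a
  invFun β := desc G N β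
  left_inv a := jObj_hom_ext fun V φ x => desc_ι G N _ V φ x
  right_inv β := PresheafOfModules.hom_ext fun Y => ModuleCat.hom_ext (LinearMap.ext fun x =>
    desc_ι G N β Y.unop.left Y.unop.hom x)

variable (R U)

/-- Extension by zero, as a functor. -/
def jFun : PresheafOfModules.{u} (overR R U) ⥤ PresheafOfModules.{u} R :=
  Adjunction.leftAdjointOfEquiv (G := PresheafOfModules.pushforward₀ (Over.forget U) R)
    (fun G N => homEquiv G N) (fun G N N' g h => by
      show unit G ≫ _ = (unit G ≫ _) ≫ _
      rw [Functor.map_comp, Category.assoc])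

/-- The adjunction. -/
def jAdj : jFun R U ⊣ PresheafOfModules.pushforward₀ (Over.forget U) R :=
  Adjunction.adjunctionOfEquivLeft (G := PresheafOfModules.pushforward₀ (Over.forget U) R)
    (fun G N => homEquiv G N) (fun G N N' g h => by
      show unit G ≫ _ = (unit G ≫ _) ≫ _
      rw [Functor.map_comp, Category.assoc])

variable {R U}

theorem jFun_map_ι {G G' : PresheafOfModules.{u} (overR R U)} (f : G ⟶ G') (V : C) (φ : V ⟶ U)
    (x : fib G V φ) :
    ((jFun R U).map f).app (op V) (ι G V φ x) = ι G' V φ (f.app (op (Over.mk φ)) x) := by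
  show (desc G _ (f ≫ unit G' ≫ (PresheafOfModules.pushforward₀ (Over.forget U) R).map (𝟙 _))).app
    (op V) (ι G V φ x) = _
  rw [desc_ι]
  rfl

theorem jFun_map_app {G G' : PresheafOfModules.{u} (overR R U)} (f : G ⟶ G') (V : C)
    (m : (jObj G).obj (op V)) :
    ((jFun R U).map f).app (op V) m =
      DFinsupp.mapRange (fun φ x => f.app (op (Over.mk φ)) x) (fun φ => map_zero _) m := by
  have key : (((jFun R U).map f).app (op V)).hom.toAddMonoidHom =
      DFinsupp.mapRange.addMonoidHom fun φ : V ⟶ U =>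
        (f.app (op (Over.mk φ))).hom.toAddMonoidHom :=
    DirectSum.addHom_ext fun φ x => by
      refine (jFun_map_ι f V φ x).trans ?_
      symm
      exact DFinsupp.mapRange_single (f := fun (φ : V ⟶ U) (x : fib G V φ) =>
        f.app (op (Over.mk φ)) x) (hf := fun φ => map_zero _)
  exact DFunLike.congr_fun key m

instance preservesMonomorphisms_jFun : (jFun R U).PreservesMonomorphisms where
  preserves {G G'} f _ := PresheafOfModules.mono_of_injective fun {X} => by
    induction X with
    | op V =>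
      intro a b hab
      exact (DFinsupp.mapRange_injective (fun (φ : V ⟶ U) (x : fib G V φ) =>
        f.app (op (Over.mk φ)) x) (fun φ => map_zero _)).2
        (fun φ => PresheafOfModules.injective_of_mono f (op (Over.mk φ)))
        ((jFun_map_app f V a).symm.trans (hab.trans (jFun_map_app f V b)))

end Groth.Agent.SiteBase.ExtZeroPre
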