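import Mathlib
import Groth.Agent.SiteBase.CechNerve

/-!
# The free resolution given by the Čech nerve of an epimorphism of sheaves of sets
-/

universe v v' u u' w

open CategoryTheory Limits Simplicial Opposite AlgebraicTopology

noncomputable section

namespace Groth.Agent.SiteBase

section map

variable {A : Type u} [Category.{v} A] [Abelian A] {B : Type u'} [Category.{v'} B] [Abelian B]
  (G : A ⥤ B) [G.Additive]

/-- `G` commutes with the augmentation of the alternating face map complex. -/
def epsilonArrowIso (X : SimplicialObject.Augmented A) :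
    Arrow.mk (AlternatingFaceMapComplex.ε.app
        (((SimplicialObject.Augmented.whiskering A B).obj G).obj X)) ≅
      Arrow.mk ((G.mapHomologicalComplex _).map (AlternatingFaceMapComplex.ε.app X)) :=
  Arrow.isoMk
    (HomologicalComplex.Hom.isoOfComponents (fun _ => Iso.refl _) (by
      rintro i j (rfl : j + 1 = i)
      refine (Category.id_comp _).trans (Eq.trans ?_ (Category.comp_id _).symm)
      change G.map ((AlternatingFaceMapComplex.obj X.left).d (j + 1) j) =
        (AlternatingFaceMapComplex.obj
          (((SimplicialObject.whiskering A B).obj G).obj X.left)).d (j + 1) j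
      rw [AlternatingFaceMapComplex.obj_d_eq, AlternatingFaceMapComplex.obj_d_eq, G.map_sum]
      refine Finset.sum_congr rfl fun k _ => ?_
      rw [G.map_zsmul]
      rfl))
    ((HomologicalComplex.singleMapHomologicalComplex G (ComplexShape.down ℕ) 0).app X.right).symm
    (by
      rw [← cancel_mono ((HomologicalComplex.singleMapHomologicalComplex G
        (ComplexShape.down ℕ) 0).app X.right).hom]
      apply HomologicalComplex.to_single_hom_ext
      rw [Category.assoc, Category.assoc, Iso.symm_hom]
      erw [Iso.inv_hom_id, Category.comp_id]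
      rw [HomologicalComplex.comp_f, HomologicalComplex.comp_f]
      erw [HomologicalComplex.singleMapHomologicalComplex_hom_app_self,
        Category.id_comp, AlternatingFaceMapComplex.ε_app_f_zero]
      change G.map ((AlternatingFaceMapComplex.ε.app X).f 0) ≫ G.map (𝟙 X.right) ≫ 𝟙 _ =
        G.map (X.hom.app (op ⦋0⦌)) ≫ 𝟙 _
      rw [AlternatingFaceMapComplex.ε_app_f_zero]
      erw [G.map_id, Category.id_comp]
      rfl)

/-- `G` commutes with the maps in homology. -/
def homologyMapArrowIso [G.PreservesHomology] {ι : Type*} {c : ComplexShape ι}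
    {K L : HomologicalComplex A c} (φ : K ⟶ L) (n : ι) :
    Arrow.mk (HomologicalComplex.homologyMap ((G.mapHomologicalComplex c).map φ) n) ≅
      Arrow.mk (G.map (HomologicalComplex.homologyMap φ n)) :=
  Arrow.isoMk ((K.sc n).mapHomologyIso G) ((L.sc n).mapHomologyIso G)
    (ShortComplex.mapHomologyIso_hom_naturality
      ((HomologicalComplex.shortComplexFunctor A c n).map φ) G).symm

end map

/-- A map of presheaves of sets which is locally surjective gives a locally surjective map of
free abelian presheaves. -/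
theorem isLocallySurjective_free {C : Type u} [SmallCategory C] (J : GrothendieckTopology C)
    {P Q : Cᵒᵖ ⥤ Type u} (g : P ⟶ Q) [Presheaf.IsLocallySurjective J g] :
    Presheaf.IsLocallySurjective J (Functor.whiskerRight g AddCommGrpCat.free.{u}) := by
  constructor
  intro U s
  change FreeAbelianGroup (Q.obj (op U)) at s
  induction s using FreeAbelianGroup.induction_on with
  | zero =>
    exact J.superset_covering (fun V i _ => ⟨0, (map_zero _).trans (map_zero _).symm⟩) (J.top_mem U)
  | of x =>
    refine J.superset_covering ?_ (Presheaf.imageSieve_mem J g (U := op U) x)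
    rintro V i ⟨t, ht⟩
    refine ⟨FreeAbelianGroup.of t, ?_⟩
    change FreeAbelianGroup.map (g.app (op V)) (FreeAbelianGroup.of t) =
      FreeAbelianGroup.map (Q.map i.op) (FreeAbelianGroup.of x)
    rw [FreeAbelianGroup.map_of_apply, FreeAbelianGroup.map_of_apply, ht]
  | neg x hx =>
    refine J.superset_covering ?_ hx
    rintro V i ⟨t, ht⟩
    exact ⟨-t, (map_neg _ t).trans ((congrArg Neg.neg ht).trans (map_neg _ _).symm)⟩
  | add x y hx hy =>
    refine J.superset_covering ?_ (J.intersection_covering hx hy)
    rintro V i ⟨⟨t, ht⟩, t', ht'⟩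
    exact ⟨t + t', (map_add _ t t').trans
      ((congrArg₂ (· + ·) ht ht').trans (map_add _ _ _).symm)⟩

theorem lsFac {C : Type u} [SmallCategory C] (J : GrothendieckTopology C)
    {F₁ F₂ F₃ : Cᵒᵖ ⥤ AddCommGrpCat.{u}} (f₁ : F₁ ⟶ F₂) {f₂ : F₂ ⟶ F₃} (f₃ : F₁ ⟶ F₃)
    (fac : f₁ ≫ f₂ = f₃) (h : Presheaf.IsLocallySurjective J f₃) :
    Presheaf.IsLocallySurjective J f₂ :=
  Presheaf.isLocallySurjective_of_isLocallySurjective_fac J fac

theorem lsComp {C : Type u} [SmallCategory C] (J : GrothendieckTopology C)
    {F₁ F₂ F₃ : Cᵒᵖ ⥤ AddCommGrpCat.{u}} {f₁ : F₁ ⟶ F₂} {f₂ : F₂ ⟶ F₃}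
    (h₁ : Presheaf.IsLocallySurjective J f₁) (h₂ : Presheaf.IsLocallySurjective J f₂) :
    Presheaf.IsLocallySurjective J (f₁ ≫ f₂) :=
  Presheaf.isLocallySurjective_comp J f₁ f₂

section general

variable {C : Type u} [SmallCategory C] (J : GrothendieckTopology C)
  (X : SimplicialObject.Augmented (Cᵒᵖ ⥤ AddCommGrpCat.{u}))

theorem injective_homologyMap_epsilon
    (hmono : ∀ (U : Cᵒᵖ) (n : ℕ), Mono (HomologicalComplex.homologyMap
      (AlternatingFaceMapComplex.ε.app (((SimplicialObject.Augmented.whiskering _ _).obj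
        ((evaluation _ _).obj U : (Cᵒᵖ ⥤ AddCommGrpCat.{u}) ⥤ AddCommGrpCat.{u})).obj X)) n))
    (U : Cᵒᵖ) (n : ℕ) :
    Function.Injective ((HomologicalComplex.homologyMap
      (AlternatingFaceMapComplex.ε.app X) n).app U) := by
  let ev : (Cᵒᵖ ⥤ AddCommGrpCat.{u}) ⥤ AddCommGrpCat.{u} := (evaluation _ _).obj U
  rw [← AddCommGrpCat.mono_iff_injective]
  change Mono (ev.map _)
  rw [← MorphismProperty.monomorphisms.iff]
  refine (MorphismProperty.monomorphisms AddCommGrpCat.{u}).arrow_mk_iso_iff
    (homologyMapArrowIso ev (AlternatingFaceMapComplex.ε.app X) n) |>.1 ?_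
  refine (MorphismProperty.monomorphisms AddCommGrpCat.{u}).arrow_mk_iso_iff
    ((HomologicalComplex.homologyFunctor AddCommGrpCat.{u} (ComplexShape.down ℕ)
      n).mapArrow.mapIso (epsilonArrowIso ev X)) |>.1 ?_
  exact (MorphismProperty.monomorphisms.iff _).2 (hmono U n)

theorem isLocallySurjective_homologyMap_epsilon
    (hhom : Presheaf.IsLocallySurjective J (X.hom.app (op ⦋0⦌))) (n : ℕ) :
    Presheaf.IsLocallySurjective J (HomologicalComplex.homologyMap
      (AlternatingFaceMapComplex.ε.app X) n) := by
  cases n with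
  | succ k =>
    have hz : IsZero (((ChainComplex.single₀ _).obj X.right).homology (k + 1)) :=
      (HomologicalComplex.exactAt_single_obj (ComplexShape.down ℕ) 0 X.right (k + 1)
        (by omega)).isZero_homology
    constructor
    intro U s
    refine J.superset_covering (fun V i _ => ⟨0, ?_⟩) (J.top_mem U)
    have hzV := AddCommGrpCat.isZero_iff_subsingleton.1
      (((evaluation Cᵒᵖ AddCommGrpCat.{u}).obj (op V)).map_isZero hz)
    exact @Subsingleton.elim _ hzV _ _
  | zero =>
    set L := (ChainComplex.single₀ _).obj X.right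
    set A := AlternatingFaceMapComplex.obj X.left
    let e : L.homology 0 ≅ X.right :=
      (HomologicalComplex.homologyFunctorSingleIso _ (ComplexShape.down ℕ) 0).app X.right
    let a : A.X 0 ⟶ A.homology 0 := A.pOpcycles 0 ≫ (ChainComplex.isoHomologyι₀ A).inv
    let b : X.right ⟶ L.homology 0 :=
      L.pOpcycles 0 ≫ (ChainComplex.isoHomologyι₀ L).inv
    haveI : IsIso (L.pOpcycles 0) :=
      L.isIso_pOpcycles 1 0 (by simp) (((HomologicalComplex.isZero_single_obj_X
        (ComplexShape.down ℕ) 0 X.right 1 (by omega))).eq_of_src _ _)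
    haveI : IsIso b := IsIso.comp_isIso' this inferInstance
    have h1 := hhom
    have h3 : Presheaf.IsLocallySurjective J
      ((AlternatingFaceMapComplex.ε.app X).f 0 ≫ b) :=
      lsComp J (by rw [AlternatingFaceMapComplex.ε_app_f_zero]; exact h1)
        (Presheaf.isLocallySurjective_of_iso J b)
    refine lsFac J a _ ?_ h3
    change (A.pOpcycles 0 ≫ (ChainComplex.isoHomologyι₀ A).inv) ≫ _ =
      _ ≫ L.pOpcycles 0 ≫ (ChainComplex.isoHomologyι₀ L).inv
    erw [Category.assoc, ChainComplex.isoHomologyι₀_inv_naturality, ← Category.assoc,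
      HomologicalComplex.p_opcyclesMap, Category.assoc]

/-- Sheafification of the alternating face map complex of an augmented simplicial presheaf. -/
theorem quasiIso_sheafify_epsilon
    (hmono : ∀ (U : Cᵒᵖ) (n : ℕ), Mono (HomologicalComplex.homologyMap
      (AlternatingFaceMapComplex.ε.app (((SimplicialObject.Augmented.whiskering _ _).obj
        ((evaluation _ _).obj U : (Cᵒᵖ ⥤ AddCommGrpCat.{u}) ⥤ AddCommGrpCat.{u})).obj X)) n))
    (hhom : Presheaf.IsLocallySurjective J (X.hom.app (op ⦋0⦌))) :
    QuasiIso ((AlternatingFaceMapComplex.ε (C := Sheaf J AddCommGrpCat.{u})).app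
      (((SimplicialObject.Augmented.whiskering _ _).obj
        (presheafToSheaf J AddCommGrpCat.{u})).obj X)) := by
  let P := presheafToSheaf J AddCommGrpCat.{u}
  haveI : P.Additive := Functor.additive_of_preserves_binary_products P
  haveI : PreservesFiniteColimits P := inferInstance
  haveI : P.PreservesHomology := inferInstance
  rw [← HomologicalComplex.mem_quasiIso_iff,
    (HomologicalComplex.quasiIso _ _).arrow_mk_iso_iff (epsilonArrowIso P X),
    HomologicalComplex.mem_quasiIso_iff]
  refine ⟨fun n => ?_⟩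
  rw [quasiIsoAt_iff_isIso_homologyMap, ← MorphismProperty.isomorphisms.iff]
  refine (MorphismProperty.isomorphisms _).arrow_mk_iso_iff
    (homologyMapArrowIso P (AlternatingFaceMapComplex.ε.app X) n) |>.2 ?_
  rw [MorphismProperty.isomorphisms.iff, ← J.W_iff]
  haveI := isLocallySurjective_homologyMap_epsilon J X hhom n
  haveI := Presheaf.isLocallyInjective_of_injective J
    (HomologicalComplex.homologyMap (AlternatingFaceMapComplex.ε.app X) n)
    (fun U => injective_homologyMap_epsilon X hmono U n)
  exact J.W_of_isLocallyBijective _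

end general

section cech

variable {C : Type u} [SmallCategory C] (J : GrothendieckTopology C)
  {K' K : Sheaf J (Type u)} (f : K' ⟶ K)

/-- The presheaf level free Čech complex of `f`, as an augmented simplicial object. -/
abbrev cechPre : SimplicialObject.Augmented (Cᵒᵖ ⥤ AddCommGrpCat.{u}) :=
  ((SimplicialObject.Augmented.whiskering _ _).obj (sheafToPresheaf J (Type u) ⋙
    (Functor.whiskeringRight Cᵒᵖ _ _).obj AddCommGrpCat.free.{u})).obj
      (Arrow.mk f).augmentedCechNerve

/-- Evaluation of presheaves of abelian groups. -/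
abbrev evU (U : Cᵒᵖ) : (Cᵒᵖ ⥤ AddCommGrpCat.{u}) ⥤ AddCommGrpCat.{u} := (evaluation _ _).obj U

theorem mono_homologyMap_epsilon_eval (U : Cᵒᵖ) (n : ℕ) :
    Mono (HomologicalComplex.homologyMap (AlternatingFaceMapComplex.ε.app
      (((SimplicialObject.Augmented.whiskering _ _).obj (evU U)).obj (cechPre J f))) n) := by
  let F : Sheaf J (Type u) ⥤ Type u := sheafToPresheaf J (Type u) ⋙ (evaluation _ _).obj U
  let g : K'.obj.obj U ⟶ K.obj.obj U := f.hom.app U
  obtain ⟨R, p, m, hm, hpm, hp⟩ : ∃ (R : Type u) (p : F.obj K' ⟶ R) (m : R ⟶ F.obj K)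
      (_ : Mono m), p ≫ m = F.map f ∧ Function.Surjective p := by
    refine ⟨Set.range g, TypeCat.ofHom (Set.rangeFactorization g), TypeCat.ofHom Subtype.val,
      (mono_iff_injective _).2 Subtype.val_injective, ?_, Set.rangeFactorization_surjective⟩
    ext x
    rfl
  let S : SplitEpi p := ⟨TypeCat.ofHom (Function.surjInv hp), by
    ext x
    exact Function.surjInv_eq hp x⟩
  let Φ := ((SimplicialObject.Augmented.whiskering _ _).obj AddCommGrpCat.free.{u}).map
    (nerveHom (F := F) (f := Arrow.mk f) p m hpm)
  haveI : IsIso Φ.left := by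
    haveI := isIso_nerveHom_left (F := F) (f := Arrow.mk f) p m hpm
    exact (inferInstance : IsIso (((SimplicialObject.whiskering _ _).obj
      AddCommGrpCat.free.{u}).map (nerveHom (F := F) (f := Arrow.mk f) p m hpm).left))
  haveI : Mono Φ.right := mono_free_map m
  exact mono_homologyMap_epsilon Φ
    ((Arrow.AugmentedCechNerve.extraDegeneracy (Arrow.mk p) S).map AddCommGrpCat.free.{u}) n

theorem isLocallySurjective_cechPre_hom [Epi f] :
    Presheaf.IsLocallySurjective J ((cechPre J f).hom.app (op ⦋0⦌)) := by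
  haveI : Presheaf.IsLocallySurjective J f.hom := (Sheaf.isLocallySurjective_iff_epi f).2 ‹_›
  let l : K' ⟶ widePullback.{0} K (fun _ : Fin (0 + 1) => K') (fun _ => f) :=
    WidePullback.lift f (fun _ => 𝟙 K') (fun _ => Category.id_comp f)
  let F : Sheaf J (Type u) ⥤ Cᵒᵖ ⥤ AddCommGrpCat.{u} :=
    sheafToPresheaf J (Type u) ⋙ (Functor.whiskeringRight Cᵒᵖ _ _).obj AddCommGrpCat.free.{u}
  have h3 := isLocallySurjective_free J f.hom
  refine lsFac J (F.map l) (F.map f) ?_ h3
  change F.map l ≫ (F.map (WidePullback.base _) ≫ 𝟙 _) = F.map f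
  erw [Category.comp_id, ← F.map_comp, WidePullback.lift_base]

theorem quasiIso_cechFree [Epi f] :
    QuasiIso ((AlternatingFaceMapComplex.ε (C := Sheaf J AddCommGrpCat.{u})).app
      (((SimplicialObject.Augmented.whiskering _ _).obj
        (Sheaf.composeAndSheafify J AddCommGrpCat.free.{u})).obj
          (Arrow.mk f).augmentedCechNerve)) := by
  exact quasiIso_sheafify_epsilon J (cechPre J f) (fun U n => mono_homologyMap_epsilon_eval J f U n)
    (isLocallySurjective_cechPre_hom J f)

end cech

end Groth.Agent.SiteBase
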