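import Mathlib

/-!
# Applying `Hom(-, F)` to a resolution by objects acyclic for `F`
-/

universe w v u

open CategoryTheory Limits Abelian

noncomputable section

namespace Groth.Agent.SiteBase

variable {A : Type u} [Category.{v} A] [Abelian A]

section resolution

variable {P : ChainComplex A ℕ} {X : A} (π : P ⟶ (ChainComplex.single₀ A).obj X) [QuasiIso π]

omit [QuasiIso π] in
include π in
theorem resolution_d_comp : P.d 1 0 ≫ π.f 0 = 0 := by
  rw [← π.comm 1 0, HomologicalComplex.single_obj_d, comp_zero]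

theorem resolution_exact₀ :
    (ShortComplex.mk (P.d 1 0) (π.f 0) (resolution_d_comp π)).Exact ∧ Epi (π.f 0) := by
  have h := (ShortComplex.quasiIso_iff_of_zeros'
    ((HomologicalComplex.shortComplexFunctor' A (ComplexShape.down ℕ) 1 0 0).map π)
    (P.shape 0 0 (by simp)) rfl rfl).1 ((ChainComplex.quasiIsoAt₀_iff π).1 inferInstance)
  exact h

include π in
theorem resolution_exact_succ (n : ℕ) :
    (ShortComplex.mk _ _ (P.d_comp_d (n + 2) (n + 1) n)).Exact :=
  (P.exactAt_iff' (n + 2) (n + 1) n (by simp) (by simp)).1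
    ((quasiIsoAt_iff_exactAt' π (n + 1) (HomologicalComplex.exactAt_single_obj (ComplexShape.down ℕ) 0 X (n + 1)
      (by omega))).1 inferInstance)

/-- A map out of degree `0` killed by the differential descends. -/
theorem resolution_desc₀ {F : A} (φ : P.X 0 ⟶ F) (h : P.d 1 0 ≫ φ = 0) :
    ∃ ψ : X ⟶ F, π.f 0 ≫ ψ = φ := by
  obtain ⟨he, hepi⟩ := resolution_exact₀ π
  haveI : Epi (ShortComplex.mk (P.d 1 0) (π.f 0) (resolution_d_comp π)).g := hepi
  exact ⟨he.desc φ h, he.g_desc φ h⟩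

variable [HasExt.{w} A] {F : A}

theorem subsingleton_ext_X₁ {S : ShortComplex A} (hS : S.ShortExact) (q : ℕ)
    (h₂ : Subsingleton (Ext S.X₂ F q)) (h₃ : Subsingleton (Ext S.X₃ F (q + 1))) :
    Subsingleton (Ext S.X₁ F q) := by
  refine subsingleton_of_forall_eq 0 fun x => ?_
  obtain ⟨x₂, rfl⟩ := Ext.contravariant_sequence_exact₁ hS F x (add_comm 1 q)
    (Subsingleton.elim _ _)
  rw [Subsingleton.elim x₂ 0, Ext.comp_zero]

theorem exists_extension {S : ShortComplex A} (hS : S.ShortExact)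
    (h₃ : Subsingleton (Ext S.X₃ F 1)) (χ : S.X₁ ⟶ F) : ∃ ψ : S.X₂ ⟶ F, S.f ≫ ψ = χ := by
  obtain ⟨x₂, hx⟩ := Ext.contravariant_sequence_exact₁ hS F (Ext.mk₀ χ) (add_zero 1)
    (Subsingleton.elim _ _)
  obtain ⟨ψ, rfl⟩ := (Ext.mk₀_bijective S.X₂ F).2 x₂
  rw [Ext.mk₀_comp_mk₀] at hx
  exact ⟨ψ, (Ext.mk₀_bijective _ _).1 hx⟩

variable (hP : ∀ n q, Subsingleton (Ext (P.X n) F (q + 1)))
  (hX : ∀ q, Subsingleton (Ext X F (q + 1)))

include π hP hX in
/-- The cycles of a resolution are acyclic and the Hom complex is exact in positive degrees. -/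
theorem hom_resolution_aux : ∀ n : ℕ,
    (∀ q, Subsingleton (Ext (kernel (P.d (n + 1) n)) F (q + 1))) ∧
      (∀ χ : kernel (P.d (n + 1) n) ⟶ F, ∃ ψ : P.X (n + 1) ⟶ F,
        kernel.ι (P.d (n + 1) n) ≫ ψ = χ) ∧
      ∀ φ : P.X (n + 1) ⟶ F, P.d (n + 2) (n + 1) ≫ φ = 0 →
        ∃ ψ : P.X n ⟶ F, P.d (n + 1) n ≫ ψ = φ := by
  obtain ⟨he, hepi⟩ := resolution_exact₀ π
  have key : ∀ (n : ℕ) {Z : A} (i : Z ⟶ P.X n) (p : P.X (n + 1) ⟶ Z), Mono i → Epi p →
      p ≫ i = P.d (n + 1) n → (∀ q, Subsingleton (Ext Z F (q + 1))) →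
      (∀ χ : Z ⟶ F, ∃ ψ : P.X n ⟶ F, i ≫ ψ = χ) →
      (∀ q, Subsingleton (Ext (kernel (P.d (n + 1) n)) F (q + 1))) ∧
        (∀ χ : kernel (P.d (n + 1) n) ⟶ F, ∃ ψ : P.X (n + 1) ⟶ F,
          kernel.ι (P.d (n + 1) n) ≫ ψ = χ) ∧
        ∀ φ : P.X (n + 1) ⟶ F, P.d (n + 2) (n + 1) ≫ φ = 0 →
          ∃ ψ : P.X n ⟶ F, P.d (n + 1) n ≫ ψ = φ := by
    intro n Z i p hi hp hfac hZ hext
    have w : kernel.ι (P.d (n + 1) n) ≫ p = 0 := by
      rw [← cancel_mono i, Category.assoc, hfac, kernel.condition, zero_comp]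
    have hker : (ShortComplex.mk _ _ w).Exact := ShortComplex.exact_of_f_is_kernel _
      (KernelFork.IsLimit.ofι' _ _ fun {W} g hg => ⟨kernel.lift _ g (by
        rw [← hfac, ← Category.assoc, hg, zero_comp]), kernel.lift_ι _ _ _⟩)
    have hS : (ShortComplex.mk _ _ w).ShortExact := { exact := hker }
    refine ⟨fun q => subsingleton_ext_X₁ hS (q + 1) (hP (n + 1) q) (hZ (q + 1)),
      fun χ => exists_extension hS (hZ 0) χ, fun φ hφ => ?_⟩
    have hE : (ShortComplex.mk (P.d (n + 2) (n + 1)) p (by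
        rw [← cancel_mono i, Category.assoc, hfac, P.d_comp_d, zero_comp])).Exact := by
      have h1 := resolution_exact_succ π n
      rw [ShortComplex.exact_iff_exact_up_to_refinements] at h1 ⊢
      intro W x hx
      exact h1 x (by
        change x ≫ P.d (n + 1) n = 0
        exact (congrArg (x ≫ ·) hfac.symm).trans
          ((Category.assoc x p i).symm.trans ((congrArg (· ≫ i) hx).trans zero_comp)))
    haveI : Epi (ShortComplex.mk (P.d (n + 2) (n + 1)) p (by
        rw [← cancel_mono i, Category.assoc, hfac, P.d_comp_d, zero_comp])).g := hp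
    obtain ⟨ψ, hψ⟩ := hext (hE.desc φ hφ)
    exact ⟨ψ, by rw [← hfac, Category.assoc, hψ]; exact hE.g_desc φ hφ⟩
  have w₀ : kernel.ι (π.f 0) ≫ π.f 0 = 0 := kernel.condition _
  have hS₀ : (ShortComplex.mk _ _ w₀).ShortExact :=
    { exact := ShortComplex.exact_of_f_is_kernel _ (kernelIsKernel _)
      epi_g := hepi }
  intro n
  induction n with
  | zero =>
    exact key 0 (kernel.ι (π.f 0)) (kernel.lift _ _ (resolution_d_comp π)) inferInstance
      he.epi_kernelLift (kernel.lift_ι _ _ _)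
      (fun q => subsingleton_ext_X₁ hS₀ (q + 1) (hP 0 q) (hX (q + 1)))
      (fun χ => exists_extension hS₀ (hX 0) χ)
  | succ n ih =>
    have hepi' := (resolution_exact_succ π n).epi_kernelLift
    exact key (n + 1) (kernel.ι (P.d (n + 1) n)) (kernel.lift _ _ (P.d_comp_d _ _ _))
      inferInstance hepi' (kernel.lift_ι _ _ _) ih.1 ih.2.1

include π hP hX in
theorem hom_resolution_exact (n : ℕ) (φ : P.X (n + 1) ⟶ F) (h : P.d (n + 2) (n + 1) ≫ φ = 0) :
    ∃ ψ : P.X n ⟶ F, P.d (n + 1) n ≫ ψ = φ :=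
  (hom_resolution_aux π hP hX n).2.2 φ h

end resolution

end Groth.Agent.SiteBase
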