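import Groth.Prelude.Def_CohCx
import Groth.Agent.SiteBase.CechFree
import Groth.Agent.SiteBase.HomResolution

/-!
# The Čech complex of an abelian sheaf attached to an epimorphism of sheaves of sets
-/

universe u

open CategoryTheory Limits Opposite Simplicial AlgebraicTopology Abelian

noncomputable section

namespace Groth.Agent.SiteBase

variable {C : Type u} [SmallCategory C] {J : GrothendieckTopology C}
  {K' K : Sheaf J (Type u)} (f : K' ⟶ K)

/-- The sheaf level free Čech complex, augmented. -/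
abbrev cechShAug : SimplicialObject.Augmented (Sheaf J AddCommGrpCat.{u}) :=
  ((SimplicialObject.Augmented.whiskering _ _).obj
    (Sheaf.composeAndSheafify J AddCommGrpCat.free.{u})).obj (Arrow.mk f).augmentedCechNerve

/-- The free Čech chain complex. -/
abbrev cechSh : ChainComplex (Sheaf J AddCommGrpCat.{u}) ℕ :=
  AlternatingFaceMapComplex.obj (cechShAug f).left

/-- Its augmentation. -/
abbrev cechShπ : cechSh f ⟶ (ChainComplex.single₀ _).obj (cechShAug f).right :=
  AlternatingFaceMapComplex.ε.app (cechShAug f)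

variable (F : Sheaf J AddCommGrpCat.{u})

theorem sum_hom_apply {A B : AddCommGrpCat.{u}} {ι : Type*} (s : Finset ι) (g : ι → (A ⟶ B))
    (x : A) : (∑ i ∈ s, g i).hom x = ∑ i ∈ s, (g i).hom x :=
  map_sum ({ toFun := fun h => h.hom x, map_zero' := rfl, map_add' := fun _ _ => rfl } :
    (A ⟶ B) →+ B) g s

theorem cechNerveCx_d (n : ℕ) (φ : (cechSh f).X n ⟶ F) :
    (CohCx.cechNerveCx F f).d n (n + 1) φ = (cechSh f).d (n + 1) n ≫ φ := by
  rw [AlternatingFaceMapComplex.obj_d_eq, Preadditive.sum_comp]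
  simp only [Preadditive.zsmul_comp]
  change (((AlternatingCofaceMapComplex.obj ((Arrow.mk f).cechNerve.rightOp ⋙
    CohCx.HK0Functor J F))).d n (n + 1)).hom φ = _
  simp only [AlternatingCofaceMapComplex.obj, CochainComplex.of_d,
    AlternatingCofaceMapComplex.objD]
  exact sum_hom_apply _ (fun i : Fin (n + 2) => (-1 : ℤ) ^ (i : ℕ) •
      CosimplicialObject.δ ((Arrow.mk f).cechNerve.rightOp ⋙ CohCx.HK0Functor J F) i) _

theorem cechNerveAug_apply (φ : (cechShAug f).right ⟶ F) :
    CohCx.cechNerveAug F f φ = (cechShπ f).f 0 ≫ φ := by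
  rw [AlternatingFaceMapComplex.ε_app_f_zero]
  change (presheafToSheaf J AddCommGrpCat.{u}).map _ ≫ φ = ((_ ≫ 𝟙 _) ≫ φ)
  rw [Category.comp_id]
  rfl

theorem isZero_cechNerveCx_homology_iff (n : ℕ) :
    IsZero ((CohCx.cechNerveCx F f).homology (n + 1)) ↔
      ∀ φ : (cechSh f).X (n + 1) ⟶ F, (cechSh f).d (n + 2) (n + 1) ≫ φ = 0 →
        ∃ ψ : (cechSh f).X n ⟶ F, (cechSh f).d (n + 1) n ≫ ψ = φ := by
  rw [← HomologicalComplex.exactAt_iff_isZero_homology,
    (CohCx.cechNerveCx F f).exactAt_iff' n (n + 1) (n + 2) (by simp) (by simp),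
    ShortComplex.ab_exact_iff]
  constructor
  · intro h φ hφ
    obtain ⟨ψ, hψ⟩ := h φ ((cechNerveCx_d f F (n + 1) φ).trans hφ)
    exact ⟨ψ, (cechNerveCx_d f F n ψ).symm.trans hψ⟩
  · intro h φ hφ
    obtain ⟨ψ, hψ⟩ := h φ ((cechNerveCx_d f F (n + 1) φ).symm.trans hφ)
    exact ⟨ψ, (cechNerveCx_d f F n ψ).trans hψ⟩

variable {F}

theorem cech_acyclic [Epi f] (hF : CohCx.IsTotallyAcyclic F) (q : ℕ) :
    IsZero ((CohCx.cechNerveCx F f).homology (q + 1)) := by
  haveI : QuasiIso (cechShπ f) := quasiIso_cechFree J f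
  rw [isZero_cechNerveCx_homology_iff]
  exact hom_resolution_exact (cechShπ f)
    (fun n p => hF ((Arrow.mk f).cechNerve.obj (op ⦋n⦌)) p) (fun p => hF K p) q

end Groth.Agent.SiteBase
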