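import Groth.Agent.SiteBase.CechNerve
import Groth.Agent.SiteBase.CechCriterion
import Groth.Agent.SiteBase.FreeMod
import Groth.Agent.CohColim.Acyclic
import Mathlib.CategoryTheory.Sites.Adjunction
import Mathlib.CategoryTheory.Sites.Pullback

/-!
# Čech exactness and inverse images which commute with fibre products
-/

set_option autoImplicit false
set_option linter.style.haveILetI false
set_option backward.isDefEq.respectTransparency false
set_option backward.isDefEq.respectTransparency.types false

universe v v' u u'

open CategoryTheory Limits Opposite Simplicial AlgebraicTopology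

noncomputable section

namespace Groth.Agent.SiteBase

section wide

variable {A : Type u} [Category.{v} A] {B : Type u'} [Category.{v'} B]
  [HasWidePullbacks.{0} A] [HasWidePullbacks.{0} B] [HasPullbacks A] [HasPullbacks B]
  (F : A ⥤ B) [PreservesLimitsOfShape WalkingCospan F]

/-- The mapped wide pullback is universal. -/
theorem existsUnique_lift_wide : ∀ (n : ℕ) {X : A} (objs : Fin (n + 1) → A)
    (arr : ∀ i, objs i ⟶ X) {W : B} (b : W ⟶ F.obj X) (a : ∀ i, W ⟶ F.obj (objs i)),
    (∀ i, a i ≫ F.map (arr i) = b) →
    ∃! l : W ⟶ F.obj (widePullback X objs arr),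
      ∀ i, l ≫ F.map (WidePullback.π arr i) = a i := by
  intro n
  induction n with
  | zero =>
    intro X objs arr W b a h
    have hall : ∀ i : Fin (0 + 1), i = 0 := fun i => Fin.ext (by omega)
    let s : objs 0 ⟶ widePullback X objs arr :=
      WidePullback.lift (arr 0) (fun i => eqToHom (congrArg objs (hall i).symm)) (fun i => by
        obtain rfl := hall i
        simp)
    have hs : WidePullback.π arr 0 ≫ s = 𝟙 _ := by
      apply WidePullback.hom_ext
      · intro i
        obtain rfl := hall i
        simp [s]
      · simp [s]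
    refine ⟨a 0 ≫ F.map s, fun i => ?_, fun l hl => ?_⟩
    · obtain rfl := hall i
      rw [Category.assoc, ← F.map_comp, WidePullback.lift_π]
      simp
    · rw [← hl 0, Category.assoc, ← F.map_comp, hs, F.map_id, Category.comp_id]
  | succ n ih =>
    intro X objs arr W b a h
    let o' := fun i : Fin (n + 1) => objs i.castSucc
    let arr' := fun i : Fin (n + 1) => arr i.castSucc
    let β : widePullback X o' arr' ⟶ X := WidePullback.base arr'
    let s : pullback β (arr (Fin.last _)) ⟶ widePullback X objs arr :=
      WidePullback.lift (pullback.fst _ _ ≫ β)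
        (Fin.lastCases (motive := fun i => pullback β (arr (Fin.last _)) ⟶ objs i) (pullback.snd _ _)
          fun i => pullback.fst _ _ ≫ WidePullback.π arr' i)
        (Fin.lastCases (by simp [pullback.condition]) fun i => by
          simp only [Fin.lastCases_castSucc, Category.assoc]
          exact congrArg (pullback.fst _ _ ≫ ·) (WidePullback.π_arrow arr' i))
    let v₁ : widePullback X objs arr ⟶ widePullback X o' arr' :=
      WidePullback.lift (WidePullback.base arr) (fun i => WidePullback.π arr i.castSucc)
        (fun i => WidePullback.π_arrow _ _)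
    let v : widePullback X objs arr ⟶ pullback β (arr (Fin.last _)) :=
      pullback.lift v₁ (WidePullback.π arr (Fin.last _)) (by
        simp [v₁, β]
        exact WidePullback.lift_base _ _ _ _)
    have hs : v ≫ s = 𝟙 _ := by
      apply WidePullback.hom_ext
      · refine Fin.lastCases ?_ (fun i => ?_)
        · simp [s, v, WidePullback.lift_π, pullback.lift_snd]
        · simp [s, v, v₁, arr', WidePullback.lift_π, pullback.lift_fst_assoc]
      · simp [s, v, v₁, β, WidePullback.lift_base, pullback.lift_fst_assoc]
        exact WidePullback.lift_base _ _ _ _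
    obtain ⟨l', hl', hu⟩ := ih o' arr' b (fun i => a i.castSucc) (fun i => h _)
    have hb : l' ≫ F.map β = b := by
      rw [← h (0 : Fin (n + 1)).castSucc, ← hl' 0, Category.assoc, ← F.map_comp]
      exact congrArg (fun t => l' ≫ F.map t) (WidePullback.π_arrow arr' 0).symm
    let hP := (IsPullback.of_hasPullback β (arr (Fin.last _))).map F
    let l₀ := hP.lift l' (a (Fin.last _)) (by rw [hb, h])
    refine ⟨l₀ ≫ F.map s, ?_, fun l hl => ?_⟩
    · refine Fin.lastCases ?_ (fun i => ?_)
      · rw [Category.assoc, ← F.map_comp, WidePullback.lift_π, Fin.lastCases_last]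
        exact hP.lift_snd _ _ _
      · rw [Category.assoc, ← F.map_comp, WidePullback.lift_π, Fin.lastCases_castSucc, F.map_comp,
          hP.lift_fst_assoc, hl']
    · have e : l ≫ F.map v = l₀ := by
        refine hP.hom_ext ?_ ?_
        · rw [hP.lift_fst, Category.assoc, ← F.map_comp, pullback.lift_fst]
          refine hu _ fun i => ?_
          show (l ≫ F.map v₁) ≫ F.map (WidePullback.π arr' i) = a i.castSucc
          rw [Category.assoc, ← F.map_comp, WidePullback.lift_π, hl]
        · rw [hP.lift_snd, Category.assoc, ← F.map_comp, pullback.lift_snd, hl]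
      rw [← e, Category.assoc, ← F.map_comp, hs, F.map_id, Category.comp_id]

theorem preservesLimit_wideCospan (n : ℕ) {X : A} (objs : Fin (n + 1) → A)
    (arr : ∀ i, objs i ⟶ X) : PreservesLimit (WidePullbackShape.wideCospan X objs arr) F := by
  refine preservesLimit_of_preserves_limit_cone (limit.isLimit _) ?_
  have key : ∀ s : Cone (WidePullbackShape.wideCospan X objs arr ⋙ F),
      ∀ i, s.π.app (some i) ≫ F.map (arr i) = s.π.app none := fun s i => by
    simpa using s.w (WidePullbackShape.Hom.term i)
  choose l hl hu using fun s : Cone (WidePullbackShape.wideCospan X objs arr ⋙ F) =>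
    existsUnique_lift_wide F n objs arr (s.π.app none) (fun i => s.π.app (some i)) (key s)
  exact
    { lift := l
      fac := fun s j => by
        cases j with
        | none =>
          show l s ≫ F.map (WidePullback.base arr) = _
          rw [← WidePullback.π_arrow arr 0, F.map_comp, ← Category.assoc, hl s 0]
          exact key s 0
        | some i => exact hl s i
      uniq := fun s m hm => hu s m fun i => hm (some i) }

theorem preservesLimitsOfShape_widePullback (n : ℕ) :
    PreservesLimitsOfShape (WidePullbackShape.{0} (Fin (n + 1))) F :=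
  ⟨fun {K} => by
    haveI := preservesLimit_wideCospan F n (fun i => K.obj (some i))
      (fun i => K.map (WidePullbackShape.Hom.term i))
    exact preservesLimit_of_iso_diagram F (WidePullbackShape.diagramIsoWideCospan K).symm⟩

end wide

section cocont

variable {C D : Type u} [SmallCategory C] [SmallCategory D] {J : GrothendieckTopology C}
  {K : GrothendieckTopology D} (w : C ⥤ D) [w.IsContinuous J K]

/-- The inverse image of a free abelian sheaf is free, naturally. -/
def freePullIso : freeShFun J ⋙ w.sheafPullback AddCommGrpCat.{u} J K ≅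
    w.sheafPullback (Type u) J K ⋙ freeShFun K :=
  let adj₁ := (Sheaf.adjunction J AddCommGrpCat.adj.{u}).comp
    (w.sheafAdjunctionContinuous AddCommGrpCat.{u} J K)
  let adj₂ := (w.sheafAdjunctionContinuous (Type u) J K).comp
    (Sheaf.adjunction K AddCommGrpCat.adj.{u})
  let e : sheafCompose K (forget AddCommGrpCat.{u}) ⋙ w.sheafPushforwardContinuous (Type u) J K ≅
      w.sheafPushforwardContinuous AddCommGrpCat.{u} J K ⋙ sheafCompose J (forget AddCommGrpCat.{u}) :=
    NatIso.ofComponents (fun _ => Iso.refl _)
  adj₁.leftAdjointUniq (adj₂.ofNatIsoRight e)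

variable [PreservesLimitsOfShape WalkingCospan (w.sheafPullback (Type u) J K)]

/-- Along an inverse image which commutes with fibre products, restriction preserves Čech
exactness. -/
theorem cechExact_restriction {F : Sheaf K AddCommGrpCat.{u}} (hF : CechExact F) :
    CechExact ((w.sheafPushforwardContinuous AddCommGrpCat.{u} J K).obj F) := by
  intro P' P f hf n φ hφ
  let G := w.sheafPullback (Type u) J K
  let L := w.sheafPullback AddCommGrpCat.{u} J K
  let adj : L ⊣ _ := w.sheafAdjunctionContinuous AddCommGrpCat.{u} J K
  haveI : L.Additive := adj.left_adjoint_additive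
  haveI := (w.sheafAdjunctionContinuous (Type u) J K).leftAdjoint_preservesColimits
  haveI : Epi (G.map f) := inferInstance
  haveI : ∀ m, PreservesLimitsOfShape (WidePullbackShape.{0} (Fin (m + 1))) G :=
    preservesLimitsOfShape_widePullback G
  let Φ := nerveHom (F := G) (f := Arrow.mk f) (G.map f) (𝟙 _) (Category.comp_id _)
  haveI : IsIso Φ.left := isIso_nerveHom_left _ _ _
  let Θ : (cechShAug f).left ⋙ L ≅ (cechShAug (G.map f)).left :=
    Functor.isoWhiskerLeft (Arrow.mk f).cechNerve (freePullIso w) ≪≫
      Functor.isoWhiskerRight (asIso Φ.left).symm (freeShFun K)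
  have comm : ∀ m, L.map ((cechSh f).d (m + 1) m) ≫ Θ.hom.app (op ⦋m⦌) =
      Θ.hom.app (op ⦋m + 1⦌) ≫ (cechSh (G.map f)).d (m + 1) m := fun m => by
    rw [AlternatingFaceMapComplex.obj_d_eq, AlternatingFaceMapComplex.obj_d_eq, L.map_sum,
      Preadditive.sum_comp, Preadditive.comp_sum]
    refine Finset.sum_congr rfl fun i _ => ?_
    rw [L.map_zsmul, Preadditive.zsmul_comp, Preadditive.comp_zsmul]
    exact congrArg (_ • ·) (Θ.hom.naturality (SimplexCategory.δ i).op)
  let φ' := Θ.inv.app (op ⦋n + 1⦌) ≫ (adj.homEquiv _ F).symm φ
  have h0 : (cechSh (G.map f)).d (n + 2) (n + 1) ≫ φ' = 0 := by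
    rw [← cancel_epi (Θ.hom.app (op ⦋n + 1 + 1⦌)), ← Category.assoc, ← comm, comp_zero,
      Category.assoc, Iso.hom_inv_id_app_assoc]
    refine (adj.homEquiv_naturality_left_symm _ φ).symm.trans ?_
    rw [hφ, adj.homEquiv_counit, L.map_zero, zero_comp]
  obtain ⟨ψ', hψ⟩ := hF _ _ (G.map f) inferInstance n φ' h0
  refine ⟨adj.homEquiv _ F (Θ.hom.app (op ⦋n⦌) ≫ ψ'), ?_⟩
  rw [← adj.homEquiv_naturality_left, ← Category.assoc, comm, Category.assoc, hψ]
  show adj.homEquiv _ F (Θ.hom.app _ ≫ Θ.inv.app _ ≫ _) = φ
  rw [Iso.hom_inv_id_app_assoc, Equiv.apply_symm_apply]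

end cocont

end Groth.Agent.SiteBase
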