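import Groth.Prelude.Def_CohCx
import Groth.Agent.SiteBase.CechFree
import Groth.Agent.SiteBase.ExtResolution

/-!
# The free resolution attached to a family of objects over an object
-/

universe u

open CategoryTheory Limits Opposite Simplicial AlgebraicTopology Abelian

noncomputable section

namespace Groth.Agent.SiteBase

variable {C : Type u} [SmallCategory C] {U : C}

/-- The presheaf of sets of a formal coproduct of objects over `U`. -/
def fcPre : FormalCoproduct.{u} (Over.{u, u} U) ⥤ (Cᵒᵖ ⥤ Type u) where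
  obj X :=
    { obj := fun V => Σ i : X.I, (V.unop ⟶ (X.obj i).left)
      map := fun f => TypeCat.ofHom fun z => ⟨z.1, f.unop ≫ z.2⟩
      map_id := fun V => by ext z <;> simp
      map_comp := fun f g => by ext z <;> simp }
  map {X Y} g :=
    { app := fun V => TypeCat.ofHom fun z => ⟨g.f z.1, z.2 ≫ (g.φ z.1).left⟩
      naturality := fun V W f => by ext z <;> simp }
  map_id X := by ext V z <;> simp
  map_comp f g := by ext V z <;> simp

/-- The structural map to the base object. -/
def fcToBase (X : FormalCoproduct.{u} (Over U)) : (fcPre (U := U)).obj X ⟶ yoneda.{u, u}.obj U where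
  app V := TypeCat.ofHom fun z => z.2 ≫ (X.obj z.1).hom
  naturality V W f := by ext z; exact Category.assoc _ _ _

theorem fcToBase_naturality {X Y : FormalCoproduct.{u} (Over U)} (g : X ⟶ Y) :
    (fcPre (U := U)).map g ≫ fcToBase Y = fcToBase X := by
  ext V z
  change (z.2 ≫ (g.φ z.1).left) ≫ (Y.obj (g.f z.1)).hom = z.2 ≫ (X.obj z.1).hom
  rw [Category.assoc, Over.w]

variable [HasPullbacks C] {ι : Type u} (Y : ι → Over U) {Q : Cᵒᵖ ⥤ Type u} (m : Q ⟶ yoneda.{u, u}.obj U)
  [Mono m] (q : (fcPre (U := U)).obj (FormalCoproduct.mk ι Y) ⟶ Q)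
  (hq : q ≫ m = fcToBase (FormalCoproduct.mk ι Y))

/-- The simplicial presheaf of a family. -/
abbrev famNerve : SimplicialObject (Cᵒᵖ ⥤ Type u) :=
  (FormalCoproduct.mk ι Y).cech ⋙ (fcPre (U := U))

/-- Its augmentation to a subpresheaf of the base through which the family factors. -/
def famAug : SimplicialObject.Augmented (Cᵒᵖ ⥤ Type u) where
  left := famNerve Y
  right := Q
  hom :=
    { app := fun n => (fcPre (U := U)).map (FormalCoproduct.powerπ (FormalCoproduct.mk ι Y)
        (α := ToType n.unop) (0 : Fin (n.unop.len + 1))) ≫ q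
      naturality := fun a b g => by
        rw [← cancel_mono m]
        change ((fcPre (U := U)).map ((FormalCoproduct.mk ι Y).cech.map g) ≫ _ ≫ q) ≫ m = ((_ ≫ q) ≫ 𝟙 _) ≫ m
        rw [Category.comp_id]
        simp only [Category.assoc, hq, fcToBase_naturality] }

section pointwise

variable (V : Cᵒᵖ)

/-- The map of types underlying the family, at an object. -/
abbrev famArrow : Arrow (Type u) := Arrow.mk (q.app V)

/-- The projections of the Čech nerve of the map of types. -/
abbrev famπ (n : ℕ) (k : Fin (n + 1)) :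
    widePullback (Q.obj V) (fun _ : Fin (n + 1) => ((fcPre (U := U)).obj (FormalCoproduct.mk ι Y)).obj V)
        (fun _ => q.app V) ⟶ ((fcPre (U := U)).obj (FormalCoproduct.mk ι Y)).obj V :=
  WidePullback.π _ k

/-- The base map of the Čech nerve of the map of types. -/
abbrev famBase (n : ℕ) :
    widePullback (Q.obj V) (fun _ : Fin (n + 1) => ((fcPre (U := U)).obj (FormalCoproduct.mk ι Y)).obj V)
        (fun _ => q.app V) ⟶ Q.obj V :=
  WidePullback.base _

/-- Comparison with the Čech nerve of a map of types. -/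
def famCompApp (n : ℕ) :
    ((famNerve Y).obj (op ⦋n⦌)).obj V ⟶
      widePullback (Q.obj V) (fun _ : Fin (n + 1) => ((fcPre (U := U)).obj (FormalCoproduct.mk ι Y)).obj V)
        (fun _ => q.app V) :=
  WidePullback.lift ((famAug Y m q hq).hom.app (op ⦋n⦌) |>.app V)
    (fun k => ((fcPre (U := U)).map (FormalCoproduct.powerπ (FormalCoproduct.mk ι Y) k)).app V)
    (fun k => by
      haveI : Mono (m.app V) := inferInstance
      rw [← cancel_mono (m.app V)]
      have key : (((fcPre (U := U)).map (FormalCoproduct.powerπ (FormalCoproduct.mk ι Y) k)) ≫ q) ≫ m =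
          (famAug Y m q hq).hom.app (op ⦋n⦌) ≫ m := by
        change (_ ≫ q) ≫ m = (_ ≫ q) ≫ m
        simp only [Category.assoc, hq]
        exact (fcToBase_naturality _).trans (fcToBase_naturality _).symm
      exact congr_app key V)

theorem famCompApp_π (n : ℕ) (k : Fin (n + 1)) (z : ((famNerve Y).obj (op ⦋n⦌)).obj V) :
    famπ Y q V n k (famCompApp Y m q hq V n z) =
      (⟨z.1 k, z.2 ≫ (Pi.π (Y ∘ z.1) k).left⟩ : Σ i : ι, V.unop ⟶ (Y i).left) :=
  ConcreteCategory.congr_hom (WidePullback.lift_π (arrows := fun _ : Fin (n + 1) => q.app V)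
    _ _ _ k) z

theorem famW_ext {n : ℕ}
    {x y : widePullback (Q.obj V)
      (fun _ : Fin (n + 1) => ((fcPre (U := U)).obj (FormalCoproduct.mk ι Y)).obj V)
      (fun _ => q.app V)}
    (h : ∀ k, famπ Y q V n k x = famπ Y q V n k y) : x = y := by
  have e : (TypeCat.ofHom (fun _ : PUnit.{u + 1} => x) : PUnit.{u + 1} ⟶ _) =
      TypeCat.ofHom (fun _ => y) := by
    refine WidePullback.hom_ext (fun _ : Fin (n + 1) => q.app V) _ _ (fun k => ?_) ?_
    · ext _
      exact h k
    · rw [← WidePullback.π_arrow (fun _ : Fin (n + 1) => q.app V) 0]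
      ext _
      exact congrArg (q.app V) (h 0)
  exact ConcreteCategory.congr_hom e PUnit.unit

theorem bijective_famCompApp (n : ℕ) : Function.Bijective (famCompApp Y m q hq V n) := by
  constructor
  · rintro ⟨a, h⟩ ⟨a', h'⟩ e
    have ek : ∀ k, (⟨a k, h ≫ (Pi.π (Y ∘ a) k).left⟩ : Σ i : ι, V.unop ⟶ (Y i).left) =
        ⟨a' k, h' ≫ (Pi.π (Y ∘ a') k).left⟩ := fun k => by
      exact (famCompApp_π Y m q hq V n k ⟨a, h⟩).symm.trans ((congrArg (famπ Y q V n k) e).trans
        (famCompApp_π Y m q hq V n k ⟨a', h'⟩))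
    obtain rfl : a = a' := funext fun k => congrArg Sigma.fst (ek k)
    have ek' : ∀ k, h ≫ (Pi.π (Y ∘ a) k).left = h' ≫ (Pi.π (Y ∘ a) k).left := fun k =>
      eq_of_heq (Sigma.mk.inj_iff.1 (ek k)).2
    have e0 : h ≫ (∏ᶜ Y ∘ a).hom = h' ≫ (∏ᶜ Y ∘ a).hom := by
      refine (congrArg (h ≫ ·) (Over.w (Pi.π (Y ∘ a) (0 : Fin (n + 1)))).symm).trans ?_
      refine ((Category.assoc _ _ _).symm.trans (congrArg (· ≫ _) (ek' 0))).trans ?_
      exact (Category.assoc _ _ _).trans (congrArg (h' ≫ ·) (Over.w (Pi.π (Y ∘ a) (0 : Fin (n + 1)))))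
    have e1 : (Over.homMk h : Over.mk (h ≫ (∏ᶜ Y ∘ a).hom) ⟶ ∏ᶜ Y ∘ a) =
        Over.homMk h' e0.symm := Pi.hom_ext _ _ fun k => by
      ext
      exact ek' k
    exact congrArg (fun t => (⟨a, t⟩ : ((famNerve Y).obj (op ⦋n⦌)).obj V))
      (congrArg Over.Hom.left e1)
  · intro w
    let x : Fin (n + 1) → Σ i : ι, V.unop ⟶ (Y i).left := fun k => famπ Y q V n k w
    let b : V.unop ⟶ U := m.app V (famBase Y q V n w)
    have hx : ∀ k, (x k).2 ≫ (Y (x k).1).hom = b := fun k =>
      (ConcreteCategory.congr_hom (congr_app hq V) (x k)).symm.trans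
        (congrArg (m.app V) (ConcreteCategory.congr_hom
          (WidePullback.π_arrow (fun _ : Fin (n + 1) => q.app V) k) w))
    let hk : ∀ k, Over.mk b ⟶ Y (x k).1 := fun k => Over.homMk (x k).2 (hx k)
    let h : Over.mk b ⟶ ∏ᶜ fun k => Y (x k).1 := Pi.lift hk
    let z : ((famNerve Y).obj (op ⦋n⦌)).obj V := ⟨fun k => (x k).1, h.left⟩
    have hz : ∀ k, famπ Y q V n k (famCompApp Y m q hq V n z) = famπ Y q V n k w := by
      intro k
      rw [famCompApp_π]
      refine Eq.trans ?_ (Sigma.eta (x k))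
      refine congrArg (Sigma.mk (x k).1) ?_
      exact congrArg Over.Hom.left (Pi.lift_π hk k)
    exact ⟨z, famW_ext Y q V hz⟩

/-- The comparison as a natural isomorphism. -/
def famComp : ((SimplicialObject.Augmented.whiskering (Cᵒᵖ ⥤ Type u) (Type u)).obj
      ((evaluation _ _).obj V)).obj (famAug Y m q hq) ⟶
    (famArrow Y q V).augmentedCechNerve where
  left :=
    { app := fun n => famCompApp Y m q hq V n.unop.len
      naturality := fun a b g => by
        ext z
        refine famW_ext Y q V fun k => ?_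
        refine (famCompApp_π Y m q hq V _ k _).trans ?_
        refine Eq.trans ?_ (ConcreteCategory.congr_hom
          (WidePullback.lift_π (arrows := fun _ : Fin (b.unop.len + 1) => q.app V) _ _ _ k)
          (famCompApp Y m q hq V a.unop.len z)).symm
        refine Eq.trans ?_ (famCompApp_π Y m q hq V _ _ z).symm
        exact ConcreteCategory.congr_hom (congr_app ((((fcPre (U := U))).map_comp _ _).symm.trans
          (congrArg (fcPre (U := U)).map (FormalCoproduct.mapPower_π _ _ k))) V) z }
  right := 𝟙 _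
  w := by
    refine NatTrans.ext (funext fun n => ?_)
    change famCompApp Y m q hq V n.unop.len ≫ famBase Y q V n.unop.len = (_ ≫ 𝟙 _) ≫ 𝟙 _
    rw [Category.comp_id, Category.comp_id]
    exact WidePullback.lift_base (arrows := fun _ : Fin (n.unop.len + 1) => q.app V) _ _ _

theorem isIso_famComp_left : IsIso (famComp Y m q hq V).left := by
  haveI : ∀ n, IsIso ((famComp Y m q hq V).left.app n) := fun n =>
    (isIso_iff_bijective _).2 (bijective_famCompApp Y m q hq V _)
  exact NatIso.isIso_of_isIso_app _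

/-- The inverse comparison. -/
def famCompInv : (famArrow Y q V).augmentedCechNerve ⟶
    ((SimplicialObject.Augmented.whiskering (Cᵒᵖ ⥤ Type u) (Type u)).obj
      ((evaluation _ _).obj V)).obj (famAug Y m q hq) :=
  haveI := isIso_famComp_left Y m q hq V
  (Comma.isoMk (asIso (famComp Y m q hq V).left) (Iso.refl _) (famComp Y m q hq V).w).inv

end pointwise

/-- The free simplicial presheaf of a family. -/
abbrev famFree : SimplicialObject.Augmented (Cᵒᵖ ⥤ AddCommGrpCat.{u}) :=
  ((SimplicialObject.Augmented.whiskering _ _).obj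
    ((Functor.whiskeringRight Cᵒᵖ _ _).obj AddCommGrpCat.free.{u})).obj (famAug Y m q hq)

theorem lsFacT (J : GrothendieckTopology C) {A B D : Cᵒᵖ ⥤ Type u} {a : A ⟶ B} {b : B ⟶ D}
    {c : A ⟶ D} (fac : a ≫ b = c) (h : Presheaf.IsLocallySurjective J c) :
    Presheaf.IsLocallySurjective J b :=
  Presheaf.isLocallySurjective_of_isLocallySurjective_fac J fac

theorem mono_famFree (V : Cᵒᵖ) (n : ℕ) :
    Mono (HomologicalComplex.homologyMap (AlternatingFaceMapComplex.ε.app
      (((SimplicialObject.Augmented.whiskering _ _).obj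
        ((evaluation _ _).obj V : (Cᵒᵖ ⥤ AddCommGrpCat.{u}) ⥤ AddCommGrpCat.{u})).obj
          (famFree Y m q hq))) n) := by
  let g := (famArrow Y q V).hom
  obtain ⟨R, p, j, hj, hpm, hp⟩ : ∃ (R : Type u) (p : (famArrow Y q V).left ⟶ R)
      (j : R ⟶ (famArrow Y q V).right) (_ : Mono j), p ≫ j = g ∧ Function.Surjective p := by
    refine ⟨Set.range g, TypeCat.ofHom (Set.rangeFactorization g), TypeCat.ofHom Subtype.val,
      (mono_iff_injective _).2 Subtype.val_injective, ?_, Set.rangeFactorization_surjective⟩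
    ext x
    rfl
  let S : SplitEpi p := ⟨TypeCat.ofHom (Function.surjInv hp), by
    ext x
    exact Function.surjInv_eq hp x⟩
  let Φ := nerveHom (F := 𝟭 (Type u)) (f := famArrow Y q V) p j hpm
  let Θ := famCompInv Y m q hq V
  let W := (SimplicialObject.Augmented.whiskering _ _).obj AddCommGrpCat.free.{u}
  haveI h1 : IsIso (W.map (Φ ≫ Θ)).left := by
    haveI hΦ : IsIso Φ.left :=
      isIso_nerveHom_left (F := 𝟭 (Type u)) (f := famArrow Y q V) p j hpm
    haveI hΘ : IsIso Θ.left := by
      haveI := isIso_famComp_left Y m q hq V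
      exact (inferInstance : IsIso (asIso (famComp Y m q hq V).left).inv)
    haveI : IsIso (Φ.left ≫ Θ.left) := IsIso.comp_isIso' hΦ hΘ
    exact (inferInstance : IsIso (((SimplicialObject.whiskering _ _).obj
      AddCommGrpCat.free.{u}).map (Φ.left ≫ Θ.left)))
  haveI h2 : Mono (W.map (Φ ≫ Θ)).right := by
    haveI : Mono Φ.right := inferInstanceAs (Mono j)
    haveI : Mono Θ.right := by
      change Mono (Iso.refl (Q.obj V)).inv
      infer_instance
    haveI : Mono (Φ ≫ Θ).right := @mono_comp _ _ _ _ _ Φ.right ‹_› Θ.right ‹_›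
    exact mono_free_map _
  exact mono_homologyMap_epsilon (W.map (Φ ≫ Θ))
    ((Arrow.AugmentedCechNerve.extraDegeneracy (Arrow.mk p) S).map AddCommGrpCat.free.{u}) n

variable (J : GrothendieckTopology C) [Presheaf.IsLocallySurjective J q]

/-- The free resolution of `Z[Q]` attached to a family. -/
abbrev famSh : SimplicialObject.Augmented (Sheaf J AddCommGrpCat.{u}) :=
  ((SimplicialObject.Augmented.whiskering _ _).obj (presheafToSheaf J AddCommGrpCat.{u})).obj
    (famFree Y m q hq)

instance quasiIso_famSh : QuasiIso (AlternatingFaceMapComplex.ε.app (famSh Y m q hq J)) := by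
  refine quasiIso_sheafify_epsilon J _ (mono_famFree Y m q hq) ?_
  haveI : Presheaf.IsLocallySurjective J ((famAug Y m q hq).hom.app (op ⦋0⦌)) := by
    let l : FormalCoproduct.mk ι Y ⟶ (FormalCoproduct.mk ι Y).power (Fin (0 + 1)) :=
      { f := fun i _ => i
        φ := fun i => Pi.lift fun _ => 𝟙 _ }
    have hl : l ≫ FormalCoproduct.powerπ _ (0 : Fin (0 + 1)) = 𝟙 _ := by
      refine FormalCoproduct.hom_ext rfl fun i => ?_
      exact (Category.comp_id _).trans (Pi.lift_π (fun _ : Fin (0 + 1) => 𝟙 (Y i)) 0)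
    refine lsFacT J (a := (fcPre (U := U)).map l) (c := q) ?_ (by assumption)
    change (fcPre (U := U)).map l ≫ (fcPre (U := U)).map _ ≫ q = q
    refine (Category.assoc _ _ _).symm.trans ?_
    refine (congrArg (· ≫ q) (((fcPre (U := U)).map_comp _ _).symm.trans
      ((congrArg (fcPre (U := U)).map hl).trans ((fcPre (U := U)).map_id _)))).trans (Category.id_comp q)
  have := isLocallySurjective_free J ((famAug Y m q hq).hom.app (op ⦋0⦌))
  refine lsComp J this ?_
  have hi := ((Functor.constComp SimplexCategoryᵒᵖ (famAug Y m q hq).right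
    ((Functor.whiskeringRight Cᵒᵖ _ _).obj AddCommGrpCat.free.{u})).app (op ⦋0⦌)).isIso_hom
  exact @Presheaf.isLocallySurjective_of_iso _ _ J _ _ _ _ _ _ _ _ _ hi

end Groth.Agent.SiteBase
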