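import Groth.Agent.SiteBase.FamilyCech
import Groth.Agent.SiteBase.Resolution

/-!
# The Čech complex of a family computes Ext out of the free sheaf
-/

universe u

open CategoryTheory Limits Opposite Simplicial AlgebraicTopology Abelian

noncomputable section

namespace Groth.Agent.SiteBase

variable {C : Type u} [SmallCategory C] {U : C} (J : GrothendieckTopology C)

/-- The free abelian sheaf on a formal coproduct of objects over `U`. -/
abbrev fcSh (X : FormalCoproduct.{u} (Over U)) : Sheaf J AddCommGrpCat.{u} :=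
  (presheafToSheaf J AddCommGrpCat.{u}).obj ((fcPre (U := U)).obj X ⋙ AddCommGrpCat.free.{u})

variable {J}

/-- Evaluation of a morphism out of the free sheaf on the components. -/
def fcEval (X : FormalCoproduct.{u} (Over U)) (F : Sheaf J AddCommGrpCat.{u}) :
    (fcSh J X ⟶ F) →+ ((i : X.I) → F.obj.obj (op (X.obj i).left)) :=
  AddMonoidHom.mk'
    (fun φ i => φ.hom.app _ ((toSheafify J ((fcPre (U := U)).obj X ⋙ AddCommGrpCat.free.{u})).app
      (op (X.obj i).left) (FreeAbelianGroup.of ⟨i, 𝟙 _⟩)))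
    fun _ _ => rfl

theorem fcEval_injective (X : FormalCoproduct.{u} (Over U)) (F : Sheaf J AddCommGrpCat.{u}) :
    Function.Injective (fcEval X F) := by
  rw [injective_iff_map_eq_zero]
  intro φ hφ
  ext1
  refine sheafify_hom_ext J _ _ F.property ?_
  refine NatTrans.ext (funext fun V => ?_)
  refine AddCommGrpCat.hom_ext (FreeAbelianGroup.lift_ext _ _ fun z => ?_)
  obtain ⟨i, h⟩ := z
  have hnat := ConcreteCategory.congr_hom
    ((toSheafify J ((fcPre (U := U)).obj X ⋙ AddCommGrpCat.free.{u}) ≫ φ.hom).naturality h.op)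
    (FreeAbelianGroup.of ⟨i, 𝟙 _⟩)
  have e : ((fcPre (U := U)).obj X ⋙ AddCommGrpCat.free.{u}).map h.op
      (FreeAbelianGroup.of ⟨i, 𝟙 _⟩) = FreeAbelianGroup.of ⟨i, h⟩ := by
    change FreeAbelianGroup.map _ (FreeAbelianGroup.of _) = _
    rw [FreeAbelianGroup.map_of_apply]
    exact congrArg FreeAbelianGroup.of (congrArg (Sigma.mk i) (Category.comp_id h))
  refine ((congrArg ((toSheafify J ((fcPre (U := U)).obj X ⋙ AddCommGrpCat.free.{u}) ≫
    φ.hom).app V) e.symm).trans hnat).trans ?_
  exact (congrArg (F.obj.map h.op) (congrFun hφ i)).trans (map_zero _)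

theorem fcEval_surjective (X : FormalCoproduct.{u} (Over U)) (F : Sheaf J AddCommGrpCat.{u}) :
    Function.Surjective (fcEval X F) := by
  intro s
  let ψ : (fcPre (U := U)).obj X ⋙ AddCommGrpCat.free.{u} ⟶ F.obj :=
    { app := fun V => AddCommGrpCat.ofHom
        (FreeAbelianGroup.lift fun z => F.obj.map z.2.op (s z.1))
      naturality := fun V W f => by
        refine AddCommGrpCat.hom_ext (FreeAbelianGroup.lift_ext _ _ fun z => ?_)
        change FreeAbelianGroup.lift _ (FreeAbelianGroup.map _ (FreeAbelianGroup.of z)) =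
          F.obj.map f (FreeAbelianGroup.lift _ (FreeAbelianGroup.of z))
        rw [FreeAbelianGroup.map_of_apply, FreeAbelianGroup.lift_apply_of,
          FreeAbelianGroup.lift_apply_of]
        exact ConcreteCategory.congr_hom (F.obj.map_comp z.2.op f) (s z.1) }
  refine ⟨⟨sheafifyLift J ψ F.property⟩, funext fun i => ?_⟩
  refine (ConcreteCategory.congr_hom (congr_app (toSheafify_sheafifyLift J ψ F.property) _) _).trans ?_
  exact (FreeAbelianGroup.lift_apply_of _ _).trans (ConcreteCategory.congr_hom (F.obj.map_id _) (s i))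

theorem fcEval_comp (X : FormalCoproduct.{u} (Over U)) {F G : Sheaf J AddCommGrpCat.{u}}
    (φ : fcSh J X ⟶ F) (g : F ⟶ G) (i : X.I) :
    fcEval X G (φ ≫ g) i = g.hom.app _ (fcEval X F φ i) := rfl

theorem fcEval_map {X X' : FormalCoproduct.{u} (Over U)} (g : X ⟶ X')
    {F : Sheaf J AddCommGrpCat.{u}} (φ : fcSh J X' ⟶ F) (i : X.I) :
    fcEval X F ((presheafToSheaf J AddCommGrpCat.{u}).map
        (Functor.whiskerRight ((fcPre (U := U)).map g) AddCommGrpCat.free.{u}) ≫ φ) i =
      F.obj.map (g.φ i).left.op (fcEval X' F φ (g.f i)) := by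
  have h1 := ConcreteCategory.congr_hom (congr_app (toSheafify_naturality J
    (Functor.whiskerRight ((fcPre (U := U)).map g) AddCommGrpCat.free.{u})) (op (X.obj i).left))
    (FreeAbelianGroup.of ⟨i, 𝟙 _⟩)
  refine (congrArg (φ.hom.app _) h1.symm).trans ?_
  have e : (Functor.whiskerRight ((fcPre (U := U)).map g) AddCommGrpCat.free.{u}).app
      (op (X.obj i).left) (FreeAbelianGroup.of ⟨i, 𝟙 _⟩) =
      ((fcPre (U := U)).obj X' ⋙ AddCommGrpCat.free.{u}).map (g.φ i).left.op
        (FreeAbelianGroup.of ⟨g.f i, 𝟙 _⟩) := by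
    change FreeAbelianGroup.map _ (FreeAbelianGroup.of _) =
      FreeAbelianGroup.map _ (FreeAbelianGroup.of _)
    rw [FreeAbelianGroup.map_of_apply, FreeAbelianGroup.map_of_apply]
    exact congrArg FreeAbelianGroup.of
      (congrArg (Sigma.mk (g.f i)) ((Category.id_comp _).trans (Category.comp_id _).symm))
  exact (congrArg ((toSheafify J ((fcPre (U := U)).obj X' ⋙ AddCommGrpCat.free.{u}) ≫ φ.hom).app _)
    e).trans (ConcreteCategory.congr_hom ((toSheafify J _ ≫ φ.hom).naturality _) _)

/-- Cohomology vanishing on the components makes the free sheaf acyclic. -/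
theorem fcSh_acyclic (X : FormalCoproduct.{u} (Over U)) (F : Sheaf J AddCommGrpCat.{u})
    (h : ∀ (i : X.I) (q : ℕ), Subsingleton (CohSite.HU F (q + 1) (X.obj i).left)) (q : ℕ) :
    Subsingleton (Ext.{u} (fcSh J X) F (q + 1)) := by
  induction q generalizing F with
  | zero =>
    obtain ⟨S, hS, rfl, hI⟩ := exists_injective_presentation F
    haveI := hI
    refine subsingleton_of_forall_eq 0 fun x => ?_
    obtain ⟨x₃, rfl⟩ := Ext.covariant_sequence_exact₁ _ hS x
      (Ext.eq_zero_of_injective _) (zero_add 1)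
    obtain ⟨s, rfl⟩ := (Ext.mk₀_bijective _ _).2 x₃
    choose t ht using fun i => sections_surjective hS (X.obj i).left (h i 0) (fcEval X _ s i)
    obtain ⟨φ, hφ⟩ := fcEval_surjective X S.X₂ t
    have : φ ≫ S.g = s := fcEval_injective X _ (funext fun i => by
      rw [fcEval_comp, hφ]
      exact ht i)
    rw [← this, ← Ext.mk₀_comp_mk₀, Ext.comp_assoc_of_second_deg_zero,
      ShortComplex.ShortExact.comp_extClass, Ext.comp_zero]
  | succ q ih =>
    obtain ⟨S, hS, rfl, hI⟩ := exists_injective_presentation F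
    haveI := hI
    haveI := ih S.X₃ fun i p => subsingleton_quot hS _ (p + 1) (subsingleton_of_injective _ _ p)
      (h i (p + 1))
    refine subsingleton_of_forall_eq 0 fun x => ?_
    obtain ⟨x₃, rfl⟩ := Ext.covariant_sequence_exact₁ _ hS x
      (Ext.eq_zero_of_injective _) rfl
    rw [Subsingleton.elim x₃ 0, Ext.zero_comp]

variable [HasPullbacks C] {ι : Type u} (Y : ι → Over U)

/-- Mathlib's Čech complex. -/
abbrev famCx (F : Sheaf J AddCommGrpCat.{u}) : CochainComplex AddCommGrpCat.{u} ℕ :=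
  (cechComplexFunctor Y).obj ((Over.forget U).op ⋙ F.obj)

/-- The components in degree `n`. -/
abbrev famObj (n : ℕ) : FormalCoproduct.{u} (Over U) :=
  (FormalCoproduct.mk ι Y).cech.obj (op ⦋n⦌)

variable (J) in
/-- The free chain complex of the family. -/
abbrev famChain : ChainComplex (Sheaf J AddCommGrpCat.{u}) ℕ :=
  AlternatingFaceMapComplex.obj
    (((SimplicialObject.whiskering _ _).obj
      ((Functor.whiskeringRight Cᵒᵖ _ _).obj AddCommGrpCat.free.{u} ⋙
        presheafToSheaf J AddCommGrpCat.{u})).obj (famNerve Y))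

variable (F : Sheaf J AddCommGrpCat.{u})

/-- The projections of the Čech complex. -/
abbrev famProj (n : ℕ) (i : (famObj Y n).I) :
    (famCx Y F).X n ⟶ F.obj.obj (op ((famObj Y n).obj i).left) :=
  Pi.π (fun i : (famObj Y n).I => F.obj.obj (op ((famObj Y n).obj i).left)) i

/-- The components of a morphism out of the free complex. -/
def famComponent (n : ℕ) (i : (famObj Y n).I) :
    AddCommGrpCat.of ((famChain J Y).X n ⟶ F) ⟶ F.obj.obj (op ((famObj Y n).obj i).left) :=
  AddCommGrpCat.ofHom ((Pi.evalAddMonoidHom _ i).comp (fcEval (famObj Y n) F))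

/-- Morphisms out of the free complex as cochains, as a morphism. -/
def famHomMor (n : ℕ) : AddCommGrpCat.of ((famChain J Y).X n ⟶ F) ⟶ (famCx Y F).X n :=
  Pi.lift (famComponent Y F n)

/-- Morphisms out of the free complex are Čech cochains. -/
def famHom (n : ℕ) : ((famChain J Y).X n ⟶ F) →+ ((famCx Y F).X n : Type u) :=
  (famHomMor Y F n).hom

theorem famProj_famHom (n : ℕ) (φ : (famChain J Y).X n ⟶ F) (i : (famObj Y n).I) :
    famProj Y F n i (famHom Y F n φ) = fcEval (famObj Y n) F φ i :=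
  ConcreteCategory.congr_hom (Pi.lift_π (famComponent Y F n) i) φ

theorem famCx_ext (n : ℕ) {x y : (famCx Y F).X n}
    (h : ∀ i, famProj Y F n i x = famProj Y F n i y) : x = y := by
  refine Concrete.limit_ext
    (Discrete.functor fun i : (famObj Y n).I => F.obj.obj (op ((famObj Y n).obj i).left)) x y
    fun j => ?_
  exact h j.as

theorem famHom_bijective (n : ℕ) : Function.Bijective (famHom Y F n) := by
  constructor
  · intro φ ψ e
    refine fcEval_injective (famObj Y n) F (funext fun i => ?_)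
    rw [← famProj_famHom, ← famProj_famHom, e]
  · intro x
    obtain ⟨φ, hφ⟩ := fcEval_surjective (famObj Y n) F fun i => famProj Y F n i x
    exact ⟨φ, famCx_ext Y F n fun i => (famProj_famHom Y F n φ i).trans (congrFun hφ i)⟩

theorem fam_sum_apply {A B : AddCommGrpCat.{u}} {κ : Type*} (s : Finset κ) (g : κ → (A ⟶ B))
    (x : A) : (∑ i ∈ s, g i).hom x = ∑ i ∈ s, (g i).hom x :=
  map_sum ({ toFun := fun h => h.hom x, map_zero' := rfl, map_add' := fun _ _ => rfl } :
    (A ⟶ B) →+ B) g s

theorem fam_zsmul_apply {A B : AddCommGrpCat.{u}} (k : ℤ) (g : A ⟶ B) (x : A) :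
    (k • g).hom x = k • g.hom x :=
  map_zsmul ({ toFun := fun h => h.hom x, map_zero' := rfl, map_add' := fun _ _ => rfl } :
    (A ⟶ B) →+ B) k g

theorem famHom_d (n : ℕ) (φ : (famChain J Y).X n ⟶ F) :
    (famCx Y F).d n (n + 1) (famHom Y F n φ) = famHom Y F (n + 1) ((famChain J Y).d (n + 1) n ≫ φ) := by
  rw [AlternatingFaceMapComplex.obj_d_eq, Preadditive.sum_comp, map_sum]
  simp only [Preadditive.zsmul_comp, map_zsmul]
  change ((AlternatingCofaceMapComplex.obj
    ((FormalCoproduct.cosimplicialObjectFunctor (FormalCoproduct.mk ι Y).cech).obj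
      ((Over.forget U).op ⋙ F.obj))).d n (n + 1)).hom (famHom Y F n φ) = _
  simp only [AlternatingCofaceMapComplex.obj, CochainComplex.of_d, AlternatingCofaceMapComplex.objD]
  refine (fam_sum_apply _ _ _).trans (Finset.sum_congr rfl fun j _ => ?_)
  refine (fam_zsmul_apply _ _ _).trans (congrArg ((-1 : ℤ) ^ (j : ℕ) • ·) ?_)
  refine famCx_ext Y F (n + 1) fun i => ?_
  refine Eq.trans ?_ (famProj_famHom Y F (n + 1) _ i).symm
  refine Eq.trans ?_ (fcEval_map ((FormalCoproduct.mk ι Y).cech.map (SimplexCategory.δ j).op) φ i).symm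
  refine (ConcreteCategory.congr_hom (Pi.lift_π
    (f := fun i : (famObj Y (n + 1)).I => F.obj.obj (op ((famObj Y (n + 1)).obj i).left)) _ i)
      (famHom Y F n φ)).trans ?_
  exact congrArg (F.obj.map _) (famProj_famHom Y F n φ _)

/-- Čech cocycles of the family. -/
theorem famCx_exact_iff (n : ℕ) :
    IsZero ((famCx Y F).homology (n + 1)) ↔
      ∀ φ : (famChain J Y).X (n + 1) ⟶ F, (famChain J Y).d (n + 2) (n + 1) ≫ φ = 0 →
        ∃ ψ : (famChain J Y).X n ⟶ F, (famChain J Y).d (n + 1) n ≫ ψ = φ := by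
  rw [← HomologicalComplex.exactAt_iff_isZero_homology,
    (famCx Y F).exactAt_iff' n (n + 1) (n + 2) (by simp) (by simp), ShortComplex.ab_exact_iff]
  constructor
  · intro h φ hφ
    obtain ⟨x, hx⟩ := h (famHom Y F (n + 1) φ)
      ((famHom_d Y F (n + 1) φ).trans ((congrArg _ hφ).trans (map_zero _)))
    obtain ⟨ψ, rfl⟩ := (famHom_bijective Y F n).2 x
    exact ⟨ψ, (famHom_bijective Y F (n + 1)).1 ((famHom_d Y F n ψ).symm.trans hx)⟩
  · intro h x hx
    obtain ⟨φ, rfl⟩ := (famHom_bijective Y F (n + 1)).2 x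
    obtain ⟨ψ, hψ⟩ := h φ ((famHom_bijective Y F (n + 2)).1
      (((famHom_d Y F (n + 1) φ).symm.trans hx).trans (map_zero _).symm))
    exact ⟨famHom Y F n ψ, (famHom_d Y F n ψ).trans (congrArg _ hψ)⟩

section resolution

variable {Q : Cᵒᵖ ⥤ Type u} (m : Q ⟶ yoneda.{u, u}.obj U) [Mono m]
  (q : (fcPre (U := U)).obj (FormalCoproduct.mk ι Y) ⟶ Q)
  (hq : q ≫ m = fcToBase (FormalCoproduct.mk ι Y)) (hls : Presheaf.IsLocallySurjective J q)

include hq hls

variable (J) in
/-- The resolution. -/
def famRes : SeqResolution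
    ((presheafToSheaf J AddCommGrpCat.{u}).obj (Q ⋙ AddCommGrpCat.free.{u})) :=
  @seqResolution _ _ _ _ _ (AlternatingFaceMapComplex.ε.app (famSh Y m q hq J))
    (@quasiIso_famSh _ _ _ _ _ Y _ m _ q hq J hls)

variable {F}

theorem famRes_acyclic
    (hF : ∀ (p : ℕ) (a : (famObj Y p).I) (r : ℕ),
      Subsingleton (CohSite.HU F (r + 1) ((famObj Y p).obj a).left))
    (j r : ℕ) : Subsingleton (Ext.{u} ((famRes J Y m q hq hls).P j) F (r + 1)) :=
  fcSh_acyclic (famObj Y j) F (hF j) r

theorem isZero_cech_of_acyclic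
    (hF : ∀ (p : ℕ) (a : (famObj Y p).I) (r : ℕ),
      Subsingleton (CohSite.HU F (r + 1) ((famObj Y p).obj a).left))
    (n : ℕ)
    (hQ : Subsingleton (Ext.{u}
      ((presheafToSheaf J AddCommGrpCat.{u}).obj (Q ⋙ AddCommGrpCat.free.{u})) F (n + 1))) :
    IsZero ((famCx Y F).homology (n + 1)) := by
  rw [famCx_exact_iff]
  intro φ hφ
  obtain ⟨c, -, hker⟩ := SeqResolution.exists_class n (famRes J Y m q hq hls) F
    (famRes_acyclic Y m q hq hls hF)
  exact (hker ⟨φ, hφ⟩).1 (Subsingleton.elim (h := hQ) _ _)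

/-- The Čech cohomology of an acyclic family is Ext. -/
theorem nonempty_cech_equiv
    (hF : ∀ (p : ℕ) (a : (famObj Y p).I) (r : ℕ),
      Subsingleton (CohSite.HU F (r + 1) ((famObj Y p).obj a).left))
    (p : ℕ) :
    Nonempty ((famCx Y F).homology p ≃+ Ext.{u}
      ((presheafToSheaf J AddCommGrpCat.{u}).obj (Q ⋙ AddCommGrpCat.free.{u})) F p) := by
  let R := famRes J Y m q hq hls
  cases p with
  | zero =>
    haveI := hls
    haveI := quasiIso_famSh Y m q hq J
    let π := AlternatingFaceMapComplex.ε.app (famSh Y m q hq J)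
    haveI : Epi R.ε := R.epi
    let g : Ext.{u} ((presheafToSheaf J AddCommGrpCat.{u}).obj (Q ⋙ AddCommGrpCat.free.{u})) F 0 →+
        ((famCx Y F).X 0 : Type u) :=
      ((famHom Y F 0).comp (Preadditive.leftComp F R.ε)).comp Ext.addEquiv₀.toAddMonoidHom
    have hg : Function.Injective g := fun a b e =>
      Ext.addEquiv₀.injective ((cancel_epi R.ε).1 ((famHom_bijective Y F 0).1 e))
    have hgd : ∀ a, (famCx Y F).d 0 1 (g a) = 0 := fun a =>
      (famHom_d Y F 0 _).trans ((congrArg _ ((Category.assoc _ _ _).symm.trans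
        ((congrArg (· ≫ _) R.w₀).trans zero_comp))).trans (map_zero _))
    have hsurj : ∀ x, (famCx Y F).d 0 1 x = 0 → ∃ a, g a = x := by
      intro x hx
      obtain ⟨φ, rfl⟩ := (famHom_bijective Y F 0).2 x
      have hφ : R.d 0 ≫ φ = 0 := (famHom_bijective Y F 1).1
        (((famHom_d Y F 0 φ).symm.trans hx).trans (map_zero _).symm)
      haveI : Epi (ShortComplex.mk (R.d 0) R.ε R.w₀).g := R.epi
      refine ⟨Ext.addEquiv₀.symm (R.exact₀.desc φ hφ), ?_⟩
      change famHom Y F 0 (R.ε ≫ Ext.addEquiv₀ (Ext.addEquiv₀.symm (R.exact₀.desc φ hφ))) = _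
      rw [AddEquiv.apply_symm_apply]
      exact congrArg _ (R.exact₀.g_desc φ hφ)
    exact ⟨((((CochainComplex.isoHomologyπ₀ (famCx Y F)).symm) ≪≫
      ((famCx Y F).sc 0).abCyclesIso).addCommGroupIsoToAddEquiv.trans
        (AddEquiv.ofBijective (g.codRestrict (AddMonoidHom.ker ((famCx Y F).sc 0).g.hom)
          (fun a => by
            change (famCx Y F).d 0 ((ComplexShape.up ℕ).next 0) (g a) = 0
            rw [CochainComplex.next]
            exact hgd a))
          ⟨fun a b e => hg (congrArg Subtype.val e), fun x => by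
            obtain ⟨a, ha⟩ := hsurj x.1 (by
              have := x.2
              change (famCx Y F).d 0 ((ComplexShape.up ℕ).next 0) x.1 = 0 at this
              rwa [CochainComplex.next] at this)
            exact ⟨a, Subtype.ext ha⟩⟩).symm)⟩
  | succ n =>
    obtain ⟨c, hc, hker⟩ := SeqResolution.exists_class n R F (famRes_acyclic Y m q hq hls hF)
    let S := (famCx Y F).sc' n (n + 1) (n + 2)
    let f : R.cocycles F n →+ AddMonoidHom.ker S.g.hom :=
      ((famHom Y F (n + 1)).comp (R.cocycles F n).subtype).codRestrict _ fun φ =>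
        (famHom_d Y F (n + 1) φ.1).trans ((congrArg _ φ.2).trans (map_zero _))
    have hf : Function.Bijective f := ⟨fun a b e =>
      Subtype.ext ((famHom_bijective Y F (n + 1)).1 (congrArg Subtype.val e)), fun x => by
        obtain ⟨φ, hφ⟩ := (famHom_bijective Y F (n + 1)).2 x.1
        refine ⟨⟨φ, (famHom_bijective Y F (n + 2)).1 ?_⟩, Subtype.ext hφ⟩
        exact ((famHom_d Y F (n + 1) φ).symm.trans ((congrArg _ hφ).trans x.2)).trans
          (map_zero _).symm⟩
    let e := AddEquiv.ofBijective f hf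
    let c' : AddMonoidHom.ker S.g.hom →+ _ := c.comp e.symm.toAddMonoidHom
    have hc' : Function.Surjective c' := hc.comp e.symm.surjective
    have hr : S.abToCycles.range = c'.ker := by
      ext x
      obtain ⟨φ, rfl⟩ := e.surjective x
      rw [AddMonoidHom.mem_ker]
      change _ ↔ c (e.symm (e φ)) = 0
      rw [AddEquiv.symm_apply_apply, hker]
      constructor
      · rintro ⟨y, hy⟩
        obtain ⟨ψ, rfl⟩ := (famHom_bijective Y F n).2 y
        exact ⟨ψ, (famHom_bijective Y F (n + 1)).1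
          ((famHom_d Y F n ψ).symm.trans (congrArg Subtype.val hy))⟩
      · rintro ⟨ψ, hψ⟩
        exact ⟨famHom Y F n ψ, Subtype.ext ((famHom_d Y F n ψ).trans (congrArg _ hψ))⟩
    exact ⟨((ShortComplex.homologyMapIso ((famCx Y F).isoSc' n (n + 1) (n + 2) (by simp)
      (by simp))) ≪≫ S.abHomologyIso).addCommGroupIsoToAddEquiv.trans
        ((QuotientAddGroup.quotientAddEquivOfEq hr).trans
          (QuotientAddGroup.quotientKerEquivOfSurjective c' hc'))⟩

end resolution

end Groth.Agent.SiteBase
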