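import Groth.Agent.SiteBase.FamilyCechMap

/-!
# The free resolution attached to the image of a family under a functor preserving fibre products
-/

universe u

open CategoryTheory Limits Opposite Simplicial AlgebraicTopology Abelian

noncomputable section

namespace Groth.Agent.SiteBase

variable {C D : Type u} [SmallCategory C] [SmallCategory D] [HasPullbacks C]
  (u : C ⥤ D) [PreservesLimitsOfShape WalkingCospan u] {U : C}

/-- Formal coproducts over `U` as presheaves on the target. -/
abbrev fcPre' : FormalCoproduct.{u} (Over U) ⥤ (Dᵒᵖ ⥤ Type u) :=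
  fcPost u ⋙ fcPre (U := u.obj U)

/-- The mapped fan of a product is a product. -/
def postFanIsLimit {n : ℕ} (f : Fin n → Over U) :
    IsLimit (Fan.mk ((Over.post u).obj (∏ᶜ f)) fun k => (Over.post u).map (Pi.π f k)) :=
  haveI := preservesFiniteProducts_post u (U := U)
  isLimitFanMkObjOfIsLimit (Over.post u) f _ (productIsProduct f)

theorem fcToBase'_naturality {X Y : FormalCoproduct.{u} (Over U)} (g : X ⟶ Y) :
    (fcPre' u).map g ≫ fcToBase ((fcPost u).obj Y) = fcToBase ((fcPost u).obj X) :=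
  fcToBase_naturality ((fcPost u).map g)

variable {ι : Type u} (Y : ι → Over U)

/-- The map to the base. -/
abbrev famQ : (fcPre' u).obj (FormalCoproduct.mk ι Y) ⟶ yoneda.{u, u}.obj (u.obj U) :=
  fcToBase ((fcPost u).obj (FormalCoproduct.mk ι Y))

/-- The simplicial presheaf of the image of a family. -/
abbrev famNerveP : SimplicialObject (Dᵒᵖ ⥤ Type u) :=
  (FormalCoproduct.mk ι Y).cech ⋙ (fcPre' u)

/-- Its augmentation to a subpresheaf of the base through which the family factors. -/
def famAugP : SimplicialObject.Augmented (Dᵒᵖ ⥤ Type u) where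
  left := famNerveP u Y
  right := yoneda.{u, u}.obj (u.obj U)
  hom :=
    { app := fun n => (fcPre' u).map (FormalCoproduct.powerπ (FormalCoproduct.mk ι Y)
        (α := ToType n.unop) (0 : Fin (n.unop.len + 1))) ≫ famQ u Y
      naturality := fun a b g => by
        change (fcPre' u).map ((FormalCoproduct.mk ι Y).cech.map g) ≫ _ ≫ famQ u Y = (_ ≫ famQ u Y) ≫ 𝟙 _
        rw [Category.comp_id]
        exact ((congrArg ((fcPre' u).map ((FormalCoproduct.mk ι Y).cech.map g) ≫ ·)
          (fcToBase'_naturality u _)).trans (fcToBase'_naturality u _)).trans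
          (fcToBase'_naturality u _).symm }

section pointwise

variable (V : Dᵒᵖ)

/-- The map of types underlying the family, at an object. -/
abbrev famArrowP : Arrow (Type u) := Arrow.mk ((famQ u Y).app V)

/-- The projections of the Čech nerve of the map of types. -/
abbrev famπP (n : ℕ) (k : Fin (n + 1)) :
    widePullback ((yoneda.{u, u}.obj (u.obj U)).obj V) (fun _ : Fin (n + 1) => ((fcPre' u).obj (FormalCoproduct.mk ι Y)).obj V)
        (fun _ => (famQ u Y).app V) ⟶ ((fcPre' u).obj (FormalCoproduct.mk ι Y)).obj V :=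
  WidePullback.π _ k

/-- The base map of the Čech nerve of the map of types. -/
abbrev famBaseP (n : ℕ) :
    widePullback ((yoneda.{u, u}.obj (u.obj U)).obj V) (fun _ : Fin (n + 1) => ((fcPre' u).obj (FormalCoproduct.mk ι Y)).obj V)
        (fun _ => (famQ u Y).app V) ⟶ (yoneda.{u, u}.obj (u.obj U)).obj V :=
  WidePullback.base _

/-- Comparison with the Čech nerve of a map of types. -/
def famCompAppP (n : ℕ) :
    ((famNerveP u Y).obj (op ⦋n⦌)).obj V ⟶
      widePullback ((yoneda.{u, u}.obj (u.obj U)).obj V) (fun _ : Fin (n + 1) => ((fcPre' u).obj (FormalCoproduct.mk ι Y)).obj V)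
        (fun _ => (famQ u Y).app V) :=
  WidePullback.lift ((famAugP u Y).hom.app (op ⦋n⦌) |>.app V)
    (fun k => ((fcPre' u).map (FormalCoproduct.powerπ (FormalCoproduct.mk ι Y) k)).app V)
    (fun k => congr_app ((fcToBase'_naturality u (FormalCoproduct.powerπ (FormalCoproduct.mk ι Y) k)).trans
      (fcToBase'_naturality u (FormalCoproduct.powerπ (FormalCoproduct.mk ι Y)
        (α := ToType (⦋n⦌ : SimplexCategory)) (0 : Fin (n + 1)))).symm) V)

theorem famCompAppP_π (n : ℕ) (k : Fin (n + 1)) (z : ((famNerveP u Y).obj (op ⦋n⦌)).obj V) :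
    famπP u Y V n k (famCompAppP u Y V n z) =
      (⟨z.1 k, z.2 ≫ u.map (Pi.π (Y ∘ z.1) k).left⟩ : Σ i : ι, V.unop ⟶ u.obj (Y i).left) :=
  ConcreteCategory.congr_hom (WidePullback.lift_π (arrows := fun _ : Fin (n + 1) => (famQ u Y).app V)
    _ _ _ k) z

theorem famWP_ext {n : ℕ}
    {x y : widePullback ((yoneda.{u, u}.obj (u.obj U)).obj V)
      (fun _ : Fin (n + 1) => ((fcPre' u).obj (FormalCoproduct.mk ι Y)).obj V)
      (fun _ => (famQ u Y).app V)}
    (h : ∀ k, famπP u Y V n k x = famπP u Y V n k y) : x = y := by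
  have e : (TypeCat.ofHom (fun _ : PUnit.{u + 1} => x) : PUnit.{u + 1} ⟶ _) =
      TypeCat.ofHom (fun _ => y) := by
    refine WidePullback.hom_ext (fun _ : Fin (n + 1) => (famQ u Y).app V) _ _ (fun k => ?_) ?_
    · ext _
      exact h k
    · rw [← WidePullback.π_arrow (fun _ : Fin (n + 1) => (famQ u Y).app V) 0]
      ext _
      exact congrArg ((famQ u Y).app V) (h 0)
  exact ConcreteCategory.congr_hom e PUnit.unit

theorem bijective_famCompAppP (n : ℕ) : Function.Bijective (famCompAppP u Y V n) := by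
  constructor
  · rintro ⟨a, h⟩ ⟨a', h'⟩ e
    have ek : ∀ k, (⟨a k, h ≫ u.map (Pi.π (Y ∘ a) k).left⟩ : Σ i : ι, V.unop ⟶ u.obj (Y i).left) =
        ⟨a' k, h' ≫ u.map (Pi.π (Y ∘ a') k).left⟩ := fun k =>
      (famCompAppP_π u Y V n k ⟨a, h⟩).symm.trans ((congrArg (famπP u Y V n k) e).trans
        (famCompAppP_π u Y V n k ⟨a', h'⟩))
    obtain rfl : a = a' := funext fun k => congrArg Sigma.fst (ek k)
    have ek' : ∀ k, h ≫ u.map (Pi.π (Y ∘ a) k).left = h' ≫ u.map (Pi.π (Y ∘ a) k).left :=
      fun k => eq_of_heq (Sigma.mk.inj_iff.1 (ek k)).2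
    let W := (Over.post u).obj (∏ᶜ Y ∘ a)
    have e0 : h ≫ W.hom = h' ≫ W.hom := by
      refine (congrArg (h ≫ ·) (Over.w ((Over.post u).map (Pi.π (Y ∘ a) (0 : Fin (n + 1))))).symm).trans ?_
      refine ((Category.assoc _ _ _).symm.trans (congrArg (· ≫ _) (ek' 0))).trans ?_
      exact (Category.assoc _ _ _).trans
        (congrArg (h' ≫ ·) (Over.w ((Over.post u).map (Pi.π (Y ∘ a) (0 : Fin (n + 1))))))
    have e1 : (Over.homMk h : Over.mk (h ≫ W.hom) ⟶ W) = Over.homMk h' e0.symm :=
      Fan.IsLimit.hom_ext (postFanIsLimit u (Y ∘ a)) _ _ fun k => by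
        ext
        exact ek' k
    exact congrArg (fun t => (⟨a, t⟩ : ((famNerveP u Y).obj (op ⦋n⦌)).obj V))
      (congrArg Over.Hom.left e1)
  · intro w
    let x : Fin (n + 1) → Σ i : ι, V.unop ⟶ u.obj (Y i).left := fun k => famπP u Y V n k w
    let b : V.unop ⟶ u.obj U := famBaseP u Y V n w
    have hx : ∀ k, (x k).2 ≫ u.map (Y (x k).1).hom = b := fun k =>
      ConcreteCategory.congr_hom
        (WidePullback.π_arrow (fun _ : Fin (n + 1) => (famQ u Y).app V) k) w
    let hk : ∀ k, Over.mk b ⟶ (Over.post u).obj (Y (x k).1) := fun k => Over.homMk (x k).2 (hx k)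
    let h : Over.mk b ⟶ (Over.post u).obj (∏ᶜ fun k => Y (x k).1) :=
      Fan.IsLimit.lift (postFanIsLimit u fun k => Y (x k).1) hk
    let z : ((famNerveP u Y).obj (op ⦋n⦌)).obj V := ⟨fun k => (x k).1, h.left⟩
    have hz : ∀ k, famπP u Y V n k (famCompAppP u Y V n z) = famπP u Y V n k w := by
      intro k
      refine (famCompAppP_π u Y V n k z).trans ?_
      refine Eq.trans ?_ (Sigma.eta (x k))
      refine congrArg (Sigma.mk (x k).1) ?_
      exact congrArg Over.Hom.left (Fan.IsLimit.fac (postFanIsLimit u fun k => Y (x k).1) hk k)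
    exact ⟨z, famWP_ext u Y V hz⟩

/-- The comparison as a natural isomorphism. -/
def famCompP : ((SimplicialObject.Augmented.whiskering (Dᵒᵖ ⥤ Type u) (Type u)).obj
      ((evaluation _ _).obj V)).obj (famAugP u Y) ⟶
    (famArrowP u Y V).augmentedCechNerve where
  left :=
    { app := fun n => famCompAppP u Y V n.unop.len
      naturality := fun a b g => by
        ext z
        refine famWP_ext u Y V fun k => ?_
        refine (famCompAppP_π u Y V _ k _).trans ?_
        refine Eq.trans ?_ (ConcreteCategory.congr_hom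
          (WidePullback.lift_π (arrows := fun _ : Fin (b.unop.len + 1) => (famQ u Y).app V) _ _ _ k)
          (famCompAppP u Y V a.unop.len z)).symm
        refine Eq.trans ?_ (famCompAppP_π u Y V _ _ z).symm
        exact ConcreteCategory.congr_hom (congr_app ((((fcPre' u)).map_comp _ _).symm.trans
          (congrArg (fcPre' u).map (FormalCoproduct.mapPower_π _ _ k))) V) z }
  right := 𝟙 _
  w := by
    refine NatTrans.ext (funext fun n => ?_)
    change famCompAppP u Y V n.unop.len ≫ famBaseP u Y V n.unop.len = (_ ≫ 𝟙 _) ≫ 𝟙 _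
    rw [Category.comp_id, Category.comp_id]
    exact WidePullback.lift_base (arrows := fun _ : Fin (n.unop.len + 1) => (famQ u Y).app V) _ _ _

theorem isIso_famCompP_left : IsIso (famCompP u Y V).left := by
  haveI : ∀ n, IsIso ((famCompP u Y V).left.app n) := fun n =>
    (isIso_iff_bijective _).2 (bijective_famCompAppP u Y V _)
  exact NatIso.isIso_of_isIso_app _

/-- The inverse comparison. -/
def famCompInvP : (famArrowP u Y V).augmentedCechNerve ⟶
    ((SimplicialObject.Augmented.whiskering (Dᵒᵖ ⥤ Type u) (Type u)).obj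
      ((evaluation _ _).obj V)).obj (famAugP u Y) :=
  haveI := isIso_famCompP_left u Y V
  (Comma.isoMk (asIso (famCompP u Y V).left) (Iso.refl _) (famCompP u Y V).w).inv

end pointwise

/-- The free simplicial presheaf of a family. -/
abbrev famFreeP : SimplicialObject.Augmented (Dᵒᵖ ⥤ AddCommGrpCat.{u}) :=
  ((SimplicialObject.Augmented.whiskering _ _).obj
    ((Functor.whiskeringRight Dᵒᵖ _ _).obj AddCommGrpCat.free.{u})).obj (famAugP u Y)

theorem lsFacP (J : GrothendieckTopology D) {A B E : Dᵒᵖ ⥤ Type u} {a : A ⟶ B} {b : B ⟶ E}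
    {c : A ⟶ E} (fac : a ≫ b = c) (h : Presheaf.IsLocallySurjective J c) :
    Presheaf.IsLocallySurjective J b :=
  Presheaf.isLocallySurjective_of_isLocallySurjective_fac J fac

theorem mono_famFreeP (V : Dᵒᵖ) (n : ℕ) :
    Mono (HomologicalComplex.homologyMap (AlternatingFaceMapComplex.ε.app
      (((SimplicialObject.Augmented.whiskering _ _).obj
        ((evaluation _ _).obj V : (Dᵒᵖ ⥤ AddCommGrpCat.{u}) ⥤ AddCommGrpCat.{u})).obj
          (famFreeP u Y))) n) := by
  let g := (famArrowP u Y V).hom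
  obtain ⟨R, p, j, hj, hpm, hp⟩ : ∃ (R : Type u) (p : (famArrowP u Y V).left ⟶ R)
      (j : R ⟶ (famArrowP u Y V).right) (_ : Mono j), p ≫ j = g ∧ Function.Surjective p := by
    refine ⟨Set.range g, TypeCat.ofHom (Set.rangeFactorization g), TypeCat.ofHom Subtype.val,
      (mono_iff_injective _).2 Subtype.val_injective, ?_, Set.rangeFactorization_surjective⟩
    ext x
    rfl
  let S : SplitEpi p := ⟨TypeCat.ofHom (Function.surjInv hp), by
    ext x
    exact Function.surjInv_eq hp x⟩
  let Φ := nerveHom (F := 𝟭 (Type u)) (f := famArrowP u Y V) p j hpm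
  let Θ := famCompInvP u Y V
  let W := (SimplicialObject.Augmented.whiskering _ _).obj AddCommGrpCat.free.{u}
  haveI h1 : IsIso (W.map (Φ ≫ Θ)).left := by
    haveI hΦ : IsIso Φ.left :=
      isIso_nerveHom_left (F := 𝟭 (Type u)) (f := famArrowP u Y V) p j hpm
    haveI hΘ : IsIso Θ.left := by
      haveI := isIso_famCompP_left u Y V
      exact (inferInstance : IsIso (asIso (famCompP u Y V).left).inv)
    haveI : IsIso (Φ.left ≫ Θ.left) := IsIso.comp_isIso' hΦ hΘ
    exact (inferInstance : IsIso (((SimplicialObject.whiskering _ _).obj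
      AddCommGrpCat.free.{u}).map (Φ.left ≫ Θ.left)))
  haveI h2 : Mono (W.map (Φ ≫ Θ)).right := by
    haveI : Mono Φ.right := inferInstanceAs (Mono j)
    haveI : Mono Θ.right := by
      change Mono (Iso.refl ((yoneda.{u, u}.obj (u.obj U)).obj V)).inv
      infer_instance
    haveI : Mono (Φ ≫ Θ).right := @mono_comp _ _ _ _ _ Φ.right ‹_› Θ.right ‹_›
    exact mono_free_map _
  exact mono_homologyMap_epsilon (W.map (Φ ≫ Θ))
    ((Arrow.AugmentedCechNerve.extraDegeneracy (Arrow.mk p) S).map AddCommGrpCat.free.{u}) n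

variable (J : GrothendieckTopology D) [Presheaf.IsLocallySurjective J (famQ u Y)]

/-- The free resolution of `Z[Q]` attached to a family. -/
abbrev famShP : SimplicialObject.Augmented (Sheaf J AddCommGrpCat.{u}) :=
  ((SimplicialObject.Augmented.whiskering _ _).obj (presheafToSheaf J AddCommGrpCat.{u})).obj
    (famFreeP u Y)

instance quasiIso_famShP : QuasiIso (AlternatingFaceMapComplex.ε.app (famShP u Y J)) := by
  refine quasiIso_sheafify_epsilon J _ (mono_famFreeP u Y) ?_
  haveI : Presheaf.IsLocallySurjective J ((famAugP u Y).hom.app (op ⦋0⦌)) := by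
    let l : FormalCoproduct.mk ι Y ⟶ (FormalCoproduct.mk ι Y).power (Fin (0 + 1)) :=
      { f := fun i _ => i
        φ := fun i => Pi.lift fun _ => 𝟙 _ }
    have hl : l ≫ FormalCoproduct.powerπ _ (0 : Fin (0 + 1)) = 𝟙 _ := by
      refine FormalCoproduct.hom_ext rfl fun i => ?_
      exact (Category.comp_id _).trans (Pi.lift_π (fun _ : Fin (0 + 1) => 𝟙 (Y i)) 0)
    refine lsFacP J (a := (fcPre' u).map l) (c := famQ u Y) ?_ (by assumption)
    change (fcPre' u).map l ≫ (fcPre' u).map _ ≫ famQ u Y = famQ u Y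
    refine (Category.assoc _ _ _).symm.trans ?_
    refine (congrArg (· ≫ famQ u Y) (((fcPre' u).map_comp _ _).symm.trans
      ((congrArg (fcPre' u).map hl).trans ((fcPre' u).map_id _)))).trans (Category.id_comp (famQ u Y))
  have := isLocallySurjective_free J ((famAugP u Y).hom.app (op ⦋0⦌))
  refine lsComp J this ?_
  have hi := ((Functor.constComp SimplexCategoryᵒᵖ (famAugP u Y).right
    ((Functor.whiskeringRight Dᵒᵖ _ _).obj AddCommGrpCat.free.{u})).app (op ⦋0⦌)).isIso_hom
  exact @Presheaf.isLocallySurjective_of_iso _ _ J _ _ _ _ _ _ _ _ _ hi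

variable {J}

/-- The components of the image family in degree `n`. -/
abbrev famObjP (n : ℕ) : FormalCoproduct.{u} (Over (u.obj U)) :=
  (fcPost u).obj (famObj Y n)

variable (J) in
/-- The free chain complex of the image family. -/
abbrev famChainP : ChainComplex (Sheaf J AddCommGrpCat.{u}) ℕ :=
  AlternatingFaceMapComplex.obj
    (((SimplicialObject.whiskering _ _).obj
      ((Functor.whiskeringRight Dᵒᵖ _ _).obj AddCommGrpCat.free.{u} ⋙
        presheafToSheaf J AddCommGrpCat.{u})).obj (famNerveP u Y))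

variable (F : Sheaf J AddCommGrpCat.{u})

/-- The Čech complex of the family with values in the composite. -/
abbrev famCxP : CochainComplex AddCommGrpCat.{u} ℕ :=
  (cechComplexFunctor Y).obj ((Over.forget U).op ⋙ u.op ⋙ F.obj)

/-- The projections. -/
abbrev famProjP (n : ℕ) (i : (famObj Y n).I) :
    (famCxP u Y F).X n ⟶ F.obj.obj (op (u.obj ((famObj Y n).obj i).left)) :=
  Pi.π (fun i : (famObj Y n).I => F.obj.obj (op (u.obj ((famObj Y n).obj i).left))) i

/-- The components. -/
def famComponentP (n : ℕ) (i : (famObj Y n).I) :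
    AddCommGrpCat.of ((famChainP u Y J).X n ⟶ F) ⟶
      F.obj.obj (op (u.obj ((famObj Y n).obj i).left)) :=
  AddCommGrpCat.ofHom ((Pi.evalAddMonoidHom _ i).comp (fcEval (famObjP u Y n) F))

/-- Morphisms out of the free complex as cochains. -/
def famHomP (n : ℕ) : AddCommGrpCat.of ((famChainP u Y J).X n ⟶ F) ⟶ (famCxP u Y F).X n :=
  Pi.lift (famComponentP u Y F n)

theorem famProj_famHomP (n : ℕ) (φ : (famChainP u Y J).X n ⟶ F) (i : (famObj Y n).I) :
    famProjP u Y F n i ((famHomP u Y F n).hom φ) = fcEval (famObjP u Y n) F φ i :=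
  ConcreteCategory.congr_hom (Pi.lift_π (famComponentP u Y F n) i) φ

theorem famCxP_ext (n : ℕ) {x y : (famCxP u Y F).X n}
    (h : ∀ i, famProjP u Y F n i x = famProjP u Y F n i y) : x = y := by
  refine Concrete.limit_ext
    (Discrete.functor fun i : (famObj Y n).I => F.obj.obj (op (u.obj ((famObj Y n).obj i).left))) x y
    fun j => ?_
  exact h j.as

theorem famHomP_bijective (n : ℕ) : Function.Bijective (famHomP u Y F n).hom := by
  constructor
  · intro φ ψ e
    refine fcEval_injective (famObjP u Y n) F (funext fun i => ?_)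
    exact (famProj_famHomP u Y F n φ i).symm.trans
      ((congrArg (famProjP u Y F n i) e).trans (famProj_famHomP u Y F n ψ i))
  · intro x
    obtain ⟨φ, hφ⟩ := fcEval_surjective (famObjP u Y n) F fun i => famProjP u Y F n i x
    exact ⟨φ, famCxP_ext u Y F n fun i => (famProj_famHomP u Y F n φ i).trans (congrFun hφ i)⟩

theorem famHomP_d (n : ℕ) (φ : (famChainP u Y J).X n ⟶ F) :
    (famCxP u Y F).d n (n + 1) ((famHomP u Y F n).hom φ) =
      (famHomP u Y F (n + 1)).hom ((famChainP u Y J).d (n + 1) n ≫ φ) := by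
  rw [AlternatingFaceMapComplex.obj_d_eq, Preadditive.sum_comp, map_sum]
  simp only [Preadditive.zsmul_comp, map_zsmul]
  change ((AlternatingCofaceMapComplex.obj
    ((FormalCoproduct.cosimplicialObjectFunctor (FormalCoproduct.mk ι Y).cech).obj
      ((Over.forget U).op ⋙ u.op ⋙ F.obj))).d n (n + 1)).hom ((famHomP u Y F n).hom φ) = _
  simp only [AlternatingCofaceMapComplex.obj, CochainComplex.of_d, AlternatingCofaceMapComplex.objD]
  refine (fam_sum_apply _ _ _).trans (Finset.sum_congr rfl fun j _ => ?_)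
  refine (fam_zsmul_apply _ _ _).trans (congrArg ((-1 : ℤ) ^ (j : ℕ) • ·) ?_)
  refine famCxP_ext u Y F (n + 1) fun i => ?_
  refine Eq.trans ?_ (famProj_famHomP u Y F (n + 1) _ i).symm
  refine Eq.trans ?_ (fcEval_map
    ((fcPost u).map ((FormalCoproduct.mk ι Y).cech.map (SimplexCategory.δ j).op)) φ i).symm
  refine (ConcreteCategory.congr_hom (Pi.lift_π
    (f := fun i : (famObj Y (n + 1)).I => F.obj.obj (op (u.obj ((famObj Y (n + 1)).obj i).left)))
      _ i) ((famHomP u Y F n).hom φ)).trans ?_
  exact congrArg (F.obj.map _) (famProj_famHomP u Y F n φ _)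

omit [Presheaf.IsLocallySurjective J (famQ u Y)] in
theorem isLocallySurjective_famQ (J₀ : GrothendieckTopology C) (hu : CoverPreserving J₀ J u)
    (hY : Sieve.ofArrows (fun i => (Y i).left) (fun i => (Y i).hom) ∈ J₀ U) :
    Presheaf.IsLocallySurjective J (famQ u Y) := by
  constructor
  intro V s
  refine J.superset_covering ?_ (J.pullback_stable s (hu.cover_preserve hY))
  rintro W g ⟨Z, f, h, hf, e⟩
  obtain ⟨i, a, rfl⟩ := Sieve.ofArrows.exists hf
  refine ⟨⟨i, h ≫ u.map a⟩, ?_⟩
  change (h ≫ u.map a) ≫ u.map (Y i).hom = g ≫ s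
  rw [Category.assoc, ← u.map_comp]
  exact e.symm

omit [Presheaf.IsLocallySurjective J (famQ u Y)] in
/-- The direct image of an injective sheaf has exact Čech complexes. -/
theorem isZero_famCxP_injective (J₀ : GrothendieckTopology C) (hu : CoverPreserving J₀ J u)
    (hY : Sieve.ofArrows (fun i => (Y i).left) (fun i => (Y i).hom) ∈ J₀ U)
    [Injective F] (n : ℕ) : IsZero ((famCxP u Y F).homology (n + 1)) := by
  haveI := isLocallySurjective_famQ u Y J₀ hu hY (J := J)
  rw [← HomologicalComplex.exactAt_iff_isZero_homology,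
    (famCxP u Y F).exactAt_iff' n (n + 1) (n + 2) (by simp) (by simp), ShortComplex.ab_exact_iff]
  intro x hx
  obtain ⟨φ, rfl⟩ := (famHomP_bijective u Y F (n + 1)).2 x
  let π := AlternatingFaceMapComplex.ε.app (famShP u Y J)
  haveI hπ : QuasiIso π := quasiIso_famShP u Y J
  have hd : (famChainP u Y J).d (n + 2) (n + 1) ≫ φ = 0 := (famHomP_bijective u Y F (n + 2)).1
      (((famHomP_d u Y F (n + 1) φ).symm.trans hx).trans (map_zero _).symm)
  obtain ⟨c, -, hker⟩ := SeqResolution.exists_class.{u} n (seqResolution π) F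
    (fun _ q => Ext.subsingleton_of_injective _ F q)
  obtain ⟨ψ, hψ⟩ := (hker ⟨φ, hd⟩).1 ((Ext.subsingleton_of_injective _ F n).elim _ _)
  exact ⟨(famHomP u Y F n).hom ψ, (famHomP_d u Y F n ψ).trans (congrArg _ hψ)⟩

omit Y in
/-- The direct image of an injective sheaf is acyclic on objects. -/
theorem subsingleton_HU_push_injective' (J₀ : GrothendieckTopology C) [u.IsContinuous J₀ J]
    (hu : CoverPreserving J₀ J u) (I : Sheaf J AddCommGrpCat.{u}) [Injective I] (V : C) (p : ℕ) :
    Subsingleton (CohSite.HU ((CohSite.push J J₀ u).obj I) (p + 1) V) := by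
  refine subsingleton_HU_cartan Set.univ
    (fun W κ Z => Sieve.ofArrows (fun i => (Z i).left) (fun i => (Z i).hom) ∈ J₀ W)
    (fun W κ Z hZ => ⟨trivial, hZ, fun _ _ => trivial⟩) (fun W _ T hT => ?_) _
    (fun W κ Z hZ n => ?_) p V trivial
  swap
  · have e : ((CohSite.push J J₀ u).obj I).obj = u.op ⋙ I.obj := rfl
    rw [e]
    exact isZero_famCxP_injective u Z I J₀ hu hZ n
  refine ⟨Σ X : C, {f : X ⟶ W // T f}, fun z => Over.mk z.2.1, ?_, fun z => z.2.2⟩
  refine J₀.superset_covering (fun X f hf => ?_) hT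
  exact Sieve.ofArrows_mk (fun z : Σ X : C, {f : X ⟶ W // T f} => z.1) (fun z => z.2.1) ⟨X, f, hf⟩

end Groth.Agent.SiteBase
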